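import Cfsg.Agent.Lib.Helper23.LargeFitD
import Cfsg.Agent.Lib.Helper32.Rank2PLen

set_option autoImplicit false
set_option linter.style.haveILetI false
set_option linter.unusedSectionVars false

/-!
# Bender–Glauberman, Theorem 10.1

`M` maximal in a minimal simple group of odd order, `p ∈ σ(M)`, `X` a non-identity `p`-subgroup of
`M`: if `gXg⁻¹ ≤ M` then `g ∈ M C_G(X)`.  The proof is parametrised by the Uniqueness Theorem
(`UniqThm`), to be supplied by the statement S1403.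
-/

namespace Cfsg.Agent.Lib.Helper56.BG10

open Subgroup Cfsg Cfsg.Agent.Lib.Helper33 Cfsg.Agent.Lib.Helper24 Cfsg.Agent.Lib.Helper32
  Cfsg.Agent.Lib.Helper23

universe u

variable {G : Type u} [Group G] [Finite G]

/-- The statement of the Uniqueness Theorem (B&G 9.6). -/
def UniqThm (G : Type u) [Group G] : Prop :=
  ∀ K : Subgroup G, K ≠ ⊤ → ¬ Cfsg.RankLE 1 K →
    (¬ Cfsg.RankLE 2 K ∨ ¬ Cfsg.RankLE 2 (Subgroup.centralizer (K : Set G))) →
    Cfsg.InUniqueMaximal K

/-- every proper subgroup lies in a maximal subgroup -/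
theorem exists_coatom_ge {N : Subgroup G} (hN : N ≠ ⊤) : ∃ L : Subgroup G, IsCoatom L ∧ N ≤ L := by
  rcases eq_top_or_exists_le_coatom N with h | ⟨L, hL, hNL⟩
  · exact absurd h hN
  · exact ⟨L, hL, hNL⟩

/-- a subgroup in a unique maximal subgroup `M`: every proper overgroup lies in `M` -/
theorem le_of_inUniqueMaximal {R M N : Subgroup G} (hR : InUniqueMaximal R) (hM : IsCoatom M)
    (hRM : R ≤ M) (hRN : R ≤ N) (hN : N ≠ ⊤) : N ≤ M := by
  obtain ⟨L, hL, hNL⟩ := exists_coatom_ge hN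
  obtain ⟨L₀, -, huniq⟩ := hR
  have h1 : L = L₀ := huniq L ⟨hL, hRN.trans hNL⟩
  have h2 : M = L₀ := huniq M ⟨hM, hRM⟩
  rw [h2, ← h1]
  exact hNL

theorem card_lt_of_lt' {X Y : Subgroup G} (h : X < Y) : Nat.card X < Nat.card Y := by
  refine lt_of_le_of_ne (Subgroup.card_le_of_le h.le) ?_
  intro he
  exact h.ne (eq_of_le_of_card_ge h.le he.ge)

variable {p : ℕ} [Fact p.Prime]

/-- a `p`-subgroup of `V` lies in a Sylow `p`-subgroup of `V` -/
theorem exists_sylowIn_ge {V Y : Subgroup G} (hYV : Y ≤ V) (hY : IsPGroup p Y) :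
    ∃ R : Subgroup G, Y ≤ R ∧ R ≤ V ∧ IsPGroup p R ∧ ¬ p ∣ R.relIndex V := by
  obtain ⟨S, hS⟩ := IsPGroup.exists_le_sylow (hY.comap_subtype (K := V))
  obtain ⟨h1, h2, h3⟩ := sylow_map_facts V S
  refine ⟨_, ?_, h1, h2, h3⟩
  intro y hy
  exact ⟨⟨y, hYV hy⟩, hS (Subgroup.mem_subgroupOf.mpr hy), rfl⟩

theorem cj_le_of_mem {M H : Subgroup G} {m : G} (hm : m ∈ M) (hH : H ≤ M) : cj m H ≤ M := by
  intro x hx
  obtain ⟨h, hh, rfl⟩ := mem_cj'.mp hx
  exact M.mul_mem (M.mul_mem hm (hH hh)) (M.inv_mem hm)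

theorem centralizer_anti' {X R : Subgroup G} (h : X ≤ R) :
    centralizer (R : Set G) ≤ centralizer (X : Set G) :=
  Subgroup.centralizer_le (by exact_mod_cast h)

theorem centralizer_le_normalizer' (X : Subgroup G) :
    centralizer (X : Set G) ≤ normalizer (X : Set G) := by
  intro c hc
  rw [mem_normalizer_iff]
  intro x
  rw [mem_centralizer_iff] at hc
  constructor
  · intro hx
    have : c * x * c⁻¹ = x := by rw [← hc x hx, mul_inv_cancel_right]
    rw [this]; exact hx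
  · intro hx
    have h1 := hc _ hx
    -- (c x c⁻¹) c = c (c x c⁻¹)
    have h2 : x = c * x * c⁻¹ := by
      have : c * x * c⁻¹ * c = c * (c * x * c⁻¹) := h1
      have h3 : c * x = c * (c * x * c⁻¹) := by rw [← this]; group
      exact mul_left_cancel h3
    rw [h2]; exact hx

theorem cj_eq_of_mem_centralizer {X : Subgroup G} {c : G} (hc : c ∈ centralizer (X : Set G)) :
    cj c X = X :=
  cj_eq_self_iff.mpr (centralizer_le_normalizer' X hc)

/-- conjugation by an element of the normalizer preserves the centralizer -/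
theorem conj_mem_centralizer {X : Subgroup G} {m k : G} (hm : m ∈ normalizer (X : Set G))
    (hk : k ∈ centralizer (X : Set G)) : m⁻¹ * k * m ∈ centralizer (X : Set G) := by
  have h1 : cj m⁻¹ X = X := cj_eq_self_iff.mpr ((normalizer (X : Set G)).inv_mem hm)
  have h2 : centralizer ((cj m⁻¹ X : Subgroup G) : Set G) = cj m⁻¹ (centralizer (X : Set G)) :=
    centralizer_cj m⁻¹ X
  rw [h1] at h2
  rw [h2, mem_cj']
  exact ⟨k, hk, by rw [inv_inv]⟩

/-- The standing context of B&G 10.1 -/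
structure Ctx (G : Type u) [Group G] [Finite G] (p : ℕ) (M P : Subgroup G) : Prop where
  hG : IsMinSimpleOddOrder G
  hU : UniqThm G
  hM : IsCoatom M
  hPM : P ≤ M
  hP : IsPGroup p P
  hPi : ¬ p ∣ P.relIndex M
  hNP : normalizer (P : Set G) ≤ M

namespace Ctx

variable {M P : Subgroup G} (c : Ctx G p M P)
include c

theorem hPtop : ¬ p ∣ P.relIndex ⊤ := by
  rw [Subgroup.relIndex_top_right]
  exact not_dvd_index_of_normalizer_le c.hPM c.hP c.hPi c.hNP

/-- the conclusion of 10.1(a) for `X` -/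
def Good (_c : Ctx G p M P) (X : Subgroup G) : Prop :=
  ∀ g : G, cj g X ≤ M → ∃ m ∈ M, ∃ z ∈ centralizer (X : Set G), g = m * z

/-- Step 1: a `p`-subgroup `R ≥ Y` lies in a conjugate of `M` by an element of `C_G(Y)`. -/
theorem exists_cj_le {Y R : Subgroup G} (hY : c.Good Y) (hYR : Y ≤ R) (hR : IsPGroup p R) :
    ∃ z ∈ centralizer (Y : Set G), cj z R ≤ M := by
  obtain ⟨h, -, hh⟩ := sylow_sub (le_top : P ≤ ⊤) c.hP c.hPtop (le_top : R ≤ ⊤) hR
  have h1 : cj h Y ≤ M := (cj_mono hYR).trans (hh.trans c.hPM)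
  obtain ⟨m, hm, z, hz, rfl⟩ := hY h h1
  refine ⟨z, hz, ?_⟩
  have h2 : cj z R = cj m⁻¹ (cj (m * z) R) := by rw [cj_mul, cj_inv_cj]
  rw [h2]
  exact cj_le_of_mem (M.inv_mem hm) (hh.trans c.hPM)

/-- Step 3: `N_G(X) ⊆ M C_G(X)` given a Sylow `p`-subgroup `R₀` of `N_G(X)` inside `M`,
properly containing `X`, for which the claim holds. -/
theorem normalizer_sub {X R₀ : Subgroup G} (hXM : X ≤ M) (hX1 : X ≠ ⊥)
    (hXR : X ≤ R₀) (hR₀N : R₀ ≤ normalizer (X : Set G)) (hR₀ : IsPGroup p R₀)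
    (hR₀i : ¬ p ∣ R₀.relIndex (normalizer (X : Set G))) (hR₀M : R₀ ≤ M) (hgood : c.Good R₀) :
    ∀ n ∈ normalizer (X : Set G), ∃ m ∈ M, ∃ z ∈ centralizer (X : Set G), n = m * z := by
  haveI := c.hG.2.1
  set N := normalizer (X : Set G) with hN
  have hMtop : M ≠ ⊤ := c.hM.1
  have hXtop : X ≠ ⊤ := fun h => hMtop (top_le_iff.mp (h ▸ hXM))
  have hNtop : N ≠ ⊤ := normalizer_ne_top_of_simple hX1 hXtop
  by_cases hr : PRankLE p 2 ↥R₀
  · -- rank at most two: `N = O_{p'}(N) N_N(R₀)`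
    haveI : Group.IsSolvable ↥N := isSolvable_of_ne_top c.hG hNtop
    have hodd : Odd (Nat.card ↥N) := odd_card_subgroup c.hG N
    have hR' : IsPGroup p (R₀.subgroupOf N) := hR₀.comap_subtype
    let S₀ : Sylow p ↥N := hR'.toSylow hR₀i
    have hS₀ : (S₀ : Subgroup ↥N) = R₀.subgroupOf N := IsPGroup.toSylow_coe hR' hR₀i
    have hrS : PRankLE p 2 ↥(S₀ : Subgroup ↥N) := by
      rw [hS₀]
      exact Rank2.pRankLE_of_injective (Subgroup.subgroupOfEquivOfLe hR₀N).toMonoidHom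
        (Subgroup.subgroupOfEquivOfLe hR₀N).injective hr
    obtain ⟨-, hsup⟩ := Rank2.pPrimeCore_sup_normalizer_of_rank_two hodd p S₀ hrS
    haveI hOn : (pPrimeCore p ↥N).Normal := Cfsg.Agent.Lib.Helper22.pPrimeCore_normal' p ↥N
    -- `O_{p'}(N)` centralizes `X`
    have hOX : pPrimeCoreOf p N ≤ centralizer (X : Set G) := by
      apply le_centralizer_of_normalize_of_inf_eq_bot
      · exact (pPrimeCoreOf_le p N).trans le_rfl
      · exact (le_normalizer : X ≤ N).trans (le_normalizer_pPrimeCoreOf p N)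
      · apply Disjoint.eq_bot
        apply Subgroup.disjoint_of_coprime_natCard
        have hXp : IsPGroup p X := hR₀.to_le hXR
        obtain ⟨k, hk⟩ := IsPGroup.iff_card.mp hXp
        rw [hk]
        exact Nat.Coprime.pow_right k (card_pPrimeCoreOf_coprime p N)
    intro n hn
    have hmem : (⟨n, hn⟩ : ↥N) ∈ pPrimeCore p ↥N ⊔ normalizer ((S₀ : Subgroup ↥N) : Set ↥N) := by
      rw [hsup]; exact mem_top _
    rw [Subgroup.mem_sup_of_normal_left] at hmem
    obtain ⟨k, hk, z, hz, hkz⟩ := hmem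
    have hkz' : (k : G) * (z : G) = n := by
      have := congrArg Subtype.val hkz
      simpa using this
    have hkC : (k : G) ∈ centralizer (X : Set G) := hOX ⟨k, hk, rfl⟩
    -- `z` normalizes `R₀`
    have hzR : (z : G) ∈ normalizer (R₀ : Set G) := by
      rw [hS₀] at hz
      rw [mem_normalizer_iff] at hz ⊢
      intro x
      constructor
      · intro hx
        have hxN : x ∈ N := hR₀N hx
        have := (hz ⟨x, hxN⟩).mp (Subgroup.mem_subgroupOf.mpr hx)
        exact Subgroup.mem_subgroupOf.mp this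
      · intro hx
        have hxN : x ∈ N := by
          have h1 : (z : G)⁻¹ * ((z : G) * x * (z : G)⁻¹) * (z : G) ∈ N :=
            N.mul_mem (N.mul_mem (N.inv_mem z.2) (hR₀N hx)) z.2
          have h2 : (z : G)⁻¹ * ((z : G) * x * (z : G)⁻¹) * (z : G) = x := by group
          rwa [h2] at h1
        have := (hz ⟨x, hxN⟩).mpr (Subgroup.mem_subgroupOf.mpr hx)
        exact Subgroup.mem_subgroupOf.mp this
    have hzM : cj (z : G) R₀ ≤ M := by
      rw [cj_eq_self_iff.mpr hzR]; exact hR₀M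
    obtain ⟨m, hm, z', hz', hzeq⟩ := hgood (z : G) hzM
    have hz'X : z' ∈ centralizer (X : Set G) := centralizer_anti' hXR hz'
    have hmN : m ∈ N := by
      have h1 : m = (z : G) * z'⁻¹ := by rw [hzeq]; group
      rw [h1]
      exact N.mul_mem z.2 (N.inv_mem (centralizer_le_normalizer' X hz'X))
    refine ⟨m, hm, (m⁻¹ * (k : G) * m) * z', ?_, ?_⟩
    · exact (centralizer (X : Set G)).mul_mem (conj_mem_centralizer hmN hkC) hz'X
    · rw [← hkz', hzeq]; group
  · -- rank at least three: the Uniqueness Theorem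
    have h1 : ¬ RankLE 2 ↥R₀ := fun h => hr (h p Fact.out)
    have h2 : ¬ RankLE 1 ↥R₀ := fun h =>
      hr (pRankLE_mono (Fact.out : p.Prime).pos (by norm_num) (h p Fact.out))
    have hR₀top : R₀ ≠ ⊤ := fun h => hMtop (top_le_iff.mp (h ▸ hR₀M))
    have hu := c.hU R₀ hR₀top h2 (Or.inl h1)
    have hNM : N ≤ M := le_of_inUniqueMaximal hu c.hM hR₀M hR₀N hNtop
    intro n hn
    exact ⟨n, hNM hn, 1, one_mem _, (mul_one n).symm⟩

/-- The inductive step for `X ≤ P`, `gXg⁻¹ ≤ P`. -/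
theorem step {X : Subgroup G} (hXP : X ≤ P) (hX1 : X ≠ ⊥)
    (ih : ∀ Y : Subgroup G, Y ≤ M → IsPGroup p Y → Nat.card X < Nat.card Y → c.Good Y)
    (g : G) (hg : cj g X ≤ P) : ∃ m ∈ M, ∃ z ∈ centralizer (X : Set G), g = m * z := by
  have hXp : IsPGroup p X := c.hP.to_le hXP
  by_cases hXeq : X = P
  · -- `X = P`
    subst hXeq
    have h1 : cj g X = X := eq_of_le_of_card_ge hg (by rw [card_cj])
    exact ⟨g, c.hNP (cj_eq_self_iff.mp h1), 1, one_mem _, (mul_one g).symm⟩
  · have hlt : X < P := lt_of_le_of_ne hXP hXeq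
    set X' := cj g X with hX'
    have hX'1 : X' ≠ ⊥ := fun h => hX1 (cj_eq_bot_iff.mp h)
    have hlt' : X' < P := by
      refine lt_of_le_of_ne hg ?_
      intro h
      have : Nat.card X = Nat.card P := by rw [← h, hX', card_cj]
      exact hXeq (eq_of_le_of_card_ge hXP this.ge)
    set N := normalizer (X : Set G) with hN
    set N' := normalizer (X' : Set G) with hN'
    have hNN' : N' = cj g N := normalizer_cj g X
    -- `Y = N_P(X)`
    have hY := normalizer_growth c.hP hlt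
    have hY' := normalizer_growth c.hP hlt'
    set Y := P ⊓ N with hYdef
    set Y' := P ⊓ N' with hY'def
    have hYp : IsPGroup p Y := c.hP.to_le inf_le_left
    have hY'p : IsPGroup p Y' := c.hP.to_le inf_le_left
    have hcardY : Nat.card X < Nat.card Y := card_lt_of_lt' hY
    have hcardY' : Nat.card X < Nat.card Y' := by
      have : Nat.card X' < Nat.card Y' := card_lt_of_lt' hY'
      rwa [hX', card_cj] at this
    have hgoodY : c.Good Y := ih Y (inf_le_left.trans c.hPM) hYp hcardY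
    have hgoodY' : c.Good Y' := ih Y' (inf_le_left.trans c.hPM) hY'p hcardY'
    -- Sylow subgroups of `N`, `N'` above `Y`, `Y'`
    obtain ⟨R, hYR, hRN, hRp, hRi⟩ := exists_sylowIn_ge (inf_le_right : Y ≤ N) hYp
    obtain ⟨R', hYR', hRN', hRp', hRi'⟩ := exists_sylowIn_ge (inf_le_right : Y' ≤ N') hY'p
    obtain ⟨z, hz, hzR⟩ := c.exists_cj_le hgoodY hYR hRp
    obtain ⟨z', hz', hzR'⟩ := c.exists_cj_le hgoodY' hYR' hRp'
    have hzX : z ∈ centralizer (X : Set G) := centralizer_anti' hY.le hz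
    have hz'X : z' ∈ centralizer (X' : Set G) := centralizer_anti' hY'.le hz'
    have hzN : z ∈ N := centralizer_le_normalizer' X hzX
    have hz'N : z' ∈ N' := centralizer_le_normalizer' X' hz'X
    set R₀ := cj z R with hR₀
    set R₀' := cj z' R' with hR₀'
    have hNz : cj z N = N := cj_eq_self_of_mem hzN
    have hN'z : cj z' N' = N' := cj_eq_self_of_mem hz'N
    have hR₀N : R₀ ≤ N := by rw [← hNz]; exact cj_mono hRN
    have hR₀'N : R₀' ≤ N' := by rw [← hN'z]; exact cj_mono hRN'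
    have hR₀p : IsPGroup p R₀ := isPGroup_cj hRp
    have hR₀'p : IsPGroup p R₀' := isPGroup_cj hRp'
    have hR₀i : ¬ p ∣ R₀.relIndex N := by
      have := relIndex_cj z R N
      rw [hNz] at this
      rw [hR₀, this]; exact hRi
    have hR₀'i : ¬ p ∣ R₀'.relIndex N' := by
      have := relIndex_cj z' R' N'
      rw [hN'z] at this
      rw [hR₀', this]; exact hRi'
    have hXR₀ : X ≤ R₀ := by
      have : cj z X ≤ cj z R := cj_mono (hY.le.trans hYR)
      rwa [cj_eq_of_mem_centralizer hzX] at this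
    have hcardR₀ : Nat.card X < Nat.card R₀ := by
      rw [hR₀, card_cj]
      exact lt_of_lt_of_le hcardY (Subgroup.card_le_of_le hYR)
    -- `g⁻¹ R₀' g` and `R₀` are Sylow subgroups of `N`
    have h1 : cj g⁻¹ R₀' ≤ N := by
      have : cj g⁻¹ R₀' ≤ cj g⁻¹ N' := cj_mono hR₀'N
      rwa [hNN', cj_inv_cj] at this
    have h2 : ¬ p ∣ (cj g⁻¹ R₀').relIndex N := by
      have := relIndex_cj g⁻¹ R₀' N'
      rw [hNN', cj_inv_cj] at this
      rw [this, ← hNN']; exact hR₀'i
    obtain ⟨n, hn, hnle⟩ := sylow_sub hR₀N hR₀p hR₀i h1 (isPGroup_cj hR₀'p)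
    have hNn : cj n N = N := cj_eq_self_of_mem hn
    have h3 : ¬ p ∣ (cj n (cj g⁻¹ R₀')).relIndex N := by
      have := relIndex_cj n (cj g⁻¹ R₀') N
      rw [hNn] at this
      rw [this]; exact h2
    have h4 : R₀ = cj n (cj g⁻¹ R₀') := sylowIn_max h3 hnle hR₀N hR₀p
    have h5 : cj (g * n⁻¹) R₀ = R₀' := by
      rw [h4, ← cj_mul, ← cj_mul]
      have : g * n⁻¹ * n * g⁻¹ = 1 := by group
      rw [this, cj_one]
    have hR₀M : R₀ ≤ M := hzR
    have hgoodR₀ : c.Good R₀ := ih R₀ hR₀M hR₀p hcardR₀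
    have h6 : cj (g * n⁻¹) R₀ ≤ M := by rw [h5]; exact hzR'
    obtain ⟨m₀, hm₀, z₀, hz₀, hgn⟩ := hgoodR₀ (g * n⁻¹) h6
    have hz₀X : z₀ ∈ centralizer (X : Set G) := centralizer_anti' hXR₀ hz₀
    have hn₁ : z₀ * n ∈ N := N.mul_mem (centralizer_le_normalizer' X hz₀X) hn
    obtain ⟨m, hm, z₁, hz₁, hmz⟩ :=
      c.normalizer_sub (hXP.trans c.hPM) hX1 hXR₀ hR₀N hR₀p hR₀i hR₀M hgoodR₀ (z₀ * n) hn₁
    refine ⟨m₀ * m, M.mul_mem hm₀ hm, z₁, hz₁, ?_⟩
    have : g = m₀ * (z₀ * n) := by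
      have : g = g * n⁻¹ * n := by group
      rw [this, hgn]; group
    rw [this, hmz]; group

/-- every `p`-subgroup of `M` has order at most `|P|` -/
theorem card_le {Y : Subgroup G} (hYM : Y ≤ M) (hY : IsPGroup p Y) : Nat.card Y ≤ Nat.card P := by
  obtain ⟨a, -, ha⟩ := sylow_sub c.hPM c.hP c.hPi hYM hY
  have := Subgroup.card_le_of_le ha
  rwa [card_cj] at this

/-- B&G 10.1(a), by induction on `|P| - |X|`. -/
theorem good_all : ∀ (n : ℕ) (X : Subgroup G), X ≤ M → IsPGroup p X → X ≠ ⊥ →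
    Nat.card P - Nat.card X = n → c.Good X := by
  intro n
  induction n using Nat.strong_induction_on with
  | _ n IH =>
    intro X hXM hXp hX1 hn
    have ih : ∀ Y : Subgroup G, Y ≤ M → IsPGroup p Y → Nat.card X < Nat.card Y → c.Good Y := by
      intro Y hYM hYp hlt
      have hle := c.card_le hYM hYp
      have hY1 : Y ≠ ⊥ := by
        rintro rfl
        rw [Subgroup.card_bot] at hlt
        have : 0 < Nat.card X := Nat.card_pos
        omega
      exact IH (Nat.card P - Nat.card Y) (by omega) Y hYM hYp hY1 rfl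
    intro g hg
    obtain ⟨a, ha, haX⟩ := sylow_sub c.hPM c.hP c.hPi hXM hXp
    obtain ⟨b, hb, hbX⟩ := sylow_sub c.hPM c.hP c.hPi hg (isPGroup_cj hXp)
    have hX1' : cj a X ≠ ⊥ := fun h => hX1 (cj_eq_bot_iff.mp h)
    have ih' : ∀ Y : Subgroup G, Y ≤ M → IsPGroup p Y → Nat.card (cj a X) < Nat.card Y →
        c.Good Y := by
      intro Y hYM hYp hlt
      rw [card_cj] at hlt
      exact ih Y hYM hYp hlt
    have hg₁ : cj (b * g * a⁻¹) (cj a X) ≤ P := by
      rw [← cj_mul]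
      have : b * g * a⁻¹ * a = b * g := by group
      rw [this, cj_mul]
      exact hbX
    obtain ⟨m₁, hm₁, z₁, hz₁, hgz⟩ := c.step haX hX1' ih' (b * g * a⁻¹) hg₁
    rw [centralizer_cj, mem_cj] at hz₁
    refine ⟨b⁻¹ * m₁ * a, M.mul_mem (M.mul_mem (M.inv_mem hb) hm₁) ha, a⁻¹ * z₁ * a, hz₁, ?_⟩
    have : g = b⁻¹ * (b * g * a⁻¹) * a := by group
    rw [this, hgz]; group

end Ctx

/-- **B&G Theorem 10.1** (parts (a) and the factorisation of `N_G(X)`), modulo the Uniqueness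
Theorem. -/
theorem theorem_10_1 (hG : IsMinSimpleOddOrder G) (hU : UniqThm G) (M : Subgroup G)
    (hM : IsCoatom M) (hp : p ∈ Cfsg.sigma M) (X : Subgroup G) (hXp : IsPGroup p X) (hX1 : X ≠ ⊥)
    (hXM : X ≤ M) :
    (∀ g : G, X.map (MulAut.conj g).toMonoidHom ≤ M →
        ∃ m ∈ M, ∃ z ∈ Subgroup.centralizer (X : Set G), g = m * z) ∧
      Subgroup.normalizer (X : Set G) =
        (M ⊓ Subgroup.normalizer (X : Set G)) ⊔ Subgroup.centralizer (X : Set G) := by
  obtain ⟨-, -, P₀, hNP⟩ := hp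
  obtain ⟨h1, h2, h3⟩ := sylow_map_facts M P₀
  have c : Ctx G p M ((P₀ : Subgroup ↥M).map M.subtype) := ⟨hG, hU, hM, h1, h2, h3, hNP⟩
  have hgood : c.Good X := c.good_all _ X hXM hXp hX1 rfl
  refine ⟨hgood, le_antisymm ?_ ?_⟩
  · intro n hn
    have h4 : cj n X ≤ M := by rw [cj_eq_self_iff.mpr hn]; exact hXM
    obtain ⟨m, hm, z, hz, rfl⟩ := hgood n h4
    have hzN := centralizer_le_normalizer' X hz
    have hmN : m ∈ normalizer (X : Set G) := by
      have : m = m * z * z⁻¹ := by group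
      rw [this]
      exact (normalizer (X : Set G)).mul_mem hn ((normalizer (X : Set G)).inv_mem hzN)
    exact Subgroup.mul_mem_sup ⟨hm, hmN⟩ hz
  · exact sup_le inf_le_right (centralizer_le_normalizer' X)


end Cfsg.Agent.Lib.Helper56.BG10
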