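import Cfsg.Agent.Lib.Helper24.HHFit
import Cfsg.Agent.Lib.Helper24.Glauberman
import Cfsg.Agent.Lib.Helper47.BG11a
import Cfsg.Agent.Lib.Helper23.TransCore

set_option autoImplicit false
set_option linter.style.haveILetI false
set_option linter.unusedSectionVars false

/-!
# A fixed-point-free element of prime order: `[R, y]` centralizes `N`

Subgroup form of the following consequence of B&G Proposition 3.9 (statement S1445): if an
element `y` of prime order `p` acts fixed-point-freely on a nilpotent `{r,p}'`-group `N` and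
normalizes an `r`-group `R` which also normalizes `N` (everything inside a finite group of odd
order), then `[R, y]` centralizes `N`.
-/

namespace Cfsg.Agent.Lib.Helper56.BG117

open Subgroup Cfsg Cfsg.Agent.Lib.Helper23

universe u

section faithful

variable {Q : Type u} [Group Q] [Finite Q]

/-- `(n u)^m ∈ N u^m` when `u` normalizes `N`. -/
theorem exists_pow_mul_eq {N : Subgroup Q} {n u : Q} (hn : n ∈ N)
    (hu : u ∈ normalizer (N : Set Q)) (m : ℕ) : ∃ n' ∈ N, (n * u) ^ m = n' * u ^ m := by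
  induction m with
  | zero => exact ⟨1, N.one_mem, by simp⟩
  | succ m ih =>
    obtain ⟨n', hn', h⟩ := ih
    have hum : u ^ m ∈ normalizer (N : Set Q) := pow_mem hu m
    refine ⟨n' * (u ^ m * n * (u ^ m)⁻¹), N.mul_mem hn' ((mem_normalizer_iff.mp hum n).mp hn), ?_⟩
    rw [pow_succ, h, pow_succ]
    group

/-- `|N R|` divides `|N| |R|` when `R` normalizes `N`. -/
theorem card_sup_dvd_mul_of_le_normalizer {N R : Subgroup Q} (hRN : R ≤ normalizer (N : Set Q)) :
    Nat.card (N ⊔ R : Subgroup Q) ∣ Nat.card N * Nat.card R := by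
  have h3 := Subgroup.relIndex_mul_relIndex (⊥ : Subgroup Q) N (N ⊔ R) bot_le le_sup_left
  rw [Subgroup.relIndex_bot_left, Subgroup.relIndex_bot_left] at h3
  have h4 : N.relIndex (N ⊔ R) = N.relIndex R := by
    rw [sup_comm]
    exact Cfsg.Agent.Lib.Helper24.relIndex_sup_right_of_le_normalizer R N hRN
  rw [← h3, h4]
  exact Nat.mul_dvd_mul_left _ (Subgroup.relIndex_dvd_card N R)

/-- A normal `r`-subgroup of `N R` (`R` an `r`-group, `N` an `r'`-group) lies in `R`. -/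
theorem le_of_normal_pSubgroup {N R U : Subgroup Q} {r : ℕ} [hr : Fact r.Prime]
    (hRN : R ≤ normalizer (N : Set Q)) (hR : IsPGroup r R) (hNr : ¬ r ∣ Nat.card N)
    (hU : IsPGroup r U) (hUK : U ≤ N ⊔ R) (hRU : R ≤ normalizer (U : Set Q)) : U ≤ R := by
  have hP : IsPGroup r ((U ⊔ R : Subgroup Q)) := IsPGroup.to_sup_of_normal_left' hU hR hRU
  have hle : U ⊔ R ≤ N ⊔ R := sup_le hUK le_sup_right
  have hcard : Nat.card (U ⊔ R : Subgroup Q) ∣ Nat.card R := by
    have h1 : Nat.card (U ⊔ R : Subgroup Q) ∣ Nat.card (N ⊔ R : Subgroup Q) :=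
      Subgroup.card_dvd_of_le hle
    have h2 := card_sup_dvd_mul_of_le_normalizer hRN
    obtain ⟨k, hk⟩ := IsPGroup.iff_card.mp hP
    have h5 : (Nat.card (U ⊔ R : Subgroup Q)).Coprime (Nat.card N) := by
      rw [hk]
      exact Nat.Coprime.pow_left k ((Nat.Prime.coprime_iff_not_dvd hr.out).mpr hNr)
    exact h5.dvd_of_dvd_mul_left (h1.trans h2)
  have heq : R = U ⊔ R :=
    Subgroup.eq_of_le_of_card_ge le_sup_right (Nat.le_of_dvd Nat.card_pos hcard)
  exact le_sup_left.trans heq.ge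

/-- Two subgroups normalizing each other with trivial intersection commute. -/
theorem le_centralizer_of_inf_eq_bot {U N : Subgroup Q} (hUN : U ≤ normalizer (N : Set Q))
    (hNU : N ≤ normalizer (U : Set Q)) (h0 : U ⊓ N = ⊥) : U ≤ centralizer (N : Set Q) := by
  intro f hf
  rw [mem_centralizer_iff]
  intro n hn
  have h1 : f * n * f⁻¹ * n⁻¹ ∈ U ⊓ N := by
    constructor
    · have : n * f⁻¹ * n⁻¹ ∈ U := (mem_normalizer_iff.mp (hNU hn) f⁻¹).mp (U.inv_mem hf)
      have e : f * n * f⁻¹ * n⁻¹ = f * (n * f⁻¹ * n⁻¹) := by group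
      rw [e]; exact U.mul_mem hf this
    · have : f * n * f⁻¹ ∈ N := (mem_normalizer_iff.mp (hUN hf) n).mp hn
      exact N.mul_mem this (N.inv_mem hn)
  rw [h0, mem_bot] at h1
  calc n * f = (f * n * f⁻¹ * n⁻¹)⁻¹ * (f * n) := by group
    _ = f * n := by rw [h1]; simp

/-- A `q`-element of `N R` (`R` an `r`-group normalizing `N`, `q ≠ r`) lies in `N`. -/
theorem mem_of_pElement {N R : Subgroup Q} {r q : ℕ} [hr : Fact r.Prime] [hq : Fact q.Prime]
    (hqr : q ≠ r) (hRN : R ≤ normalizer (N : Set Q)) (hR : IsPGroup r R) {f : Q}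
    (hf : f ∈ N ⊔ R) {j : ℕ} (hj : f ^ (q ^ j) = 1) : f ∈ N := by
  obtain ⟨u, hu, n, hn, rfl⟩ :=
    Cfsg.Agent.Lib.Helper24.exists_mul_of_mem_sup_of_le_normalizer R N hRN f
      (by rw [sup_comm]; exact hf)
  have hun : u * n = (u * n * u⁻¹) * u := by group
  have hn' : u * n * u⁻¹ ∈ N := (mem_normalizer_iff.mp (hRN hu) n).mp hn
  obtain ⟨k, hk⟩ := (IsPGroup.iff_card.mp hR)
  obtain ⟨n'', hn'', hpow⟩ := exists_pow_mul_eq hn' (hRN hu) (r ^ k)
  have hur : u ^ (r ^ k) = 1 := by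
    have := pow_card_eq_one' (G := R) (x := ⟨u, hu⟩)
    rw [hk] at this
    simpa using congrArg Subtype.val this
  have h1 : (u * n) ^ (r ^ k) ∈ N := by
    rw [hun, hpow, hur, mul_one]; exact hn''
  have h2 : (u * n) ^ (q ^ j) ∈ N := by rw [hj]; exact N.one_mem
  have hcop : (r ^ k).Coprime (q ^ j) :=
    Nat.Coprime.pow _ _ ((Nat.coprime_primes hr.out hq.out).mpr (Ne.symm hqr))
  exact Cfsg.Agent.Lib.Helper24.mem_of_pow_mem_of_coprime N (u * n) hcop h1 h2

/-- If `R` is an `r`-group acting faithfully on the `r'`-group `N`, then `F(NR) ≤ N`. -/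
theorem fittingOf_sup_le {N R : Subgroup Q} {r : ℕ} [hr : Fact r.Prime]
    (hRN : R ≤ normalizer (N : Set Q)) (hR : IsPGroup r R) (hNr : ¬ r ∣ Nat.card N)
    (hfaith : R ⊓ centralizer (N : Set Q) = ⊥) : fittingOf (N ⊔ R) ≤ N := by
  apply fittingOf_le_of_pCoreOf_le
  intro q hq
  have hNK : N ≤ N ⊔ R := le_sup_left
  have hRK : R ≤ N ⊔ R := le_sup_right
  have hKN : N ⊔ R ≤ normalizer (N : Set Q) := sup_le le_normalizer hRN
  obtain ⟨U, hUdef⟩ : ∃ U, U = Cfsg.Agent.Lib.Helper23.pCoreOf q (N ⊔ R) := ⟨_, rfl⟩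
  have hUK : U ≤ N ⊔ R := hUdef ▸ pCoreOf_le q _
  have hUq : IsPGroup q U := hUdef ▸ isPGroup_pCoreOf q _
  have hKU : N ⊔ R ≤ normalizer (U : Set Q) := hUdef ▸ le_normalizer_pCoreOf q _
  rw [← hUdef]
  by_cases hqr : q = r
  · subst hqr
    have hUR : U ≤ R := le_of_normal_pSubgroup hRN hR hNr hUq hUK (hRK.trans hKU)
    have hUN : U ⊓ N = ⊥ :=
      Cfsg.Agent.Lib.Helper24.HH.eq_bot_of_isPGroup_of_not_dvd _ N (hUq.to_le inf_le_left)
        inf_le_right hNr
    have hcent : U ≤ centralizer (N : Set Q) :=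
      le_centralizer_of_inf_eq_bot (hUK.trans hKN) (hNK.trans hKU) hUN
    have : U ≤ R ⊓ centralizer (N : Set Q) := le_inf hUR hcent
    rw [hfaith] at this
    exact this.trans bot_le
  · intro f hf
    obtain ⟨j, hj⟩ := hUq ⟨f, hf⟩
    have hj' : f ^ (q ^ j) = 1 := by
      have := congrArg Subtype.val hj
      simpa using this
    exact mem_of_pElement hqr hRN hR (hUK hf) hj'

/-- Faithful form: if moreover `y` of prime order `p` normalizes `R`, acts fixed-point-freely on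
`N`, and `N R` is a normal solvable subgroup of a group of odd order, then `y` centralizes `R`. -/
theorem comm_eq_one_of_faithful (hodd : Odd (Nat.card Q)) {N R : Subgroup Q} {r p : ℕ}
    [hr : Fact r.Prime] [hp : Fact p.Prime] (hrp : r ≠ p)
    (hKn : (N ⊔ R).Normal) (hKs : Group.IsSolvable ↥(N ⊔ R : Subgroup Q))
    (hRN : R ≤ normalizer (N : Set Q)) (hR : IsPGroup r R) (hNr : ¬ r ∣ Nat.card N)
    (hNp : ¬ p ∣ Nat.card N) (hfaith : R ⊓ centralizer (N : Set Q) = ⊥)
    {y : Q} (hyp : y ^ p = 1) (hyR : y ∈ normalizer (R : Set Q))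
    (hfix : ∀ n ∈ N, y * n = n * y → n = 1) :
    ∀ u ∈ R, u * y * u⁻¹ * y⁻¹ = 1 := by
  intro u hu
  have hF := fittingOf_sup_le hRN hR hNr hfaith
  have hpK : ¬ p ∣ Nat.card (N ⊔ R : Subgroup Q) := by
    intro h
    have h2 := h.trans (card_sup_dvd_mul_of_le_normalizer hRN)
    rcases (Nat.Prime.dvd_mul hp.out).mp h2 with h3 | h3
    · exact hNp h3
    · obtain ⟨k, hk⟩ := IsPGroup.iff_card.mp hR
      rw [hk] at h3
      exact hrp ((Nat.prime_dvd_prime_iff_eq hp.out hr.out).mp (hp.out.dvd_of_dvd_pow h3)).symm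
  have key := Cfsg.Agent.Lib.Helper24.HH.commutator_mem_fittingOf hodd (N ⊔ R) hKs y hp.out hyp hpK
    (fun f hf hyf => hfix f (hF hf) hyf) u (le_sup_right (a := N) hu)
  have h1 : u * y * u⁻¹ * y⁻¹ ∈ N := hF key
  have h2 : u * y * u⁻¹ * y⁻¹ ∈ R := by
    have : y * u⁻¹ * y⁻¹ ∈ R := (mem_normalizer_iff.mp hyR u⁻¹).mp (R.inv_mem hu)
    have e : u * y * u⁻¹ * y⁻¹ = u * (y * u⁻¹ * y⁻¹) := by group
    rw [e]; exact R.mul_mem hu this
  have h0 : N ⊓ R = ⊥ := by
    rw [inf_comm]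
    exact Cfsg.Agent.Lib.Helper24.HH.eq_bot_of_isPGroup_of_not_dvd _ N (hR.to_le inf_le_left)
      inf_le_right hNr
  have : u * y * u⁻¹ * y⁻¹ ∈ N ⊓ R := ⟨h1, h2⟩
  rwa [h0, mem_bot] at this

end faithful

section ambient

variable {G : Type u} [Group G] [Finite G]

/-- The normalizer of `N` normalizes `C_G(N)`. -/
theorem normalizer_le_normalizer_centralizer (N : Subgroup G) :
    normalizer (N : Set G) ≤ normalizer ((centralizer (N : Set G) : Subgroup G) : Set G) := by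
  intro g hg
  have key : ∀ g ∈ normalizer (N : Set G), ∀ c ∈ centralizer (N : Set G),
      g * c * g⁻¹ ∈ centralizer (N : Set G) := by
    intro g hg c hc
    rw [mem_centralizer_iff]
    intro n hn
    have h1 : g⁻¹ * n * g⁻¹⁻¹ ∈ N := (mem_normalizer_iff.mp (inv_mem hg) n).mp hn
    have h2 := mem_centralizer_iff.mp hc _ h1
    calc n * (g * c * g⁻¹) = g * ((g⁻¹ * n * g⁻¹⁻¹) * c) * g⁻¹ := by group
      _ = g * (c * (g⁻¹ * n * g⁻¹⁻¹)) * g⁻¹ := by rw [h2]
      _ = g * c * g⁻¹ * n := by group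
  rw [mem_normalizer_iff]
  intro c
  constructor
  · exact key g hg c
  · intro h
    have := key g⁻¹ (inv_mem hg) _ h
    have e : g⁻¹ * (g * c * g⁻¹) * g⁻¹⁻¹ = c := by group
    rwa [e] at this

/-- **Lemma I.** Inside a finite group of odd order let `y` have prime order `p`, normalize the
`{r,p}'`-group `N` fixed-point-freely and normalize the `r`-group `R ≤ N_G(N)`, with `N R ⟨y⟩`
solvable. Then `[R, y]` centralizes `N`. -/
theorem comm_mem_centralizer_of_fpf (hodd : Odd (Nat.card G)) {N R : Subgroup G} {r p : ℕ}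
    [hr : Fact r.Prime] [hp : Fact p.Prime] (hrp : r ≠ p)
    (hRN : R ≤ normalizer (N : Set G)) (hR : IsPGroup r R) (hNr : ¬ r ∣ Nat.card N)
    (hNp : ¬ p ∣ Nat.card N) {y : G} (hyp : y ^ p = 1)
    (hyN : y ∈ normalizer (N : Set G)) (hyR : y ∈ normalizer (R : Set G))
    (hsolv : Group.IsSolvable ↥(N ⊔ R ⊔ zpowers y : Subgroup G))
    (hfix : ∀ n ∈ N, y * n = n * y → n = 1) :
    ∀ u ∈ R, u * y * u⁻¹ * y⁻¹ ∈ centralizer (N : Set G) := by
  classical
  obtain ⟨H, hHdef⟩ : ∃ H, H = N ⊔ R ⊔ zpowers y := ⟨_, rfl⟩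
  obtain ⟨C, hCdef⟩ : ∃ C, C = R ⊓ centralizer (N : Set G) := ⟨_, rfl⟩
  have hNH : N ≤ H := hHdef ▸ le_sup_left.trans le_sup_left
  have hRH : R ≤ H := hHdef ▸ le_sup_right.trans le_sup_left
  have hyH : y ∈ H := hHdef ▸ (le_sup_right : zpowers y ≤ N ⊔ R ⊔ zpowers y) (mem_zpowers y)
  have hCR : C ≤ R := hCdef ▸ inf_le_left
  have hCN : C ≤ centralizer (N : Set G) := hCdef ▸ inf_le_right
  have hCH : C ≤ H := hCR.trans hRH
  have hNR0 : N ⊓ R = ⊥ := by
    rw [inf_comm]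
    exact Cfsg.Agent.Lib.Helper24.HH.eq_bot_of_isPGroup_of_not_dvd _ N (hR.to_le inf_le_left)
      inf_le_right hNr
  -- `H` normalizes `C`, `N`, `R`-related subgroups
  have hHC : H ≤ normalizer (C : Set G) := by
    rw [hHdef]
    refine sup_le (sup_le ?_ ?_) ?_
    · -- `N` centralizes `C`
      intro n hn
      rw [mem_normalizer_iff]
      intro c
      have hcomm : ∀ c ∈ C, n * c * n⁻¹ = c := by
        intro c hc
        have := mem_centralizer_iff.mp (hCN hc) n hn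
        calc n * c * n⁻¹ = c * n * n⁻¹ := by rw [this]
          _ = c := by group
      constructor
      · intro hc; rw [hcomm c hc]; exact hc
      · intro hc
        have h1 := hcomm _ hc
        have e : n * c * n⁻¹ = c := by
          have : n⁻¹ * (n * (n * c * n⁻¹) * n⁻¹) * n = n⁻¹ * (n * c * n⁻¹) * n := by rw [h1]
          have e1 : n⁻¹ * (n * (n * c * n⁻¹) * n⁻¹) * n = n * c * n⁻¹ := by group
          have e2 : n⁻¹ * (n * c * n⁻¹) * n = c := by group
          rw [e1, e2] at this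
          exact this
        rw [← e]; exact hc
    · rw [hCdef]
      exact Cfsg.Agent.Lib.Helper47.BG11.le_normalizer_inf le_normalizer
        (hRN.trans (normalizer_le_normalizer_centralizer N))
    · rw [hCdef, zpowers_le]
      have h1 : zpowers y ≤ normalizer (R : Set G) := zpowers_le.mpr hyR
      have h2 : zpowers y ≤ normalizer ((centralizer (N : Set G) : Subgroup G) : Set G) :=
        (zpowers_le.mpr hyN).trans (normalizer_le_normalizer_centralizer N)
      exact Cfsg.Agent.Lib.Helper47.BG11.le_normalizer_inf h1 h2 (mem_zpowers y)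
  have hHK : H ≤ normalizer ((N ⊔ R : Subgroup G) : Set G) := by
    rw [hHdef]
    refine sup_le le_normalizer ?_
    rw [zpowers_le]
    have h1 : zpowers y ≤ normalizer (N : Set G) := zpowers_le.mpr hyN
    have h2 : zpowers y ≤ normalizer (R : Set G) := zpowers_le.mpr hyR
    exact Cfsg.Agent.Lib.Helper23.le_normalizer_sup' h1 h2 (mem_zpowers y)
  haveI hsolvH : Group.IsSolvable ↥H := hHdef ▸ hsolv
  haveI hCn : (C.subgroupOf H).Normal := Subgroup.normal_subgroupOf_of_le_normalizer hHC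
  let π : ↥H →* ↥H ⧸ C.subgroupOf H := QuotientGroup.mk' (C.subgroupOf H)
  have hπsurj : Function.Surjective π := QuotientGroup.mk'_surjective _
  have hπ1 : ∀ z : ↥H, π z = 1 ↔ (z : G) ∈ C := by
    intro z
    rw [QuotientGroup.mk'_apply, QuotientGroup.eq_one_iff, mem_subgroupOf]
  have hπeq : ∀ a b : ↥H, π a = π b ↔ ((a : G))⁻¹ * (b : G) ∈ C := by
    intro a b
    rw [QuotientGroup.mk'_apply, QuotientGroup.mk'_apply, QuotientGroup.eq, mem_subgroupOf]
    simp
  set Nb : Subgroup (↥H ⧸ C.subgroupOf H) := (N.subgroupOf H).map π with hNb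
  set Rb : Subgroup (↥H ⧸ C.subgroupOf H) := (R.subgroupOf H).map π with hRb
  set yb : ↥H ⧸ C.subgroupOf H := π ⟨y, hyH⟩ with hyb
  -- transfer of hypotheses
  have hoddQ : Odd (Nat.card (↥H ⧸ C.subgroupOf H)) := by
    have h1 : Nat.card (↥H ⧸ C.subgroupOf H) ∣ Nat.card ↥H :=
      Subgroup.card_quotient_dvd_card _
    exact hodd.of_dvd_nat (h1.trans (Subgroup.card_subgroup_dvd_card H))
  have hKn : (Nb ⊔ Rb).Normal := by
    have h1 : ((N ⊔ R).subgroupOf H).Normal := Subgroup.normal_subgroupOf_of_le_normalizer hHK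
    have h2 : Nb ⊔ Rb = ((N ⊔ R).subgroupOf H).map π := by
      rw [hNb, hRb, ← Subgroup.map_sup, ← Subgroup.subgroupOf_sup hNH hRH]
    rw [h2]
    exact h1.map π hπsurj
  have hKs : Group.IsSolvable ↥(Nb ⊔ Rb : Subgroup (↥H ⧸ C.subgroupOf H)) := inferInstance
  have hmemN : ∀ z, z ∈ Nb ↔ ∃ n, ∃ hn : n ∈ N, π ⟨n, hNH hn⟩ = z := by
    intro z
    constructor
    · rintro ⟨n', hn', rfl⟩
      exact ⟨(n' : G), mem_subgroupOf.mp hn', rfl⟩
    · rintro ⟨n, hn, rfl⟩
      exact ⟨⟨n, hNH hn⟩, mem_subgroupOf.mpr hn, rfl⟩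
  have hmemR : ∀ z, z ∈ Rb ↔ ∃ u, ∃ hu : u ∈ R, π ⟨u, hRH hu⟩ = z := by
    intro z
    constructor
    · rintro ⟨u', hu', rfl⟩
      exact ⟨(u' : G), mem_subgroupOf.mp hu', rfl⟩
    · rintro ⟨u, hu, rfl⟩
      exact ⟨⟨u, hRH hu⟩, mem_subgroupOf.mpr hu, rfl⟩
  have hRNb : Rb ≤ normalizer (Nb : Set (↥H ⧸ C.subgroupOf H)) := by
    have h1 : R.subgroupOf H ≤ normalizer ((N.subgroupOf H : Subgroup ↥H) : Set ↥H) := by
      intro u' hu'
      rw [mem_normalizer_iff]
      intro n'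
      rw [mem_subgroupOf, mem_subgroupOf]
      have := mem_normalizer_iff.mp (hRN (mem_subgroupOf.mp hu')) (n' : G)
      simpa using this
    exact (Subgroup.map_mono h1).trans (Subgroup.le_normalizer_map π)
  have hRbp : IsPGroup r Rb := by
    have h1 : IsPGroup r ↥(R.subgroupOf H) := hR.comap_subtype
    exact h1.map π
  have hcardN : Nat.card Nb ∣ Nat.card N := by
    have h1 : Nat.card Nb ∣ Nat.card ↥(N.subgroupOf H) := Subgroup.card_map_dvd _ π
    have h2 : Nat.card ↥(N.subgroupOf H) = Nat.card N :=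
      Nat.card_congr (Subgroup.subgroupOfEquivOfLe hNH).toEquiv
    rwa [h2] at h1
  have hNbr : ¬ r ∣ Nat.card Nb := fun h => hNr (h.trans hcardN)
  have hNbp : ¬ p ∣ Nat.card Nb := fun h => hNp (h.trans hcardN)
  have hfaith : Rb ⊓ centralizer (Nb : Set (↥H ⧸ C.subgroupOf H)) = ⊥ := by
    rw [eq_bot_iff]
    rintro z ⟨hzR, hzC⟩
    obtain ⟨u, hu, rfl⟩ := (hmemR z).mp hzR
    rw [mem_bot, hπ1]
    show u ∈ C
    rw [hCdef]
    refine ⟨hu, ?_⟩
    show u ∈ centralizer (N : Set G)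
    rw [mem_centralizer_iff]
    intro n hn
    have h1 := mem_centralizer_iff.mp hzC (π ⟨n, hNH hn⟩) ((hmemN _).mpr ⟨n, hn, rfl⟩)
    rw [← map_mul, ← map_mul, hπeq] at h1
    have h2 : (n * u)⁻¹ * (u * n) ∈ C := by simpa using h1
    have h3 : (n * u)⁻¹ * (u * n) ∈ N ⊓ R := by
      constructor
      · have : u⁻¹ * n⁻¹ * u⁻¹⁻¹ ∈ N :=
          (mem_normalizer_iff.mp (hRN (R.inv_mem hu)) n⁻¹).mp (N.inv_mem hn)
        have e : (n * u)⁻¹ * (u * n) = (u⁻¹ * n⁻¹ * u⁻¹⁻¹) * n := by group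
        rw [e]; exact N.mul_mem this hn
      · exact hCR h2
    rw [hNR0, mem_bot] at h3
    calc n * u = (n * u) * ((n * u)⁻¹ * (u * n)) := by rw [h3, mul_one]
      _ = u * n := by group
  have hybp : yb ^ p = 1 := by
    rw [hyb, ← map_pow]
    have : (⟨y, hyH⟩ : ↥H) ^ p = 1 := Subtype.ext (by simpa using hyp)
    rw [this, map_one]
  have hybR : yb ∈ normalizer (Rb : Set (↥H ⧸ C.subgroupOf H)) := by
    have h1 : (⟨y, hyH⟩ : ↥H) ∈ normalizer ((R.subgroupOf H : Subgroup ↥H) : Set ↥H) := by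
      rw [mem_normalizer_iff]
      intro u'
      rw [mem_subgroupOf, mem_subgroupOf]
      have := mem_normalizer_iff.mp hyR (u' : G)
      simpa using this
    exact Subgroup.le_normalizer_map π ⟨_, h1, rfl⟩
  have hfixb : ∀ w ∈ Nb, yb * w = w * yb → w = 1 := by
    intro w hw hcomm
    obtain ⟨n, hn, rfl⟩ := (hmemN w).mp hw
    rw [hyb, ← map_mul, ← map_mul, hπeq] at hcomm
    have h2 : (y * n)⁻¹ * (n * y) ∈ C := by simpa using hcomm
    have h3 : (y * n)⁻¹ * (n * y) ∈ N ⊓ R := by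
      constructor
      · have : y⁻¹ * n * y⁻¹⁻¹ ∈ N :=
          (mem_normalizer_iff.mp (inv_mem hyN) n).mp hn
        have e : (y * n)⁻¹ * (n * y) = n⁻¹ * (y⁻¹ * n * y⁻¹⁻¹) := by group
        rw [e]; exact N.mul_mem (N.inv_mem hn) this
      · exact hCR h2
    rw [hNR0, mem_bot] at h3
    have h4 : y * n = n * y := by
      calc y * n = (y * n) * ((y * n)⁻¹ * (n * y)) := by rw [h3, mul_one]
        _ = n * y := by group
    have h5 := hfix n hn h4
    have : (⟨n, hNH hn⟩ : ↥H) = 1 := Subtype.ext h5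
    rw [this, map_one]
  have key := comm_eq_one_of_faithful hoddQ hrp hKn hKs hRNb hRbp hNbr hNbp hfaith hybp hybR hfixb
  intro u hu
  have h1 := key (π ⟨u, hRH hu⟩) ((hmemR _).mpr ⟨u, hu, rfl⟩)
  rw [hyb, ← map_inv, ← map_inv, ← map_mul, ← map_mul, ← map_mul, hπ1] at h1
  have h2 : u * y * u⁻¹ * y⁻¹ ∈ C := by simpa using h1
  exact hCN h2

end ambient

end Cfsg.Agent.Lib.Helper56.BG117
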