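import Cfsg.Agent.Lib.Helper63.BG13a
import Cfsg.Agent.Lib.Helper76.BGSigU4
import Cfsg.Agent.Lib.Helper48.TICount
import Cfsg.Agent.Lib.Helper68.BG1215a
import Cfsg.Agent.Lib.Helper56.BG117A

set_option autoImplicit false
set_option linter.style.haveILetI false
set_option linter.unusedSectionVars false
set_option linter.unusedVariables false

/-!
# Bender–Glauberman Theorem 14.3 (the partner `M*` of a maximal subgroup of type `𝒫`)

Everything here is proved from the *statements* of BG 14.2 (`C1430`, `C1431` = the conclusions of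
S1430, S1431 for a pair `(M, K)`), BG 13.9 (`Stmt1378`) and the cyclicity of Hall `κ`-subgroups
(`StmtKC`, S1351).
-/

namespace Cfsg.Agent.Lib.Helper56.BG143

open Subgroup Cfsg
open scoped Pointwise commutatorElement

universe u

variable {G : Type u} [Group G] [Finite G]

/-- the conclusion of S1430 (BG 14.2 a–c) for the pair `(M, K)` -/
def C1430 (M K : Subgroup G) : Prop :=
  (∀ k ∈ K, k ≠ 1 → sigmaCore M ⊓ centralizer ({k} : Set G) =
      sigmaCore M ⊓ centralizer (K : Set G)) ∧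
  (∃ U : Subgroup G, IsMulCommutative U ∧
      IsPiHallOf {q | q.Prime ∧ q ∉ kappa M ∧ q ∉ sigma M} U M ∧
      K ≤ normalizer (U : Set G) ∧ ∀ k ∈ K, k ≠ 1 → U ⊓ centralizer ({k} : Set G) = ⊥) ∧
  ∀ X : Subgroup G, X ≤ K → (Nat.card X).Prime →
    M ⊓ normalizer (X : Set G) = K ⊔ (sigmaCore M ⊓ centralizer (K : Set G)) ∧
    M ⊓ normalizer (K : Set G) = K ⊔ (sigmaCore M ⊓ centralizer (K : Set G)) ∧
    ∀ Mstar : Subgroup G, IsCoatom Mstar → normalizer (X : Set G) ≤ Mstar → X ≤ sigmaCore Mstar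

/-- the conclusion of S1431 (BG 14.2 d–g) for the pair `(M, K)` -/
def C1431 (M K : Subgroup G) : Prop :=
  (∀ g : G, g ∉ M → (sigmaCore M ⊓ centralizer (K : Set G)) ⊓
      M.map (MulAut.conj g).toMonoidHom = ⊥) ∧
  (∀ g ∈ M, g ∉ K ⊔ (sigmaCore M ⊓ centralizer (K : Set G)) →
      K ⊓ K.map (MulAut.conj g).toMonoidHom = ⊥) ∧
  (∀ (p : ℕ), p.Prime → p ∣ Nat.card ↥(sigmaCore M ⊓ centralizer (K : Set G)) →
      ∀ S : Sylow p ↥(sigmaCore M),
      InUniqueMaximal ((S : Subgroup ↥(sigmaCore M)).map (sigmaCore M).subtype) ∧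
      (S : Subgroup ↥(sigmaCore M)).map (sigmaCore M).subtype ≤ M ∧
      ¬ (S : Subgroup ↥(sigmaCore M)).map (sigmaCore M).subtype ≤
        (sigmaCore M ⊓ centralizer (K : Set G))) ∧
  ∀ Y : Subgroup G, (∀ p : ℕ, p.Prime → p ∣ Nat.card Y → p ∈ sigma M) →
    Y ⊓ (sigmaCore M ⊓ centralizer (K : Set G)) ≠ ⊥ → Y ≤ sigmaCore M

/-- BG 14.2 (a)–(c) as a hypothesis -/
def Stmt1430 (G : Type u) [Group G] : Prop :=
  ∀ M : Subgroup G, IsCoatom M → ∀ K : Subgroup G, IsPiHallOf (kappa M) K M → K ≠ ⊥ → C1430 M K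

/-- BG 14.2 (d)–(g) as a hypothesis -/
def Stmt1431 (G : Type u) [Group G] : Prop :=
  ∀ M : Subgroup G, IsCoatom M → ∀ K : Subgroup G, IsPiHallOf (kappa M) K M → K ≠ ⊥ → C1431 M K

/-- BG 13.9 (second half) as a hypothesis -/
def Stmt1378 (G : Type u) [Group G] : Prop :=
  ∀ M N : Subgroup G, IsCoatom M → IsCoatom N → (sigma M ∩ sigma N).Nonempty →
    ∃ g : G, N = M.map (MulAut.conj g).toMonoidHom

/-- Hall `κ(M)`-subgroups are cyclic (S1351, second half) as a hypothesis -/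
def StmtKC (G : Type u) [Group G] : Prop :=
  ∀ M : Subgroup G, IsCoatom M → ∀ K : Subgroup G, IsPiHallOf (kappa M) K M → IsCyclic K

/-- the σ-Hall property of `M_σ` (S1350) as a hypothesis -/
def StmtHall (G : Type u) [Group G] : Prop :=
  ∀ M : Subgroup G, IsCoatom M → IsPiHallOf (sigma M) (sigmaCore M) M

/-! ### `K* ≠ 1` -/

/-- `K* = C_{M_σ}(K) ≠ 1` for a nontrivial Hall `κ(M)`-subgroup `K`. -/
theorem Ks_ne_bot {M K : Subgroup G} (hK : IsPiHallOf (kappa M) K M) (hK1 : K ≠ ⊥)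
    (h1 : ∀ k ∈ K, k ≠ 1 → sigmaCore M ⊓ centralizer ({k} : Set G) =
      sigmaCore M ⊓ centralizer (K : Set G)) :
    sigmaCore M ⊓ centralizer (K : Set G) ≠ ⊥ := by
  have hcard : Nat.card K ≠ 1 := fun h1 => hK1 ((Subgroup.card_eq_one).1 h1)
  obtain ⟨p, hp, hpK⟩ := Nat.exists_prime_and_dvd hcard
  haveI : Fact p.Prime := ⟨hp⟩
  have hpκ : p ∈ kappa M := hK.2.1 p hp hpK
  obtain ⟨P⟩ : Nonempty (Sylow p M) := inferInstance
  obtain ⟨_, x, hxP, hx1, y, hyS, hy1, hxy⟩ := hpκ.2.2.2 P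
  have hQ : IsPGroup p (Subgroup.zpowers (x : G)) := by
    have h1 : IsPGroup p (Subgroup.zpowers x) := P.2.to_le ((Subgroup.zpowers_le).2 hxP)
    rintro ⟨_, ⟨n, rfl⟩⟩
    obtain ⟨j, hj⟩ := h1 ⟨x ^ n, ⟨n, rfl⟩⟩
    refine ⟨j, Subtype.ext ?_⟩
    have h2 := congrArg Subtype.val hj
    have h3 : ((x ^ n : M) : G) ^ p ^ j = 1 := by simpa using congrArg Subtype.val h2
    simpa using h3
  have hQM : Subgroup.zpowers (x : G) ≤ M := (Subgroup.zpowers_le).2 x.2
  obtain ⟨m, hmM, hm⟩ := Cfsg.Agent.Lib.Helper76.BGSigU.exists_conj_le_of_not_dvd hK.1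
    (hK.2.2 p hp hpκ) hQ hQM
  have hx' : m⁻¹ * (x : G) * m ∈ K := hm _ (Subgroup.mem_zpowers _)
  have hx'1 : m⁻¹ * (x : G) * m ≠ 1 := by
    intro h0
    apply hx1
    apply Subtype.ext
    have : (x : G) = m * (m⁻¹ * (x : G) * m) * m⁻¹ := by group
    rw [this, h0]; simp
  have hy' : m⁻¹ * y * m ∈ sigmaCore M := by
    have := ((Subgroup.mem_normalizer_iff.1
      (Cfsg.Agent.Lib.Helper76.BGSigU.le_normalizer_sigmaCore' M (M.inv_mem hmM))) y).1 hyS
    simpa using this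
  have hy'1 : m⁻¹ * y * m ≠ 1 := by
    intro h0
    apply hy1
    have : y = m * (m⁻¹ * y * m) * m⁻¹ := by group
    rw [this, h0]; simp
  have hcomm : (m⁻¹ * (x : G) * m) * (m⁻¹ * y * m) = (m⁻¹ * y * m) * (m⁻¹ * (x : G) * m) := by
    calc (m⁻¹ * (x : G) * m) * (m⁻¹ * y * m) = m⁻¹ * ((x : G) * y) * m := by group
      _ = m⁻¹ * (y * (x : G)) * m := by rw [hxy]
      _ = _ := by group
  have hmem : m⁻¹ * y * m ∈ sigmaCore M ⊓ centralizer ({m⁻¹ * (x : G) * m} : Set G) := by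
    refine Subgroup.mem_inf.2 ⟨hy', ?_⟩
    rw [Subgroup.mem_centralizer_iff]
    intro z hz
    rw [Set.mem_singleton_iff] at hz
    rw [hz]; exact hcomm
  rw [h1 _ hx' hx'1] at hmem
  intro h0
  rw [h0] at hmem
  exact hy'1 hmem

/-! ### the commutator argument -/

/-- conjugation by an element of `M` preserves `M_σ` -/
theorem conj_mem_sigmaCore {M : Subgroup G} {m s : G} (hm : m ∈ M) (hs : s ∈ sigmaCore M) :
    m * s * m⁻¹ ∈ sigmaCore M :=
  ((Subgroup.mem_normalizer_iff.1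
    (Cfsg.Agent.Lib.Helper76.BGSigU.le_normalizer_sigmaCore' M hm)) s).1 hs

theorem sigmaCore_le' (M : Subgroup G) : sigmaCore M ≤ M := by
  rintro _ ⟨s, _, rfl⟩
  exact s.2

/-- if `K ≤ M ∩ M*_σ` and `M_σ ∩ M*_σ = 1` then `M_σ ∩ M* ≤ C_{M_σ}(K)` -/
theorem inf_le_cent {M Ms K : Subgroup G} (hKM : K ≤ M) (hKMs : K ≤ sigmaCore Ms)
    (hdisj : sigmaCore M ⊓ sigmaCore Ms = ⊥) :
    sigmaCore M ⊓ Ms ≤ sigmaCore M ⊓ centralizer (K : Set G) := by
  intro d hd
  obtain ⟨hdM, hdMs⟩ := Subgroup.mem_inf.1 hd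
  refine Subgroup.mem_inf.2 ⟨hdM, ?_⟩
  rw [Subgroup.mem_centralizer_iff]
  intro k hk
  have h1 : k * d * k⁻¹ * d⁻¹ ∈ sigmaCore M :=
    (sigmaCore M).mul_mem (conj_mem_sigmaCore (hKM hk) hdM) ((sigmaCore M).inv_mem hdM)
  have h2 : k * d * k⁻¹ * d⁻¹ ∈ sigmaCore Ms := by
    have h3 : d * k⁻¹ * d⁻¹ ∈ sigmaCore Ms :=
      conj_mem_sigmaCore hdMs ((sigmaCore Ms).inv_mem (hKMs hk))
    have h4 : k * d * k⁻¹ * d⁻¹ = k * (d * k⁻¹ * d⁻¹) := by group
    rw [h4]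
    exact (sigmaCore Ms).mul_mem (hKMs hk) h3
  have h5 : k * d * k⁻¹ * d⁻¹ ∈ sigmaCore M ⊓ sigmaCore Ms := ⟨h1, h2⟩
  rw [hdisj, Subgroup.mem_bot] at h5
  have h6 : k * d = (k * d * k⁻¹ * d⁻¹) * (d * k) := by group
  rw [h6, h5, one_mul]

/-- a subgroup of prime order inside a nontrivial subgroup -/
theorem exists_prime_sub {K : Subgroup G} (hK1 : K ≠ ⊥) :
    ∃ x : G, Subgroup.zpowers x ≤ K ∧ (Nat.card (Subgroup.zpowers x)).Prime := by
  obtain ⟨⟨k, hk⟩, hk1⟩ := (Subgroup.ne_bot_iff_exists_ne_one).1 hK1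
  have hk1' : k ≠ 1 := fun h0 => hk1 (Subtype.ext h0)
  obtain ⟨x, hx, hxp⟩ := Cfsg.Agent.Lib.Helper76.BGSigU.exists_prime_card_zpowers hk1'
  exact ⟨x, (Subgroup.zpowers_le.2 hx).trans (Subgroup.zpowers_le.2 hk), hxp⟩

/-- splitting a positive number into its `π`-part and its `π'`-part -/
theorem exists_pi_part (π : Set ℕ) (n : ℕ) (hn : 0 < n) :
    ∃ m m' : ℕ, n = m * m' ∧ (∀ p : ℕ, p.Prime → p ∣ m → p ∈ π) ∧
      (∀ p : ℕ, p.Prime → p ∈ π → ¬ p ∣ m') := by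
  classical
  induction n using Nat.strong_induction_on with
  | _ n ih =>
    by_cases h1 : n = 1
    · subst h1
      refine ⟨1, 1, rfl, ?_, ?_⟩
      · intro p hp hd
        exact absurd (Nat.dvd_one.1 hd) hp.one_lt.ne'
      · intro p hp _ hd
        exact absurd (Nat.dvd_one.1 hd) hp.one_lt.ne'
    · have hp : n.minFac.Prime := Nat.minFac_prime h1
      have hd : n.minFac ∣ n := Nat.minFac_dvd n
      obtain ⟨c, hc⟩ := hd
      have hcpos : 0 < c := by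
        rcases Nat.eq_zero_or_pos c with h0 | h0
        · rw [h0, mul_zero] at hc; omega
        · exact h0
      have hclt : c < n := by
        rw [hc]
        have := hp.one_lt
        nlinarith
      obtain ⟨m, m', hmm, h2, h3⟩ := ih c hclt hcpos
      by_cases hπ : n.minFac ∈ π
      · refine ⟨n.minFac * m, m', ?_, ?_, h3⟩
        · exact hc.trans (by rw [hmm]; ring)
        · intro q hq hqd
          rcases (Nat.Prime.dvd_mul hq).1 hqd with h4 | h4
          · rw [(Nat.prime_dvd_prime_iff_eq hq hp).1 h4]; exact hπ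
          · exact h2 q hq h4
      · refine ⟨m, n.minFac * m', ?_, h2, ?_⟩
        · exact hc.trans (by rw [hmm]; ring)
        · intro q hq hqπ hqd
          rcases (Nat.Prime.dvd_mul hq).1 hqd with h4 | h4
          · rw [(Nat.prime_dvd_prime_iff_eq hq hp).1 h4] at hqπ; exact hπ hqπ
          · exact h3 q hq hqπ h4

/-! ### `κ(M) = τ₁(M)` for `M` of type `𝒫` -/

theorem le_normalizer_sup {A B K : Subgroup G} (hA : K ≤ normalizer (A : Set G))
    (hB : K ≤ normalizer (B : Set G)) : K ≤ normalizer ((A ⊔ B : Subgroup G) : Set G) := by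
  intro k hk
  rw [← Cfsg.Agent.Lib.Helper33.cj_eq_self_iff, Cfsg.Agent.Lib.Helper33.cj_sup,
    Cfsg.Agent.Lib.Helper33.cj_eq_self_iff.2 (hA hk),
    Cfsg.Agent.Lib.Helper33.cj_eq_self_iff.2 (hB hk)]

/-- if `k` normalizes `U` and `C_U(k) = 1` then every element of `U` is a commutator `[k, v]` -/
theorem U_le_commutator {M K U : Subgroup G} (hKM : K ≤ M) (hUM : U ≤ M)
    (hKU : K ≤ normalizer (U : Set G)) {k : G} (hk : k ∈ K)
    (hreg : U ⊓ centralizer ({k} : Set G) = ⊥) : U ≤ ⁅M, M⁆ := by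
  classical
  let φ : U → U := fun v => ⟨k * v * k⁻¹ * (v : G)⁻¹,
    U.mul_mem ((mem_normalizer_iff.1 (hKU hk) v).1 v.2) (U.inv_mem v.2)⟩
  have hinj : Function.Injective φ := by
    intro v w hvw
    have h1 : k * v * k⁻¹ * (v : G)⁻¹ = k * w * k⁻¹ * (w : G)⁻¹ := congrArg Subtype.val hvw
    have h2 : k * ((w : G)⁻¹ * v) * k⁻¹ = (w : G)⁻¹ * v := by
      have h0 : k * ((w : G)⁻¹ * v) * k⁻¹ =
          (k * w * k⁻¹)⁻¹ * (k * v * k⁻¹ * (v : G)⁻¹) * v := by group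
      rw [h0, h1]; group
    have h3 : (w : G)⁻¹ * v ∈ U ⊓ centralizer ({k} : Set G) := by
      refine mem_inf.2 ⟨U.mul_mem (U.inv_mem w.2) v.2, ?_⟩
      rw [mem_centralizer_iff]
      intro z hz
      rw [Set.mem_singleton_iff] at hz
      subst hz
      calc z * ((w : G)⁻¹ * v) = (z * ((w : G)⁻¹ * v) * z⁻¹) * z := by group
        _ = ((w : G)⁻¹ * v) * z := by rw [h2]
    rw [hreg, mem_bot] at h3
    apply Subtype.ext
    have h4 : (v : G) = w * ((w : G)⁻¹ * v) := by group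
    rw [h4, h3, mul_one]
  have hsurj : Function.Surjective φ := Finite.injective_iff_surjective.1 hinj
  intro u hu
  obtain ⟨v, hv⟩ := hsurj ⟨u, hu⟩
  have h5 : u = ⁅k, (v : G)⁆ := by
    have h6 : k * v * k⁻¹ * (v : G)⁻¹ = u := congrArg Subtype.val hv
    rw [commutatorElement_def]; exact h6.symm
  rw [h5]
  exact Subgroup.commutator_mem_commutator (hKM hk) (hUM v.2)

section Decomp

variable {M K U : Subgroup G}

/-- `M = (M_σ U) K` -/
theorem exists_mul_K (h : IsSigmaDecomposition M K U) :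
    ∀ m ∈ M, ∃ n ∈ sigmaCore M ⊔ U, ∃ k ∈ K, m = n * k := by
  intro m hm
  have hKN : K ≤ normalizer ((sigmaCore M : Subgroup G) : Set G) :=
    h.hall.1.trans (Cfsg.Agent.Lib.Helper76.BGSigU.le_normalizer_sigmaCore' M)
  have hKS : (↑(K ⊔ sigmaCore M) : Set G) = (K : Set G) * (sigmaCore M : Set G) :=
    Subgroup.coe_mul_of_left_le_normalizer_right K (sigmaCore M) hKN
  obtain ⟨u, hu, b, hb, rfl⟩ := h.compl.2.2.2 m hm
  have hb' : b ∈ (↑(K ⊔ sigmaCore M) : Set G) := hb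
  rw [hKS] at hb'
  obtain ⟨k, hk, s, hs, rfl⟩ := hb'
  refine ⟨u * (k * s * k⁻¹), ?_, k, hk, by group⟩
  exact (sigmaCore M ⊔ U).mul_mem ((le_sup_right : U ≤ sigmaCore M ⊔ U) hu)
    ((le_sup_left : sigmaCore M ≤ sigmaCore M ⊔ U) (conj_mem_sigmaCore (h.hall.1 hk) hs))

theorem K_le_normalizer_sup (h : IsSigmaDecomposition M K U) :
    K ≤ normalizer ((sigmaCore M ⊔ U : Subgroup G) : Set G) :=
  le_normalizer_sup (h.hall.1.trans (Cfsg.Agent.Lib.Helper76.BGSigU.le_normalizer_sigmaCore' M))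
    h.normal

/-- `M' ≤ M_σ U` (as `M / M_σ U ≅ K` is abelian) -/
theorem commutator_le_sup (h : IsSigmaDecomposition M K U) : ⁅M, M⁆ ≤ sigmaCore M ⊔ U := by
  have hKab : ∀ x ∈ K, ∀ y ∈ K, x * y = y * x := by
    intro x hx y hy
    haveI := h.cyclic
    letI := IsCyclic.commGroup (α := K)
    have := mul_comm (⟨x, hx⟩ : K) ⟨y, hy⟩
    exact congrArg Subtype.val this
  set N := sigmaCore M ⊔ U with hN
  have hKN := K_le_normalizer_sup h
  have hconj : ∀ k ∈ K, ∀ n ∈ N, k * n * k⁻¹ ∈ N := fun k hk n hn =>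
    (mem_normalizer_iff.1 (hKN hk) n).1 hn
  rw [Subgroup.commutator_le]
  intro a ha b hb
  obtain ⟨n₁, hn₁, k₁, hk₁, rfl⟩ := exists_mul_K h a ha
  obtain ⟨n₂, hn₂, k₂, hk₂, rfl⟩ := exists_mul_K h b hb
  have hk : k₁ * k₂ * k₁⁻¹ = k₂ := by rw [hKab k₁ hk₁ k₂ hk₂]; group
  have h1 : ⁅n₁ * k₁, n₂ * k₂⁆ =
      n₁ * (k₁ * n₂ * k₁⁻¹) * (k₁ * k₂ * k₁⁻¹) * n₁⁻¹ * k₂⁻¹ * n₂⁻¹ := by
    rw [commutatorElement_def]; group
  rw [h1, hk]
  have h2 : n₁ * (k₁ * n₂ * k₁⁻¹) * k₂ * n₁⁻¹ * k₂⁻¹ * n₂⁻¹ =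
      n₁ * (k₁ * n₂ * k₁⁻¹) * (k₂ * n₁⁻¹ * k₂⁻¹) * n₂⁻¹ := by group
  rw [h2]
  exact N.mul_mem (N.mul_mem (N.mul_mem hn₁ (hconj k₁ hk₁ n₂ hn₂))
    (hconj k₂ hk₂ _ (N.inv_mem hn₁))) (N.inv_mem hn₂)

/-- the order of `M` is `|U| |K M_σ|`, and `|M_σ K|` divides `|M_σ| |K|` -/
theorem dvd_cases (h : IsSigmaDecomposition M K U) {p : ℕ} (hp : p.Prime)
    (hpM : p ∣ Nat.card M) :
    p ∣ Nat.card U ∨ p ∣ Nat.card (sigmaCore M) ∨ p ∣ Nat.card K := by
  have h1 : Nat.card U * Nat.card ↥(K ⊔ sigmaCore M) = Nat.card M :=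
    Cfsg.Agent.Lib.Helper23.card_isComplIn h.compl
  have hKN : K ≤ normalizer ((sigmaCore M : Subgroup G) : Set G) :=
    h.hall.1.trans (Cfsg.Agent.Lib.Helper76.BGSigU.le_normalizer_sigmaCore' M)
  have h2 : Nat.card ↥(sigmaCore M ⊔ K) ∣ Nat.card (sigmaCore M) * Nat.card K :=
    Cfsg.Agent.Lib.Helper56.BG117.card_sup_dvd_mul_of_le_normalizer hKN
  rw [← h1] at hpM
  rcases (Nat.Prime.dvd_mul hp).1 hpM with h3 | h3
  · exact Or.inl h3
  · rw [sup_comm] at h3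
    rcases (Nat.Prime.dvd_mul hp).1 (h3.trans h2) with h4 | h4
    · exact Or.inr (Or.inl h4)
    · exact Or.inr (Or.inr h4)

/-- **BG 14.3(b), first half**: `κ(M) = τ₁(M)` when `K ≠ 1` acts regularly on `U`. -/
theorem kappa_eq_tau1 (hσ : IsPiHallOf (sigma M) (sigmaCore M) M)
    (h : IsSigmaDecomposition M K U) (hK1 : K ≠ ⊥)
    (hreg : ∀ k ∈ K, k ≠ 1 → U ⊓ centralizer ({k} : Set G) = ⊥) : kappa M = tau1 M := by
  ext p
  constructor
  · rintro ⟨hpp, hpM, hpσ, hcyc⟩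
    haveI : Fact p.Prime := ⟨hpp⟩
    refine ⟨hpp, hpσ, hpM, ?_, ?_⟩
    · intro hd
      have h1 : Nat.card ↥⁅M, M⁆ ∣ Nat.card ↥(sigmaCore M ⊔ U) :=
        Subgroup.card_dvd_of_le (commutator_le_sup h)
      have hUN : U ≤ normalizer ((sigmaCore M : Subgroup G) : Set G) :=
        (Cfsg.Agent.Lib.Helper76.BGSigU.U_le h).trans
          (Cfsg.Agent.Lib.Helper76.BGSigU.le_normalizer_sigmaCore' M)
      have h2 : Nat.card ↥(sigmaCore M ⊔ U) ∣ Nat.card (sigmaCore M) * Nat.card U :=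
        Cfsg.Agent.Lib.Helper56.BG117.card_sup_dvd_mul_of_le_normalizer hUN
      rcases (Nat.Prime.dvd_mul hpp).1 (hd.trans (h1.trans h2)) with h3 | h3
      · exact hpσ (hσ.2.1 p hpp h3)
      · have hκ : p ∈ kappa M := ⟨hpp, hpM, hpσ, hcyc⟩
        have h4 : ¬ p ∣ K.relIndex M := h.hall.2.2 p hpp hκ
        apply h4
        have h5 : Nat.card U * Nat.card ↥(K ⊔ sigmaCore M) = Nat.card M :=
          Cfsg.Agent.Lib.Helper23.card_isComplIn h.compl
        have h6 : Nat.card K * K.relIndex (K ⊔ sigmaCore M) = Nat.card ↥(K ⊔ sigmaCore M) :=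
          Cfsg.Agent.Lib.Helper76.BGSigU.card_mul_relIndex le_sup_left
        have h7 : Nat.card K * K.relIndex M = Nat.card M :=
          Cfsg.Agent.Lib.Helper76.BGSigU.card_mul_relIndex h.hall.1
        have h8 : K.relIndex M = Nat.card U * K.relIndex (K ⊔ sigmaCore M) := by
          have hKpos : 0 < Nat.card K := Nat.card_pos
          apply Nat.eq_of_mul_eq_mul_left hKpos
          rw [h7, ← h5, ← h6]; ring
        rw [h8]; exact Dvd.dvd.mul_right h3 _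
    · intro A hAc hAe
      have hA : IsPGroup p A := by
        intro a
        refine ⟨1, ?_⟩
        rw [pow_one]
        exact Subtype.ext (by simpa using hAe a.1 a.2)
      obtain ⟨Q, hAQ⟩ := hA.exists_le_sylow
      have hQc : IsCyclic (Q : Subgroup M) := (hcyc Q).1
      have hr : PRankLE p 1 ↥(Q : Subgroup M) :=
        Cfsg.Agent.Lib.Helper63.BG13.pRankLE_one_of_isCyclic hpp hQc
      have hc : Nat.card (A.subgroupOf (Q : Subgroup M)) = Nat.card A :=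
        Nat.card_congr (Subgroup.subgroupOfEquivOfLe hAQ).toEquiv
      rw [← hc]
      haveI := hAc
      refine hr (A.subgroupOf (Q : Subgroup M)) inferInstance ?_
      intro a ha
      have h9 := hAe a.1 (Subgroup.mem_subgroupOf.1 ha)
      exact Subtype.ext (by simpa using h9)
  · rintro ⟨hpp, hpσ, hpM, hpM', hrank⟩
    by_contra hκ
    rcases dvd_cases h hpp hpM with h1 | h1 | h1
    · obtain ⟨⟨k, hk⟩, hk1⟩ := (Subgroup.ne_bot_iff_exists_ne_one).1 hK1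
      have hk1' : k ≠ 1 := fun h0 => hk1 (Subtype.ext h0)
      have h2 : U ≤ ⁅M, M⁆ := U_le_commutator h.hall.1 (Cfsg.Agent.Lib.Helper76.BGSigU.U_le h)
        h.normal hk (hreg k hk hk1')
      exact hpM' (h1.trans (Subgroup.card_dvd_of_le h2))
    · exact hpσ (hσ.2.1 p hpp h1)
    · exact hκ (h.hall.2.1 p hpp h1)

end Decomp

/-! ### the pair `(M, M*)` -/

/-- the data of BG 14.3: `K`, `K*` are Hall `κ`-subgroups of the maximal subgroups `M`, `M*` with
`K* = C_{M_σ}(K)` and `K = C_{M*_σ}(K*)`. -/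
structure Pair (M Ms K Ks : Subgroup G) : Prop where
  hM : IsCoatom M
  hMs : IsCoatom Ms
  hK : IsPiHallOf (kappa M) K M
  hKs : IsPiHallOf (kappa Ms) Ks Ms
  hKsdef : Ks = sigmaCore M ⊓ centralizer (K : Set G)
  hKdef : K = sigmaCore Ms ⊓ centralizer (Ks : Set G)
  hK1 : K ≠ ⊥
  hKs1 : Ks ≠ ⊥

namespace Pair

variable {M Ms K Ks : Subgroup G}

theorem symm (h : Pair M Ms K Ks) : Pair Ms M Ks K :=
  ⟨h.hMs, h.hM, h.hKs, h.hK, h.hKdef, h.hKsdef, h.hKs1, h.hK1⟩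

theorem K_le (h : Pair M Ms K Ks) : K ≤ sigmaCore Ms := by
  have := h.hKdef
  exact this ▸ inf_le_left

theorem Ks_le (h : Pair M Ms K Ks) : Ks ≤ sigmaCore M := h.symm.K_le

theorem K_le_Ms (h : Pair M Ms K Ks) : K ≤ Ms := h.K_le.trans (sigmaCore_le' Ms)

theorem Ks_le_M (h : Pair M Ms K Ks) : Ks ≤ M := h.symm.K_le_Ms

/-- elements of `K` and `K*` commute -/
theorem comm (h : Pair M Ms K Ks) : ∀ t ∈ K, ∀ k ∈ Ks, t * k = k * t := by
  intro t ht k hk
  have h1 : k ∈ sigmaCore M ⊓ centralizer (K : Set G) := h.hKsdef ▸ hk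
  exact (Subgroup.mem_centralizer_iff.1 (Subgroup.mem_inf.1 h1).2) t ht

/-- primes dividing `|K|` lie in `κ(M)`, hence outside `σ(M)` -/
theorem not_sigma_of_dvd_K (h : Pair M Ms K Ks) {q : ℕ} (hq : q.Prime) (hqK : q ∣ Nat.card K) :
    q ∉ sigma M := (h.hK.2.1 q hq hqK).2.2.1

/-- `M` and `M*` are not conjugate -/
theorem not_conj (h : Pair M Ms K Ks) (hH : StmtHall G) (g : G) :
    Ms ≠ M.map (MulAut.conj g).toMonoidHom := by
  intro heq
  have hcard : Nat.card K ≠ 1 := fun h1 => h.hK1 ((Subgroup.card_eq_one).1 h1)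
  obtain ⟨q, hq, hqK⟩ := Nat.exists_prime_and_dvd hcard
  have h1 : q ∉ sigma M := h.not_sigma_of_dvd_K hq hqK
  have h2 : q ∈ sigma Ms :=
    (hH Ms h.hMs).2.1 q hq (hqK.trans (Subgroup.card_dvd_of_le h.K_le))
  apply h1
  have h3 : q ∈ sigma (Cfsg.Agent.Lib.Helper33.cj g M) := by
    rw [Cfsg.Agent.Lib.Helper33.cj_def, ← heq]; exact h2
  have h4 := Cfsg.Agent.Lib.Helper63.BG13.sigma_cj g⁻¹ h3
  rwa [Cfsg.Agent.Lib.Helper33.cj_inv_cj] at h4

/-- `M_σ ∩ M*_σ = 1`, by BG 13.9 -/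
theorem sigma_disj (h : Pair M Ms K Ks) (hH : StmtHall G) (h78 : Stmt1378 G) :
    sigmaCore M ⊓ sigmaCore Ms = ⊥ := by
  by_contra hne
  obtain ⟨⟨x, hx⟩, hx1⟩ := (Subgroup.ne_bot_iff_exists_ne_one).1 hne
  have hx1' : x ≠ 1 := fun h0 => hx1 (Subtype.ext h0)
  obtain ⟨hxM, hxMs⟩ := Subgroup.mem_inf.1 hx
  have hn1 : orderOf x ≠ 1 := fun h0 => hx1' (orderOf_eq_one_iff.1 h0)
  have hp : (orderOf x).minFac.Prime := Nat.minFac_prime hn1
  have hpd : (orderOf x).minFac ∣ orderOf x := Nat.minFac_dvd _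
  have h1 : (orderOf x).minFac ∈ sigma M :=
    (hH M h.hM).2.1 _ hp (hpd.trans (Subgroup.orderOf_dvd_natCard _ hxM))
  have h2 : (orderOf x).minFac ∈ sigma Ms :=
    (hH Ms h.hMs).2.1 _ hp (hpd.trans (Subgroup.orderOf_dvd_natCard _ hxMs))
  obtain ⟨g, hg⟩ := h78 M Ms h.hM h.hMs ⟨_, h1, h2⟩
  exact h.not_conj hH g hg

/-- `M_σ ∩ M* = K*` -/
theorem sigmaCore_inf (h : Pair M Ms K Ks) (hH : StmtHall G) (h78 : Stmt1378 G) :
    sigmaCore M ⊓ Ms = Ks := by
  apply le_antisymm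
  · rw [h.hKsdef]
    exact inf_le_cent h.hK.1 h.K_le (h.sigma_disj hH h78)
  · exact le_inf h.Ks_le h.hKs.1

/-- `M ∩ M* = K K*` -/
theorem inf_eq (h : Pair M Ms K Ks) (hH : StmtHall G) (h78 : Stmt1378 G)
    (h30 : C1430 M K) : M ⊓ Ms = K ⊔ Ks := by
  have hsym : sigmaCore Ms ⊓ M = K := h.symm.sigmaCore_inf hH (fun A B hA hB hne => h78 A B hA hB hne)
  apply le_antisymm
  · intro d hd
    obtain ⟨hdM, hdMs⟩ := Subgroup.mem_inf.1 hd
    -- `d` normalizes `K = M*_σ ∩ M`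
    have key : ∀ e ∈ M ⊓ Ms, ∀ k ∈ K, e * k * e⁻¹ ∈ K := by
      intro e he k hk
      obtain ⟨heM, heMs⟩ := Subgroup.mem_inf.1 he
      rw [← hsym]
      exact Subgroup.mem_inf.2 ⟨conj_mem_sigmaCore heMs (h.K_le hk),
        M.mul_mem (M.mul_mem heM (h.hK.1 hk)) (M.inv_mem heM)⟩
    have hdN : d ∈ normalizer (K : Set G) := by
      rw [Subgroup.mem_normalizer_iff]
      intro k
      constructor
      · exact key d hd k
      · intro hk
        have h1 := key d⁻¹ ((M ⊓ Ms).inv_mem hd) _ hk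
        have h2 : d⁻¹ * (d * k * d⁻¹) * d⁻¹⁻¹ = k := by group
        rwa [h2] at h1
    obtain ⟨x, hx, hxp⟩ := exists_prime_sub h.hK1
    have h2 := (h30.2.2 _ hx hxp).2.1
    rw [h.hKsdef, ← h2]
    exact Subgroup.mem_inf.2 ⟨hdM, hdN⟩
  · exact sup_le (le_inf h.hK.1 h.K_le_Ms) (le_inf h.Ks_le_M h.hKs.1)

/-- `K*` is a Hall `σ(M)`-subgroup of `M*` -/
theorem hall_sigma (hG : IsMinSimpleOddOrder G) (h : Pair M Ms K Ks) (hH : StmtHall G)
    (h78 : Stmt1378 G) (h31 : C1431 M K) : IsPiHallOf (sigma M) Ks Ms := by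
  refine ⟨h.hKs.1, ?_, ?_⟩
  · intro p hp hpd
    exact (hH M h.hM).2.1 p hp (hpd.trans (Subgroup.card_dvd_of_le h.Ks_le))
  · obtain ⟨m, m', hmm, hm, hm'⟩ := exists_pi_part (sigma M) (Nat.card Ms) Nat.card_pos
    have hcop : m.Coprime m' := Nat.coprime_of_dvd (fun k hk h1 h2 => hm' k hk (hm k hk h1) h2)
    haveI : Group.IsSolvable ↥Ms := Cfsg.Agent.Lib.Helper23.isSolvable_of_ne_top hG h.hMs.1
    have hKsσ : ∀ p : ℕ, p.Prime → p ∣ Nat.card Ks → p ∈ sigma M := fun p hp hpd =>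
      (hH M h.hM).2.1 p hp (hpd.trans (Subgroup.card_dvd_of_le h.Ks_le))
    have hcop2 : (Nat.card Ks).Coprime m' :=
      Nat.coprime_of_dvd (fun k hk h1 h2 => hm' k hk (hKsσ k hk h1) h2)
    obtain ⟨H, hHMs, hHcard, hKsH⟩ :=
      Cfsg.Agent.Lib.Helper68.BG1215.hall_exists_ge m m' hmm hcop h.hKs.1 hcop2
    have hHσ : ∀ p : ℕ, p.Prime → p ∣ Nat.card H → p ∈ sigma M := by
      rw [hHcard]; exact hm
    have hne : H ⊓ (sigmaCore M ⊓ centralizer (K : Set G)) ≠ ⊥ := by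
      rw [← h.hKsdef, inf_eq_right.2 hKsH]; exact h.hKs1
    have hHle : H ≤ sigmaCore M := h31.2.2.2 H hHσ hne
    have hHKs : H ≤ Ks := by
      rw [← h.sigmaCore_inf hH h78]; exact le_inf hHle hHMs
    have hEq : H = Ks := le_antisymm hHKs hKsH
    have hcard : Nat.card Ks = m := by rw [← hEq]; exact hHcard
    have hrel : Ks.relIndex Ms = m' := by
      have h1 := Cfsg.Agent.Lib.Helper76.BGSigU.card_mul_relIndex h.hKs.1
      rw [hcard, hmm] at h1
      have hmpos : 0 < m := by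
        rcases Nat.eq_zero_or_pos m with h0 | h0
        · rw [h0, zero_mul] at hmm
          have : 0 < Nat.card Ms := Nat.card_pos
          omega
        · exact h0
      exact Nat.eq_of_mul_eq_mul_left hmpos h1
    intro p hp hpσ
    rw [hrel]
    exact hm' p hp hpσ

/-- `|K|` and `|K*|` are coprime -/
theorem coprime_card (h : Pair M Ms K Ks) (hH : StmtHall G) :
    (Nat.card K).Coprime (Nat.card Ks) :=
  Nat.coprime_of_dvd (fun q hq h1 h2 => h.not_sigma_of_dvd_K hq h1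
    ((hH M h.hM).2.1 q hq (h2.trans (Subgroup.card_dvd_of_le h.Ks_le))))

end Pair

/-! ### powers -/

omit [Finite G] in
theorem exists_pow_eq_right {x y : G} (hc : x * y = y * x) {a : ℕ} (hx : x ^ a = 1)
    (hy : a.Coprime (orderOf y)) : ∃ n : ℕ, (x * y) ^ n = y := by
  obtain ⟨m, hm⟩ := exists_pow_eq_self_of_coprime hy
  refine ⟨a * m, ?_⟩
  have hc' : Commute x y := hc
  rw [pow_mul, hc'.mul_pow a, hx, one_mul, hm]

omit [Finite G] in
theorem exists_pow_eq_left {x y : G} (hc : x * y = y * x) {b : ℕ} (hy : y ^ b = 1)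
    (hx : b.Coprime (orderOf x)) : ∃ n : ℕ, (x * y) ^ n = x := by
  obtain ⟨n, hn⟩ := exists_pow_eq_right hc.symm hy hx
  exact ⟨n, by rw [hc]; exact hn⟩

theorem pow_card_eq_one_of_mem {K : Subgroup G} {x : G} (hx : x ∈ K) : x ^ Nat.card K = 1 :=
  orderOf_dvd_iff_pow_eq_one.1 (Subgroup.orderOf_dvd_natCard K hx)

theorem pow_ne_one_of_coprime {K : Subgroup G} {x : G} (hx : x ∈ K) (hx1 : x ≠ 1) {b : ℕ}
    (hb : b.Coprime (Nat.card K)) : x ^ b ≠ 1 := by
  intro h0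
  have h1 : orderOf x ∣ b := orderOf_dvd_iff_pow_eq_one.2 h0
  have h2 : orderOf x ∣ Nat.card K := Subgroup.orderOf_dvd_natCard K hx
  have h3 : orderOf x = 1 := Nat.eq_one_of_dvd_coprimes hb h1 h2
  exact hx1 (orderOf_eq_one_iff.1 h3)

/-! ### centralizers -/

/-- `C_M(k) = K K*` for `k ∈ K#` (`K` abelian) -/
theorem cent_eq {M K : Subgroup G} (hKab : ∀ a ∈ K, ∀ b ∈ K, a * b = b * a) (hKM : K ≤ M)
    (h30 : C1430 M K) {k : G} (hk : k ∈ K) (hk1 : k ≠ 1) :
    M ⊓ centralizer ({k} : Set G) = K ⊔ (sigmaCore M ⊓ centralizer (K : Set G)) := by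
  obtain ⟨x, hx, hxp⟩ := Cfsg.Agent.Lib.Helper76.BGSigU.exists_prime_card_zpowers hk1
  have hXK : Subgroup.zpowers x ≤ K :=
    (Subgroup.zpowers_le.2 hx).trans (Subgroup.zpowers_le.2 hk)
  have h1 := (h30.2.2 _ hXK hxp).1
  apply le_antisymm
  · rw [← h1]
    exact inf_le_inf_left _ (Cfsg.Agent.Lib.Helper76.BGSigU.centralizer_singleton_le_normalizer hx)
  · apply sup_le
    · refine le_inf hKM ?_
      intro a ha
      rw [Subgroup.mem_centralizer_iff]
      intro z hz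
      rw [Set.mem_singleton_iff] at hz
      subst hz
      exact hKab z hk a ha
    · refine le_inf (inf_le_left.trans (sigmaCore_le' M)) (inf_le_right.trans ?_)
      exact Subgroup.centralizer_le (by
        intro z hz
        rw [Set.mem_singleton_iff] at hz
        rw [hz]; exact hk)

omit [Finite G] in
theorem commute_pow_of_mem_centralizer {g z : G} (hg : g ∈ centralizer ({z} : Set G)) (n : ℕ) :
    z ^ n * g = g * z ^ n := by
  have h1 : z * g = g * z := (Subgroup.mem_centralizer_iff.1 hg) z rfl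
  have h2 : Commute z g := h1
  exact (h2.pow_left n).eq

omit [Finite G] in
theorem mem_map_conj_of_commute {M : Subgroup G} {g y : G} (hy : y ∈ M) (hc : y * g = g * y) :
    y ∈ M.map (MulAut.conj g).toMonoidHom := by
  refine ⟨y, hy, ?_⟩
  change (MulAut.conj g) y = y
  rw [MulAut.conj_apply, ← hc]; group

namespace Pair

variable {M Ms K Ks : Subgroup G}

/-- an element centralizing `y ∈ K*#` lies in `M` -/
theorem mem_of_commute (h : Pair M Ms K Ks) (h31 : C1431 M K) {g y : G} (hy : y ∈ Ks)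
    (hy1 : y ≠ 1) (hc : y * g = g * y) : g ∈ M := by
  by_contra hg
  have h1 := h31.1 g hg
  rw [← h.hKsdef] at h1
  have h2 : y ∈ Ks ⊓ M.map (MulAut.conj g).toMonoidHom :=
    Subgroup.mem_inf.2 ⟨hy, mem_map_conj_of_commute (h.Ks_le_M hy) hc⟩
  rw [h1, Subgroup.mem_bot] at h2
  exact hy1 h2

/-- **BG 14.3(c)**: the centralizers of `x ∈ K#`, `y ∈ K*#` and `x y`. -/
theorem centralizers (h : Pair M Ms K Ks) (hH : StmtHall G)
    (hKab : ∀ a ∈ K, ∀ b ∈ K, a * b = b * a) (hKsab : ∀ a ∈ Ks, ∀ b ∈ Ks, a * b = b * a)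
    (h30 : C1430 M K) (h30s : C1430 Ms Ks) (h31 : C1431 M K)
    {x y : G} (hx : x ∈ K) (hx1 : x ≠ 1) (hy : y ∈ Ks) (hy1 : y ≠ 1) :
    M ⊓ centralizer ({x} : Set G) = K ⊔ Ks ∧ Ms ⊓ centralizer ({y} : Set G) = K ⊔ Ks ∧
      centralizer ({x * y} : Set G) = K ⊔ Ks := by
  have e1 : M ⊓ centralizer ({x} : Set G) = K ⊔ Ks := by
    rw [cent_eq hKab h.hK.1 h30 hx hx1, ← h.hKsdef]
  have e2 : Ms ⊓ centralizer ({y} : Set G) = K ⊔ Ks := by
    rw [cent_eq hKsab h.hKs.1 h30s hy hy1, ← h.hKdef, sup_comm]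
  refine ⟨e1, e2, ?_⟩
  have hxy : x * y = y * x := h.comm x hx y hy
  have hcop := h.coprime_card hH
  apply le_antisymm
  · intro g hg
    obtain ⟨n, hn⟩ := exists_pow_eq_right hxy (pow_card_eq_one_of_mem hx)
      (Nat.Coprime.coprime_dvd_right (Subgroup.orderOf_dvd_natCard Ks hy) hcop)
    obtain ⟨n', hn'⟩ := exists_pow_eq_left hxy (pow_card_eq_one_of_mem hy)
      (Nat.Coprime.coprime_dvd_right (Subgroup.orderOf_dvd_natCard K hx) hcop.symm)
    have hgy : y * g = g * y := by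
      have := commute_pow_of_mem_centralizer hg n
      rwa [hn] at this
    have hgx : x * g = g * x := by
      have := commute_pow_of_mem_centralizer hg n'
      rwa [hn'] at this
    have hgM : g ∈ M := h.mem_of_commute h31 hy hy1 hgy
    rw [← e1]
    refine Subgroup.mem_inf.2 ⟨hgM, ?_⟩
    rw [Subgroup.mem_centralizer_iff]
    intro z hz
    rw [Set.mem_singleton_iff] at hz
    rw [hz]; exact hgx
  · apply sup_le
    · intro a ha
      rw [Subgroup.mem_centralizer_iff]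
      intro z hz
      rw [Set.mem_singleton_iff] at hz
      subst hz
      have h1 : x * a = a * x := hKab x hx a ha
      have h2 : a * y = y * a := h.comm a ha y hy
      calc x * y * a = x * (y * a) := by group
        _ = x * (a * y) := by rw [h2]
        _ = (x * a) * y := by group
        _ = (a * x) * y := by rw [h1]
        _ = a * (x * y) := by group
    · intro a ha
      rw [Subgroup.mem_centralizer_iff]
      intro z hz
      rw [Set.mem_singleton_iff] at hz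
      subst hz
      have h1 : x * a = a * x := h.comm x hx a ha
      have h2 : y * a = a * y := hKsab y hy a ha
      calc x * y * a = x * (y * a) := by group
        _ = x * (a * y) := by rw [h2]
        _ = (x * a) * y := by group
        _ = (a * x) * y := by rw [h1]
        _ = a * (x * y) := by group

end Pair

end Cfsg.Agent.Lib.Helper56.BG143
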