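import Mathlib
import Cfsg.Agent.Lib.Helper24.Coprime

/-!
# Abstract coprime actions: fixed points, sub- and quotient actions, exactness of fixed points
-/

set_option autoImplicit false
set_option linter.unusedSectionVars false
set_option linter.unusedVariables false

universe u v

namespace Cfsg.Agent.Lib.Helper56.FrobAct

variable {Γ : Type u} [Group Γ]

/-- fixed points in `H` of a subgroup `S ≤ Γ`. -/
def fixOf (S : Subgroup Γ) (H : Type v) [Group H] [MulDistribMulAction Γ H] : Subgroup H where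
  carrier := {h | ∀ s ∈ S, s • h = h}
  mul_mem' := by
    intro a b ha hb s hs
    rw [smul_mul', ha s hs, hb s hs]
  one_mem' := fun s _ => smul_one s
  inv_mem' := by
    intro a ha s hs
    rw [smul_inv', ha s hs]

theorem mem_fixOf {S : Subgroup Γ} {H : Type v} [Group H] [MulDistribMulAction Γ H] {h : H} :
    h ∈ fixOf S H ↔ ∀ s ∈ S, s • h = h := Iff.rfl

theorem fixOf_anti {S T : Subgroup Γ} (hST : S ≤ T) (H : Type v) [Group H] [MulDistribMulAction Γ H] :
    fixOf T H ≤ fixOf S H := fun _ hh s hs => hh s (hST hs)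

/-- the stabilizer of a point is a subgroup. -/
def stabOf {H : Type v} [Group H] [MulDistribMulAction Γ H] (h : H) : Subgroup Γ where
  carrier := {g | g • h = h}
  mul_mem' := by
    intro a b ha hb
    show (a * b) • h = h
    rw [mul_smul, hb, ha]
  one_mem' := one_smul Γ h
  inv_mem' := by
    intro a ha
    show a⁻¹ • h = h
    rw [inv_smul_eq_iff]; exact ha.symm

theorem fixOf_sup (S T : Subgroup Γ) (H : Type v) [Group H] [MulDistribMulAction Γ H] :
    fixOf (S ⊔ T) H = fixOf S H ⊓ fixOf T H := by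
  apply le_antisymm
  · exact le_inf (fixOf_anti le_sup_left H) (fixOf_anti le_sup_right H)
  · intro h hh s hs
    have : S ⊔ T ≤ stabOf h := sup_le (fun s hs => hh.1 s hs) (fun s hs => hh.2 s hs)
    exact this hs

theorem fixOf_normal_invariant {U : Subgroup Γ} [U.Normal] {H : Type v} [Group H]
    [MulDistribMulAction Γ H] (g : Γ) (h : H) (hh : h ∈ fixOf U H) : g • h ∈ fixOf U H := by
  intro u hu
  have h1 : g⁻¹ * u * g ∈ U := by
    have := ‹U.Normal›.conj_mem u hu g⁻¹
    simpa using this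
  have h2 := hh _ h1
  calc u • g • h = g • ((g⁻¹ * u * g) • h) := by
        rw [← mul_smul, ← mul_smul]; congr 1; group
    _ = g • h := by rw [h2]

section subquot

variable {H : Type v} [Group H] [MulDistribMulAction Γ H]

/-- the restricted action on an invariant subgroup. -/
@[instance_reducible]
def subAct (N : Subgroup H) (hN : ∀ (g : Γ), ∀ n ∈ N, g • n ∈ N) : MulDistribMulAction Γ N where
  smul g n := ⟨g • (n : H), hN g n n.2⟩
  one_smul n := Subtype.ext (one_smul Γ (n : H))
  mul_smul g g' n := Subtype.ext (mul_smul g g' (n : H))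
  smul_mul g a b := Subtype.ext (smul_mul' g (a : H) (b : H))
  smul_one g := Subtype.ext (smul_one g)

theorem le_comap_of_inv (N : Subgroup H) (hN : ∀ (g : Γ), ∀ n ∈ N, g • n ∈ N) (g : Γ) :
    N ≤ Subgroup.comap (MulDistribMulAction.toMonoidHom H g) N := fun n hn => hN g n hn

/-- the induced action on the quotient by an invariant normal subgroup. -/
@[instance_reducible]
def quotAct (N : Subgroup H) [N.Normal] (hN : ∀ (g : Γ), ∀ n ∈ N, g • n ∈ N) :
    MulDistribMulAction Γ (H ⧸ N) where
  smul g q := QuotientGroup.map N N (MulDistribMulAction.toMonoidHom H g) (le_comap_of_inv N hN g) q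
  one_smul q := QuotientGroup.induction_on q
    (fun h => congrArg (QuotientGroup.mk (s := N)) (one_smul Γ h))
  mul_smul g g' q := QuotientGroup.induction_on q
    (fun h => congrArg (QuotientGroup.mk (s := N)) (mul_smul g g' h))
  smul_mul g a b := map_mul _ a b
  smul_one g := map_one _

theorem quotAct_mk (N : Subgroup H) [N.Normal] (hN : ∀ (g : Γ), ∀ n ∈ N, g • n ∈ N) (g : Γ) (h : H) :
    letI := quotAct N hN
    g • (h : H ⧸ N) = ((g • h : H) : H ⧸ N) := rfl

end subquot

section exact

variable {H : Type v} [Group H] [MulDistribMulAction Γ H]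

open SemidirectProduct in
/-- **Coprime fixed points in cosets.** If `S ≤ Γ` acts coprimely on the solvable invariant normal
subgroup `N` and fixes the coset `N h`, then some element of `N h` is fixed by `S`. -/
theorem exists_fixed_in_coset [Finite Γ] [Finite H] (S : Subgroup Γ) (N : Subgroup H) [N.Normal]
    (hN : ∀ (g : Γ), ∀ n ∈ N, g • n ∈ N) (hcop : (Nat.card S).Coprime (Nat.card N))
    (hsolv : Group.IsSolvable N) (h : H) (hh : ∀ s ∈ S, (s • h) * h⁻¹ ∈ N) :
    ∃ n ∈ N, ∀ s ∈ S, s • (n⁻¹ * h) = n⁻¹ * h := by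
  let φ : Γ →* MulAut H := MulDistribMulAction.toMulAut Γ H
  have hφ : ∀ (g : Γ) (x : H), φ g x = g • x := fun g x => rfl
  haveI : Finite (H ⋊[φ] Γ) :=
    Finite.of_injective (fun g : H ⋊[φ] Γ => (g.left, g.right)) (by
      intro a b hab
      simp only [Prod.mk.injEq] at hab
      exact SemidirectProduct.ext hab.1 hab.2)
  set N' : Subgroup (H ⋊[φ] Γ) := N.map inl with hN'
  set A' : Subgroup (H ⋊[φ] Γ) := S.map inr with hA'
  have hconj : ∀ (g : Γ) (x : H), (inr g : H ⋊[φ] Γ) * inl x * (inr g)⁻¹ = inl (g • x) := by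
    intro g x
    rw [← map_inv, ← inl_aut, hφ]
  have hAN : A' ≤ Subgroup.normalizer (N' : Set (H ⋊[φ] Γ)) := by
    rintro a ⟨s, hs, rfl⟩
    have key : ∀ (g : Γ), ∀ x ∈ N', (inr g : H ⋊[φ] Γ) * x * (inr g)⁻¹ ∈ N' := by
      rintro g x ⟨n, hn, rfl⟩
      rw [hconj]
      exact ⟨g • n, hN g n hn, rfl⟩
    rw [Subgroup.mem_normalizer_iff]
    intro x
    constructor
    · exact key s x
    · intro hx
      have := key s⁻¹ _ hx
      rw [map_inv, inv_inv] at this
      have e : ((inr s : H ⋊[φ] Γ))⁻¹ * ((inr s : H ⋊[φ] Γ) * x * (inr s)⁻¹) * (inr s) = x := by group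
      rw [e] at this
      exact this
  have hcop' : (Nat.card A').Coprime (Nat.card N') := by
    rw [hA', hN', Subgroup.card_map_of_injective inr_injective,
      Subgroup.card_map_of_injective inl_injective]
    exact hcop
  have hsolv' : Group.IsSolvable N' := by
    haveI := hsolv
    exact Group.isSolvable_of_isSolvable_injective
      (f := (N.equivMapOfInjective (inl : H →* H ⋊[φ] Γ) inl_injective).symm.toMonoidHom)
      (MulEquiv.injective _)
  have hk : ∀ a ∈ A', a * (inl h : H ⋊[φ] Γ) * a⁻¹ * (inl h)⁻¹ ∈ N' := by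
    rintro a ⟨s, hs, rfl⟩
    rw [hconj, ← map_inv, ← map_mul]
    exact ⟨_, hh s hs, rfl⟩
  obtain ⟨n', hn', hc⟩ := Cfsg.Agent.Lib.Helper24.fixed_point_lemma N' A' hAN hcop' (Or.inl hsolv')
    (inl h) hk
  obtain ⟨n, hn, rfl⟩ := hn'
  refine ⟨n, hn, ?_⟩
  intro s hs
  rw [Subgroup.mem_centralizer_iff] at hc
  have h1 := hc (inr s) ⟨s, hs, rfl⟩
  rw [← map_inv, ← map_mul] at h1
  have h2 : (inr s : H ⋊[φ] Γ) * inl (n⁻¹ * h) * (inr s)⁻¹ = inl (n⁻¹ * h) := by
    rw [h1]; group
  rw [hconj] at h2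
  exact inl_injective h2

/-- fixed points of the quotient action: cardinality formula. -/
theorem card_fixOf_eq_mul [Finite Γ] [Finite H] (S : Subgroup Γ) (N : Subgroup H) [N.Normal]
    (hN : ∀ (g : Γ), ∀ n ∈ N, g • n ∈ N) (hcop : (Nat.card S).Coprime (Nat.card N))
    (hsolv : Group.IsSolvable N) :
    Nat.card (fixOf S H) = Nat.card ↥(fixOf S H ⊓ N)
      * Nat.card (@fixOf Γ _ S (H ⧸ N) _ (quotAct N hN)) := by
  letI := quotAct N hN
  let f : ↥(fixOf S H) →* H ⧸ N := (QuotientGroup.mk' N).comp (fixOf S H).subtype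
  have hker : Nat.card f.ker = Nat.card ↥(fixOf S H ⊓ N) := by
    have h1 : f.ker = (fixOf S H ⊓ N).subgroupOf (fixOf S H) := by
      ext x
      rw [MonoidHom.mem_ker, Subgroup.mem_subgroupOf]
      show ((x : H) : H ⧸ N) = 1 ↔ _
      rw [QuotientGroup.eq_one_iff]
      constructor
      · intro hx; exact ⟨x.2, hx⟩
      · intro hx; exact hx.2
    rw [h1]
    exact Nat.card_congr (Subgroup.subgroupOfEquivOfLe inf_le_left).toEquiv
  have hrange : f.range = fixOf S (H ⧸ N) := by
    ext q
    constructor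
    · rintro ⟨x, rfl⟩
      intro s hs
      show s • ((x : H) : H ⧸ N) = ((x : H) : H ⧸ N)
      rw [quotAct_mk, x.2 s hs]
    · intro hq
      induction q using QuotientGroup.induction_on with
      | H h =>
        have hh : ∀ s ∈ S, (s • h) * h⁻¹ ∈ N := by
          intro s hs
          have h1 := hq s hs
          rw [quotAct_mk] at h1
          rw [← QuotientGroup.eq_one_iff, QuotientGroup.mk_mul, QuotientGroup.mk_inv, h1,
            mul_inv_cancel]
        obtain ⟨n, hn, hfix⟩ := exists_fixed_in_coset S N hN hcop hsolv h hh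
        refine ⟨⟨n⁻¹ * h, hfix⟩, ?_⟩
        show ((n⁻¹ * h : H) : H ⧸ N) = (h : H ⧸ N)
        rw [QuotientGroup.mk_mul, QuotientGroup.mk_inv, (QuotientGroup.eq_one_iff n).mpr hn]
        simp
  have h1 := Subgroup.card_mul_index f.ker
  rw [Subgroup.index_ker, hker, hrange] at h1
  exact h1.symm

/-- fixed points of the quotient are images of fixed points. -/
theorem exists_fixOf_lift [Finite Γ] [Finite H] (S : Subgroup Γ) (N : Subgroup H) [N.Normal]
    (hN : ∀ (g : Γ), ∀ n ∈ N, g • n ∈ N) (hcop : (Nat.card S).Coprime (Nat.card N))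
    (hsolv : Group.IsSolvable N) (q : H ⧸ N) (hq : q ∈ @fixOf Γ _ S (H ⧸ N) _ (quotAct N hN)) :
    ∃ h ∈ fixOf S H, (h : H ⧸ N) = q := by
  letI := quotAct N hN
  induction q using QuotientGroup.induction_on with
  | H h =>
    have hh : ∀ s ∈ S, (s • h) * h⁻¹ ∈ N := by
      intro s hs
      have h1 := hq s hs
      rw [quotAct_mk] at h1
      rw [← QuotientGroup.eq_one_iff, QuotientGroup.mk_mul, QuotientGroup.mk_inv, h1,
        mul_inv_cancel]
    obtain ⟨n, hn, hfix⟩ := exists_fixed_in_coset S N hN hcop hsolv h hh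
    refine ⟨n⁻¹ * h, hfix, ?_⟩
    rw [QuotientGroup.mk_mul, QuotientGroup.mk_inv, (QuotientGroup.eq_one_iff n).mpr hn]
    simp

/-- fixed points of the restricted action. -/
theorem card_fixOf_subAct (S : Subgroup Γ) (N : Subgroup H)
    (hN : ∀ (g : Γ), ∀ n ∈ N, g • n ∈ N) :
    Nat.card (@fixOf Γ _ S N _ (subAct N hN)) = Nat.card ↥(fixOf S H ⊓ N) := by
  letI := subAct N hN
  refine Nat.card_congr
    { toFun := fun x => ⟨((x : N) : H), fun s hs => ?_, (x : N).2⟩
      invFun := fun x => ⟨⟨(x : H), x.2.2⟩, fun s hs => ?_⟩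
      left_inv := fun x => rfl
      right_inv := fun x => rfl }
  · exact congrArg Subtype.val (x.2 s hs)
  · exact Subtype.ext (x.2.1 s hs)

end exact

end Cfsg.Agent.Lib.Helper56.FrobAct
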