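import Mathlib

/-!
# Vandermonde counting lemma (metacyclic case of the Frobenius fixed point formula)

`A` a finite additive commutative group, `ζ` an additive endomorphism, `E` a finite group acting on
`A` such that `e • ζ a = ζ ^ (t e) (e • a)` and the operators `ζ ^ t e - ζ ^ t e'` (`e ≠ e'`) are
injective.  Then `A` is in bijection with `Fix(E) ^ |E|`.
-/

set_option autoImplicit false
set_option linter.unusedSectionVars false
set_option linter.unusedVariables false

namespace Cfsg.Agent.Lib.Helper56.FrobMC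

open Polynomial Matrix

section additive

variable {A : Type*} [AddCommGroup A] [Finite A]
variable {E : Type*} [Group E] [Fintype E] [DistribMulAction E A]
variable (ζ : Module.End ℤ A) (t : E → ℕ)

/-- evaluation of an integer polynomial at `ζ`. -/
noncomputable def ev : ℤ[X] →ₐ[ℤ] Module.End ℤ A := Polynomial.aeval ζ

theorem ev_X_pow (n : ℕ) : ev ζ (X ^ n) = ζ ^ n := by
  unfold ev; rw [aeval_X_pow]

theorem ev_mul_apply (p q : ℤ[X]) (a : A) : ev ζ (p * q) a = ev ζ p (ev ζ q a) := by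
  rw [map_mul]; rfl

theorem hrel_pow (hrel : ∀ (e : E) (a : A), e • ζ a = (ζ ^ t e) (e • a)) (e : E) (k : ℕ) (a : A) :
    e • (ζ ^ k) a = (ζ ^ (t e * k)) (e • a) := by
  induction k generalizing a with
  | zero => simp
  | succ k ih =>
    rw [pow_succ', Module.End.mul_apply, hrel, ih, Nat.mul_succ, pow_add, Module.End.mul_apply,
      ← Module.End.mul_apply, ← pow_add, ← Module.End.mul_apply, ← pow_add, add_comm]

theorem hmult (hrel : ∀ (e : E) (a : A), e • ζ a = (ζ ^ t e) (e • a)) (e' e : E) (x : A) :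
    (ζ ^ t (e' * e)) x = (ζ ^ (t e' * t e)) x := by
  have h1 := hrel (e' * e) ((e' * e)⁻¹ • x)
  rw [smul_inv_smul] at h1
  rw [← h1, mul_smul, hrel e, hrel_pow ζ t hrel e' (t e), ← mul_smul, smul_inv_smul]

theorem hmult_pow (hrel : ∀ (e : E) (a : A), e • ζ a = (ζ ^ t e) (e • a)) (e' e : E) (i : ℕ) (x : A) :
    (ζ ^ (t (e' * e) * i)) x = (ζ ^ (t e' * (t e * i))) x := by
  induction i generalizing x with
  | zero => simp
  | succ i ih =>
    rw [Nat.mul_succ, pow_add, Module.End.mul_apply, hmult ζ t hrel, ih, ← Module.End.mul_apply,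
      ← pow_add]
    congr 2
    ring

/-- the Vandermonde matrix with nodes `X ^ t e`. -/
noncomputable def vand (ε : E ≃ Fin (Fintype.card E)) :
    Matrix (Fin (Fintype.card E)) (Fin (Fintype.card E)) ℤ[X] :=
  Matrix.vandermonde (fun j => X ^ t (ε.symm j))

theorem ev_vand (ε : E ≃ Fin (Fintype.card E)) (j i : Fin (Fintype.card E)) :
    ev ζ (vand t ε j i) = ζ ^ (t (ε.symm j) * (i : ℕ)) := by
  unfold vand
  rw [Matrix.vandermonde_apply, ← pow_mul, ev_X_pow]

/-- `Φ a j = Σ_i V_{ji}(ζ) a_i`. -/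
noncomputable def Phi (ε : E ≃ Fin (Fintype.card E)) (a : Fin (Fintype.card E) → A) :
    Fin (Fintype.card E) → A :=
  fun j => ∑ i, ev ζ (vand t ε j i) (a i)

/-- `Ψ c i = Σ_j adj(V)_{ij}(ζ) c_j`. -/
noncomputable def Psi (ε : E ≃ Fin (Fintype.card E)) (c : Fin (Fintype.card E) → A) :
    Fin (Fintype.card E) → A :=
  fun i => ∑ j, ev ζ ((vand t ε).adjugate i j) (c j)

theorem Psi_Phi (ε : E ≃ Fin (Fintype.card E)) (a : Fin (Fintype.card E) → A)
    (i : Fin (Fintype.card E)) :
    Psi ζ t ε (Phi ζ t ε a) i = ev ζ (vand t ε).det (a i) := by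
  unfold Psi Phi
  simp only [map_sum]
  rw [Finset.sum_comm]
  have h : ∀ k : Fin (Fintype.card E),
      ∑ j, ev ζ ((vand t ε).adjugate i j) (ev ζ (vand t ε j k) (a k))
        = ev ζ (((vand t ε).adjugate * vand t ε) i k) (a k) := by
    intro k
    rw [Matrix.mul_apply, map_sum, LinearMap.sum_apply]
    refine Finset.sum_congr rfl (fun j _ => ?_)
    rw [ev_mul_apply]
  simp only [h]
  rw [Matrix.adjugate_mul]
  simp only [Matrix.smul_apply, Matrix.one_apply, smul_eq_mul, mul_ite, mul_one, mul_zero]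
  rw [Finset.sum_eq_single i]
  · simp
  · intro k _ hk
    rw [if_neg (Ne.symm hk)]; simp
  · intro h; exact absurd (Finset.mem_univ i) h

theorem det_inj (ε : E ≃ Fin (Fintype.card E))
    (hinj : ∀ e e' : E, e ≠ e' → ∀ a : A, (ζ ^ t e) a = (ζ ^ t e') a → a = 0) :
    Function.Injective (ev ζ (vand t ε).det) := by
  unfold vand
  rw [Matrix.det_vandermonde]
  -- injectivity of products
  have hprod : ∀ {ι : Type} (s : Finset ι) (f : ι → ℤ[X]),
      (∀ i ∈ s, Function.Injective (ev ζ (f i))) → Function.Injective (ev ζ (∏ i ∈ s, f i)) := by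
    intro ι s f
    classical
    induction s using Finset.induction_on with
    | empty =>
      intro _
      simp only [Finset.prod_empty, map_one]
      exact fun x y h => h
    | insert a s ha ih =>
      intro h
      rw [Finset.prod_insert ha, map_mul]
      have h1 := h a (Finset.mem_insert_self a s)
      have h2 := ih (fun i hi => h i (Finset.mem_insert_of_mem hi))
      intro x y hxy
      exact h2 (h1 hxy)
  apply hprod
  intro i _
  apply hprod
  intro j hj
  have hij : i ≠ j := ne_of_lt (Finset.mem_Ioi.mp hj)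
  have hne : ε.symm j ≠ ε.symm i := fun h => hij (ε.symm.injective h).symm
  intro x y hxy
  rw [map_sub, ev_X_pow, ev_X_pow, LinearMap.sub_apply, LinearMap.sub_apply] at hxy
  have h3 : (ζ ^ t (ε.symm j)) (x - y) = (ζ ^ t (ε.symm i)) (x - y) := by
    rw [map_sub, map_sub]
    exact sub_eq_sub_iff_sub_eq_sub.mp hxy
  exact sub_eq_zero.mp (hinj _ _ hne _ h3)

theorem Phi_injective (ε : E ≃ Fin (Fintype.card E))
    (hinj : ∀ e e' : E, e ≠ e' → ∀ a : A, (ζ ^ t e) a = (ζ ^ t e') a → a = 0) :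
    Function.Injective (Phi ζ t ε) := by
  intro a b hab
  funext i
  apply det_inj ζ t ε hinj
  rw [← Psi_Phi, ← Psi_Phi, hab]

theorem Phi_bijective (ε : E ≃ Fin (Fintype.card E))
    (hinj : ∀ e e' : E, e ≠ e' → ∀ a : A, (ζ ^ t e) a = (ζ ^ t e') a → a = 0) :
    Function.Bijective (Phi ζ t ε) :=
  Finite.injective_iff_bijective.mp (Phi_injective ζ t ε hinj)

/-- the vector `(e_j • w)_j`. -/
def cvec (ε : E ≃ Fin (Fintype.card E)) (w : A) : Fin (Fintype.card E) → A :=
  fun j => ε.symm j • w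

theorem Phi_apply (ε : E ≃ Fin (Fintype.card E)) (a : Fin (Fintype.card E) → A)
    (j : Fin (Fintype.card E)) :
    Phi ζ t ε a j = ∑ i : Fin (Fintype.card E), (ζ ^ (t (ε.symm j) * i.val)) (a i) := by
  unfold Phi
  refine Finset.sum_congr rfl (fun i _ => ?_)
  rw [ev_vand]

/-- acting by `e'` on a solution of the system permutes the rows. -/
theorem smul_Phi (hrel : ∀ (e : E) (a : A), e • ζ a = (ζ ^ t e) (e • a))
    (ε : E ≃ Fin (Fintype.card E)) (a : Fin (Fintype.card E) → A) (e' : E)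
    (j : Fin (Fintype.card E)) :
    e' • Phi ζ t ε a j = Phi ζ t ε (fun i => e' • a i) (ε (e' * ε.symm j)) := by
  rw [Phi_apply, Phi_apply, Finset.smul_sum]
  refine Finset.sum_congr rfl (fun i _ => ?_)
  rw [hrel_pow ζ t hrel, Equiv.symm_apply_apply, hmult_pow ζ t hrel]

/-- the components of the solution of `Φ a = (e_j • w)_j` are fixed by `E`. -/
theorem sol_fixed (hrel : ∀ (e : E) (a : A), e • ζ a = (ζ ^ t e) (e • a))
    (hinj : ∀ e e' : E, e ≠ e' → ∀ a : A, (ζ ^ t e) a = (ζ ^ t e') a → a = 0)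
    (ε : E ≃ Fin (Fintype.card E)) (a : Fin (Fintype.card E) → A) (w : A)
    (ha : Phi ζ t ε a = cvec ε w) (e' : E) (i : Fin (Fintype.card E)) : e' • a i = a i := by
  have h : Phi ζ t ε (fun i => e' • a i) = Phi ζ t ε a := by
    funext k
    -- k = ε (e' * ε.symm j) with j = ε (e'⁻¹ * ε.symm k)
    have hk : k = ε (e' * ε.symm (ε (e'⁻¹ * ε.symm k))) := by
      rw [Equiv.symm_apply_apply, mul_inv_cancel_left, Equiv.apply_symm_apply]
    rw [hk, ← smul_Phi ζ t hrel, ha, ← hk]
    unfold cvec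
    rw [Equiv.symm_apply_apply, ← mul_smul, mul_inv_cancel_left]
  exact congrFun (Phi_injective ζ t ε hinj h) i

/-- The fixed points of `E`. -/
def fixA (E : Type*) (A : Type*) [Group E] [AddCommGroup A] [DistribMulAction E A] : AddSubgroup A where
  carrier := {a | ∀ e : E, e • a = a}
  add_mem' := by
    intro a b ha hb e
    rw [smul_add, ha e, hb e]
  zero_mem' := fun e => smul_zero e
  neg_mem' := by
    intro a ha e
    rw [smul_neg, ha e]

theorem mem_fixA (a : A) : a ∈ fixA E A ↔ ∀ e : E, e • a = a := Iff.rfl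

/-- the map `Fix^m → A`. -/
noncomputable def Fmap (ε : E ≃ Fin (Fintype.card E)) (a : Fin (Fintype.card E) → fixA E A) : A :=
  Phi ζ t ε (fun i => (a i : A)) (ε 1)

theorem Phi_of_fixed (hrel : ∀ (e : E) (a : A), e • ζ a = (ζ ^ t e) (e • a))
    (ε : E ≃ Fin (Fintype.card E)) (a : Fin (Fintype.card E) → fixA E A) :
    Phi ζ t ε (fun i => (a i : A)) = cvec ε (Fmap ζ t ε a) := by
  funext j
  unfold cvec Fmap
  rw [smul_Phi ζ t hrel, Equiv.symm_apply_apply, mul_one, Equiv.apply_symm_apply]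
  congr 1
  funext i
  exact ((a i).2 (ε.symm j)).symm

theorem Fmap_bijective (hrel : ∀ (e : E) (a : A), e • ζ a = (ζ ^ t e) (e • a))
    (hinj : ∀ e e' : E, e ≠ e' → ∀ a : A, (ζ ^ t e) a = (ζ ^ t e') a → a = 0)
    (ε : E ≃ Fin (Fintype.card E)) : Function.Bijective (Fmap (E := E) ζ t ε) := by
  constructor
  · intro a b hab
    have h := Phi_of_fixed ζ t hrel ε a
    rw [hab, ← Phi_of_fixed ζ t hrel ε b] at h
    have h2 := Phi_injective ζ t ε hinj h
    funext i
    exact Subtype.ext (congrFun h2 i)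
  · intro w
    obtain ⟨a, ha⟩ := (Phi_bijective ζ t ε hinj).2 (cvec ε w)
    refine ⟨fun i => ⟨a i, fun e => sol_fixed ζ t hrel hinj ε a w ha e i⟩, ?_⟩
    unfold Fmap
    show Phi ζ t ε a (ε 1) = w
    rw [ha]
    unfold cvec
    rw [Equiv.symm_apply_apply, one_smul]

/-- **Counting lemma**, additive form. -/
theorem card_eq_pow (hrel : ∀ (e : E) (a : A), e • ζ a = (ζ ^ t e) (e • a))
    (hinj : ∀ e e' : E, e ≠ e' → ∀ a : A, (ζ ^ t e) a = (ζ ^ t e') a → a = 0) :
    Nat.card A = Nat.card (fixA E A) ^ Nat.card E := by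
  have ε : E ≃ Fin (Fintype.card E) := Fintype.equivFin E
  have h := Nat.card_eq_of_bijective _ (Fmap_bijective ζ t hrel hinj ε)
  rw [← h, Nat.card_fun, Nat.card_eq_fintype_card (α := Fin (Fintype.card E)), Fintype.card_fin,
    Nat.card_eq_fintype_card (α := E)]

/-- every element is a polynomial combination `Σ ζ^(k_i) a_i` of fixed points. -/
theorem exists_fixed_decomp (hrel : ∀ (e : E) (a : A), e • ζ a = (ζ ^ t e) (e • a))
    (hinj : ∀ e e' : E, e ≠ e' → ∀ a : A, (ζ ^ t e) a = (ζ ^ t e') a → a = 0) (w : A) :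
    ∃ (a : Fin (Fintype.card E) → fixA E A) (k : Fin (Fintype.card E) → ℕ),
      w = ∑ i : Fin (Fintype.card E), (ζ ^ k i) (a i : A) := by
  have ε : E ≃ Fin (Fintype.card E) := Fintype.equivFin E
  obtain ⟨a, ha⟩ := (Fmap_bijective ζ t hrel hinj ε).2 w
  refine ⟨a, fun i => t (ε.symm (ε 1)) * i.val, ?_⟩
  rw [← ha]
  unfold Fmap
  rw [Phi_apply]

theorem commute_ev (f : Module.End ℤ A) (hf : Commute f ζ) (P : ℤ[X]) : Commute f (ev ζ P) := by
  induction P using Polynomial.induction_on with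
  | C a =>
    unfold ev
    rw [aeval_C]
    exact (Algebra.commutes a f).symm
  | add p q hp hq =>
    rw [map_add]
    exact hp.add_right hq
  | monomial n a h =>
    rw [pow_succ, ← mul_assoc, map_mul]
    refine h.mul_right ?_
    unfold ev
    rw [aeval_X]
    exact hf

/-- If the fixed points are cyclic then `A` is a cyclic `ℤ[ζ]`-module, so any two endomorphisms
commuting with `ζ` commute. -/
theorem comm_of_cyclic_fix (hrel : ∀ (e : E) (a : A), e • ζ a = (ζ ^ t e) (e • a))
    (hinj : ∀ e e' : E, e ≠ e' → ∀ a : A, (ζ ^ t e) a = (ζ ^ t e') a → a = 0)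
    (a0 : A) (hcyc : ∀ a ∈ fixA E A, ∃ n : ℤ, a = n • a0)
    (f g : Module.End ℤ A) (hf : Commute f ζ) (hg : Commute g ζ) (w : A) :
    f (g w) = g (f w) := by
  have key : ∀ w : A, ∃ P : ℤ[X], w = ev ζ P a0 := by
    intro w
    obtain ⟨a, k, hw⟩ := exists_fixed_decomp ζ t hrel hinj w
    choose n hn using fun i => hcyc (a i) (a i).2
    refine ⟨∑ i, C (n i) * X ^ k i, ?_⟩
    rw [hw, map_sum, LinearMap.sum_apply]
    refine Finset.sum_congr rfl (fun i _ => ?_)
    rw [hn i, ev_mul_apply, ev_X_pow]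
    unfold ev
    rw [aeval_C, map_zsmul]
    simp
  obtain ⟨P, hP⟩ := key w
  obtain ⟨Q, hQ⟩ := key (g a0)
  obtain ⟨R, hR⟩ := key (f a0)
  have cf := fun P => commute_ev ζ f hf P
  have cg := fun P => commute_ev ζ g hg P
  have e1 : ∀ (h : Module.End ℤ A) (P : ℤ[X]), Commute h (ev ζ P) → ∀ x, h (ev ζ P x) = ev ζ P (h x) := by
    intro h P hc x
    have := congrArg (fun m : Module.End ℤ A => m x) hc.eq
    simpa using this
  rw [hP, e1 g P (cg P), hQ, e1 f P (cf P), e1 f Q (cf Q), hR, e1 f P (cf P), hR, e1 g P (cg P),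
    e1 g R (cg R), hQ, ← ev_mul_apply, ← ev_mul_apply, ← ev_mul_apply, ← ev_mul_apply]
  congr 2
  ring

end additive

section multiplicative

variable {W : Type*} [CommGroup W] [Finite W] {Γ : Type*} [Group Γ] [MulDistribMulAction Γ W]
variable (W₁ : Subgroup W) (E₀ : Subgroup Γ)

/-- the action of `E₀` on `Additive W₁`. -/
@[instance_reducible]
def addAct (hE : ∀ e ∈ E₀, ∀ w ∈ W₁, e • w ∈ W₁) : DistribMulAction E₀ (Additive W₁) where
  smul e a := Additive.ofMul ⟨(e : Γ) • ((Additive.toMul a : W₁) : W), hE e e.2 _ (Additive.toMul a).2⟩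
  one_smul a := by
    show Additive.ofMul _ = a
    apply Additive.toMul.injective
    apply Subtype.ext
    simp
  mul_smul e e' a := by
    show Additive.ofMul _ = Additive.ofMul _
    apply Additive.toMul.injective
    apply Subtype.ext
    show ((e * e' : E₀) : Γ) • _ = (e : Γ) • ((e' : Γ) • _)
    rw [Subgroup.coe_mul, mul_smul]
  smul_zero e := by
    show Additive.ofMul _ = 0
    apply Additive.toMul.injective
    apply Subtype.ext
    simp
  smul_add e a b := by
    show Additive.ofMul _ = Additive.ofMul _ + Additive.ofMul _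
    apply Additive.toMul.injective
    apply Subtype.ext
    simp [smul_mul']

/-- the endomorphism of `Additive W₁` induced by an automorphism `P` preserving `W₁`. -/
def addEnd (P : MulAut W) (hP : ∀ w ∈ W₁, P w ∈ W₁) : Module.End ℤ (Additive W₁) :=
  AddMonoidHom.toIntLinearMap
    { toFun := fun a => Additive.ofMul ⟨P ((Additive.toMul a : W₁) : W), hP _ (Additive.toMul a).2⟩
      map_zero' := by
        apply Additive.toMul.injective
        apply Subtype.ext
        simp
      map_add' := by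
        intro a b
        apply Additive.toMul.injective
        apply Subtype.ext
        simp }

theorem addEnd_apply (P : MulAut W) (hP : ∀ w ∈ W₁, P w ∈ W₁) (a : Additive W₁) :
    ((Additive.toMul (addEnd W₁ P hP a) : W₁) : W) = P ((Additive.toMul a : W₁) : W) := rfl

theorem addEnd_pow_apply (P : MulAut W) (hP : ∀ w ∈ W₁, P w ∈ W₁) (k : ℕ) (a : Additive W₁) :
    ((Additive.toMul ((addEnd W₁ P hP ^ k) a) : W₁) : W) = (P ^ k) ((Additive.toMul a : W₁) : W) := by
  induction k generalizing a with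
  | zero => simp
  | succ k ih =>
    rw [pow_succ, Module.End.mul_apply, ih, addEnd_apply, pow_succ, MulAut.mul_apply]

/-- **Counting lemma**, multiplicative ambient form. -/
theorem card_eq_pow_mul [Finite E₀] (hE : ∀ e ∈ E₀, ∀ w ∈ W₁, e • w ∈ W₁)
    (P : MulAut W) (hP : ∀ w ∈ W₁, P w ∈ W₁) (t : Γ → ℕ)
    (hrel : ∀ e ∈ E₀, ∀ w ∈ W₁, e • P w = (P ^ t e) (e • w))
    (hinj : ∀ e ∈ E₀, ∀ e' ∈ E₀, e ≠ e' → ∀ w ∈ W₁, (P ^ t e) w = (P ^ t e') w → w = 1) :
    Nat.card W₁ = Nat.card {w : W // w ∈ W₁ ∧ ∀ e ∈ E₀, e • w = w} ^ Nat.card E₀ := by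
  letI := addAct W₁ E₀ hE
  letI : Fintype E₀ := Fintype.ofFinite _
  have hrel' : ∀ (e : E₀) (a : Additive W₁),
      e • (addEnd W₁ P hP) a = ((addEnd W₁ P hP) ^ t e.1) (e • a) := by
    intro e a
    apply Additive.toMul.injective
    apply Subtype.ext
    rw [addEnd_pow_apply]
    exact hrel e.1 e.2 _ (Additive.toMul a).2
  have hinj' : ∀ e e' : E₀, e ≠ e' → ∀ a : Additive W₁,
      ((addEnd W₁ P hP) ^ t e.1) a = ((addEnd W₁ P hP) ^ t e'.1) a → a = 0 := by
    intro e e' hne a h
    have h1 := congrArg (fun x => ((Additive.toMul x : W₁) : W)) h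
    simp only [addEnd_pow_apply] at h1
    have h2 := hinj e.1 e.2 e'.1 e'.2 (fun h => hne (Subtype.ext h)) _ (Additive.toMul a).2 h1
    apply Additive.toMul.injective
    apply Subtype.ext
    exact h2
  have h := card_eq_pow (A := Additive W₁) (E := E₀) (addEnd W₁ P hP) (fun e => t e.1) hrel' hinj'
  have h1 : Nat.card (Additive W₁) = Nat.card W₁ := Nat.card_congr Additive.toMul
  have h2 : Nat.card (fixA E₀ (Additive W₁))
      = Nat.card {w : W // w ∈ W₁ ∧ ∀ e ∈ E₀, e • w = w} := by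
    refine Nat.card_congr
      { toFun := fun a => ⟨((Additive.toMul (a : Additive W₁) : W₁) : W),
          (Additive.toMul (a : Additive W₁)).2, fun e he => ?_⟩
        invFun := fun w => ⟨Additive.ofMul ⟨w.1, w.2.1⟩, fun e => ?_⟩
        left_inv := fun a => ?_
        right_inv := fun w => ?_ }
    · have := a.2 ⟨e, he⟩
      exact congrArg (fun x => ((Additive.toMul x : W₁) : W)) this
    · apply Additive.toMul.injective
      apply Subtype.ext
      exact w.2.2 e.1 e.2
    · rfl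
    · rfl
  rw [← h1, h, h2]

/-- If the fixed points of `E₀` in `W₁` lie in a cyclic group `⟨a₀⟩` then any two automorphisms
preserving `W₁` and commuting with `P` on `W₁` commute on `W₁`. -/
theorem comm_of_cyclic_fix_mul [Finite E₀] (hE : ∀ e ∈ E₀, ∀ w ∈ W₁, e • w ∈ W₁)
    (P : MulAut W) (hP : ∀ w ∈ W₁, P w ∈ W₁) (t : Γ → ℕ)
    (hrel : ∀ e ∈ E₀, ∀ w ∈ W₁, e • P w = (P ^ t e) (e • w))
    (hinj : ∀ e ∈ E₀, ∀ e' ∈ E₀, e ≠ e' → ∀ w ∈ W₁, (P ^ t e) w = (P ^ t e') w → w = 1)
    (a₀ : W) (ha₀ : a₀ ∈ W₁)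
    (hcyc : ∀ w ∈ W₁, (∀ e ∈ E₀, e • w = w) → w ∈ Subgroup.zpowers a₀)
    (f g : MulAut W) (hf : ∀ w ∈ W₁, f w ∈ W₁) (hg : ∀ w ∈ W₁, g w ∈ W₁)
    (hfP : ∀ w ∈ W₁, f (P w) = P (f w)) (hgP : ∀ w ∈ W₁, g (P w) = P (g w))
    (w : W) (hw : w ∈ W₁) : f (g w) = g (f w) := by
  letI := addAct W₁ E₀ hE
  letI : Fintype E₀ := Fintype.ofFinite _
  have hrel' : ∀ (e : E₀) (a : Additive W₁),
      e • (addEnd W₁ P hP) a = ((addEnd W₁ P hP) ^ t e.1) (e • a) := by
    intro e a
    apply Additive.toMul.injective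
    apply Subtype.ext
    rw [addEnd_pow_apply]
    exact hrel e.1 e.2 _ (Additive.toMul a).2
  have hinj' : ∀ e e' : E₀, e ≠ e' → ∀ a : Additive W₁,
      ((addEnd W₁ P hP) ^ t e.1) a = ((addEnd W₁ P hP) ^ t e'.1) a → a = 0 := by
    intro e e' hne a h
    have h1 := congrArg (fun x => ((Additive.toMul x : W₁) : W)) h
    simp only [addEnd_pow_apply] at h1
    have h2 := hinj e.1 e.2 e'.1 e'.2 (fun h => hne (Subtype.ext h)) _ (Additive.toMul a).2 h1
    apply Additive.toMul.injective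
    apply Subtype.ext
    exact h2
  have hcyc' : ∀ a ∈ fixA E₀ (Additive W₁), ∃ n : ℤ, a = n • (Additive.ofMul (⟨a₀, ha₀⟩ : W₁)) := by
    intro a ha
    have h1 : ((Additive.toMul a : W₁) : W) ∈ Subgroup.zpowers a₀ := by
      apply hcyc _ (Additive.toMul a).2
      intro e he
      have := ha ⟨e, he⟩
      exact congrArg (fun x => ((Additive.toMul x : W₁) : W)) this
    obtain ⟨n, hn⟩ := Subgroup.mem_zpowers_iff.mp h1
    refine ⟨n, ?_⟩
    apply Additive.toMul.injective
    apply Subtype.ext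
    rw [← hn]
    simp
  have hcf : Commute (addEnd W₁ f hf) (addEnd W₁ P hP) := by
    apply LinearMap.ext
    intro a
    apply Additive.toMul.injective
    apply Subtype.ext
    exact hfP _ (Additive.toMul a).2
  have hcg : Commute (addEnd W₁ g hg) (addEnd W₁ P hP) := by
    apply LinearMap.ext
    intro a
    apply Additive.toMul.injective
    apply Subtype.ext
    exact hgP _ (Additive.toMul a).2
  have h := comm_of_cyclic_fix (A := Additive W₁) (E := E₀) (addEnd W₁ P hP) (fun e => t e.1)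
    hrel' hinj' _ hcyc' (addEnd W₁ f hf) (addEnd W₁ g hg) hcf hcg (Additive.ofMul ⟨w, hw⟩)
  exact congrArg (fun x => ((Additive.toMul x : W₁) : W)) h

end multiplicative

end Cfsg.Agent.Lib.Helper56.FrobMC
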