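import Mathlib

/-!
# Counting in a transitively permuted direct decomposition

`W` a finite commutative group acted on by `E`; `W₁ ≤ W` a subgroup whose `E`-translates generate
`W` and are independent.  Then `|W| = |W₁|^(number of translates)` and the fixed points of `E` on
`W` are in bijection with the fixed points of the stabilizer of `W₁` on `W₁`.
-/

set_option autoImplicit false
set_option linter.unusedSectionVars false
set_option linter.unusedVariables false

namespace Cfsg.Agent.Lib.Helper56.FrobOrbit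

open Pointwise

variable {W : Type*} [CommGroup W] [Finite W] {E : Type*} [Group E] [Finite E]
  [MulDistribMulAction E W] (W₁ : Subgroup W) [Fintype (MulAction.orbit E W₁)]

/-- families of elements of the translates -/
def Dom : Type _ := {f : MulAction.orbit E W₁ → W // ∀ S : MulAction.orbit E W₁, f S ∈ S.1}

/-- the product map -/
def PhiMap (f : Dom (E := E) W₁) : W := ∏ S, f.1 S

theorem PhiMap_injective (hind : ∀ f : MulAction.orbit E W₁ → W,
    (∀ S : MulAction.orbit E W₁, f S ∈ S.1) → ∏ S, f S = 1 → ∀ S, f S = 1) :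
    Function.Injective (PhiMap (E := E) W₁) := by
  intro f g hfg
  apply Subtype.ext
  funext S
  have h1 : ∀ S : MulAction.orbit E W₁, f.1 S * (g.1 S)⁻¹ ∈ S.1 :=
    fun S => Subgroup.mul_mem _ (f.2 S) (Subgroup.inv_mem _ (g.2 S))
  have h2 : ∏ S, f.1 S * (g.1 S)⁻¹ = 1 := by
    rw [Finset.prod_mul_distrib, Finset.prod_inv_distrib]
    unfold PhiMap at hfg
    rw [hfg, mul_inv_cancel]
  have := hind _ h1 h2 S
  exact mul_inv_eq_one.mp this

theorem PhiMap_surjective (hgen : ∀ w : W, w ∈ ⨆ e : E, e • W₁) :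
    Function.Surjective (PhiMap (E := E) W₁) := by
  classical
  let R : Subgroup W :=
    { carrier := Set.range (PhiMap (E := E) W₁)
      mul_mem' := by
        rintro _ _ ⟨f, rfl⟩ ⟨g, rfl⟩
        refine ⟨⟨fun S => f.1 S * g.1 S, fun S => Subgroup.mul_mem _ (f.2 S) (g.2 S)⟩, ?_⟩
        unfold PhiMap
        rw [Finset.prod_mul_distrib]
      one_mem' := by
        refine ⟨⟨fun S => 1, fun S => Subgroup.one_mem _⟩, ?_⟩
        unfold PhiMap
        simp
      inv_mem' := by
        rintro _ ⟨f, rfl⟩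
        refine ⟨⟨fun S => (f.1 S)⁻¹, fun S => Subgroup.inv_mem _ (f.2 S)⟩, ?_⟩
        unfold PhiMap
        rw [Finset.prod_inv_distrib] }
  have hR : ∀ e : E, e • W₁ ≤ R := by
    intro e s hs
    let S₀ : MulAction.orbit E W₁ := ⟨e • W₁, MulAction.mem_orbit _ e⟩
    refine ⟨⟨fun S => if S₀ = S then s else 1, fun S => ?_⟩, ?_⟩
    · show (if S₀ = S then s else 1) ∈ S.1
      by_cases h : S₀ = S
      · rw [if_pos h, ← h]; exact hs
      · rw [if_neg h]; exact Subgroup.one_mem _
    · unfold PhiMap
      simp only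
      rw [Finset.prod_ite_eq]
      simp
  intro w
  have : w ∈ R := (iSup_le hR) (hgen w)
  exact this

/-- `|W| = |W₁| ^ (number of translates)`. -/
theorem card_eq (hind : ∀ f : MulAction.orbit E W₁ → W,
    (∀ S : MulAction.orbit E W₁, f S ∈ S.1) → ∏ S, f S = 1 → ∀ S, f S = 1)
    (hgen : ∀ w : W, w ∈ ⨆ e : E, e • W₁) :
    Nat.card W = Nat.card W₁ ^ Nat.card (MulAction.orbit E W₁) := by
  have hb : Function.Bijective (PhiMap (E := E) W₁) :=
    ⟨PhiMap_injective W₁ hind, PhiMap_surjective W₁ hgen⟩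
  rw [← Nat.card_eq_of_bijective _ hb]
  unfold Dom
  rw [Nat.card_congr (Equiv.subtypePiEquivPi
    (p := fun (S : MulAction.orbit E W₁) (w : W) => w ∈ S.1)), Nat.card_pi]
  have h1 : ∀ S : MulAction.orbit E W₁, Nat.card {b : W // b ∈ S.1} = Nat.card W₁ := by
    intro S
    obtain ⟨e, he⟩ := MulAction.mem_orbit_iff.mp S.2
    have : Nat.card ↥(e • W₁) = Nat.card W₁ := Nat.card_congr (Subgroup.equivSMul e W₁).symm.toEquiv
    rw [← this]
    have h2 : S.1 = e • W₁ := he.symm
    rw [h2]
  simp only [h1, Finset.prod_const, Finset.card_univ, Nat.card_eq_fintype_card]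

/-- twisting a family by `e`. -/
def twist (e : E) (f : Dom (E := E) W₁) : Dom (E := E) W₁ :=
  ⟨fun S => e • f.1 (e⁻¹ • S), fun S => by
    have h := f.2 (e⁻¹ • S)
    rw [MulAction.orbit.coe_smul] at h
    have h2 : e • f.1 (e⁻¹ • S) ∈ e • (e⁻¹ • S.1) := Subgroup.smul_mem_pointwise_smul _ _ _ h
    rwa [smul_inv_smul] at h2⟩

theorem PhiMap_twist (e : E) (f : Dom (E := E) W₁) :
    PhiMap W₁ (twist W₁ e f) = e • PhiMap W₁ f := by
  unfold PhiMap twist
  simp only
  rw [Finset.smul_prod']
  exact Equiv.prod_comp (MulAction.toPerm e⁻¹ : MulAction.orbit E W₁ ≃ MulAction.orbit E W₁)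
    (fun S => e • f.1 S)

/-- for a fixed point, the family of components is equivariant. -/
theorem comp_equivariant (hind : ∀ f : MulAction.orbit E W₁ → W,
    (∀ S : MulAction.orbit E W₁, f S ∈ S.1) → ∏ S, f S = 1 → ∀ S, f S = 1)
    (f : Dom (E := E) W₁) (hfix : ∀ e : E, e • PhiMap W₁ f = PhiMap W₁ f) (e : E)
    (S : MulAction.orbit E W₁) : f.1 (e • S) = e • f.1 S := by
  have h1 : twist W₁ e f = f := by
    apply PhiMap_injective W₁ hind
    rw [PhiMap_twist, hfix]
  have h2 := congrArg (fun g : Dom (E := E) W₁ => g.1 (e • S)) h1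
  simp only [twist, inv_smul_smul] at h2
  exact h2.symm

/-- the base point of the orbit. -/
def base : MulAction.orbit E W₁ := ⟨W₁, MulAction.mem_orbit_self W₁⟩

/-- fixed points of `E` on `W` correspond to fixed points of the stabilizer on `W₁`. -/
theorem card_fixed_eq (hind : ∀ f : MulAction.orbit E W₁ → W,
    (∀ S : MulAction.orbit E W₁, f S ∈ S.1) → ∏ S, f S = 1 → ∀ S, f S = 1)
    (hgen : ∀ w : W, w ∈ ⨆ e : E, e • W₁) :
    Nat.card {w : W // ∀ e : E, e • w = w}
      = Nat.card {w : W // w ∈ W₁ ∧ ∀ e ∈ MulAction.stabilizer E W₁, e • w = w} := by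
  classical
  have hsurj := PhiMap_surjective W₁ hgen
  have hinj := PhiMap_injective W₁ hind
  -- decomposition
  choose dec hdec using hsurj
  have hbase : ∀ e ∈ MulAction.stabilizer E W₁, e • base (E := E) W₁ = base W₁ := by
    intro e he
    apply Subtype.ext
    rw [MulAction.orbit.coe_smul]
    exact MulAction.mem_stabilizer_iff.mp he
  let ρ : {w : W // ∀ e : E, e • w = w} →
      {w : W // w ∈ W₁ ∧ ∀ e ∈ MulAction.stabilizer E W₁, e • w = w} :=
    fun w => ⟨(dec w.1).1 (base W₁), (dec w.1).2 (base W₁), fun e he => by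
      have hfix : ∀ e : E, e • PhiMap W₁ (dec w.1) = PhiMap W₁ (dec w.1) := by
        intro e; rw [hdec]; exact w.2 e
      rw [← comp_equivariant W₁ hind (dec w.1) hfix e (base W₁), hbase e he]⟩
  apply Nat.card_eq_of_bijective ρ
  constructor
  · intro w w' hww
    have hww' : (dec w.1).1 (base W₁) = (dec w'.1).1 (base W₁) := congrArg Subtype.val hww
    have hfix : ∀ e : E, e • PhiMap W₁ (dec w.1) = PhiMap W₁ (dec w.1) := by
      intro e; rw [hdec]; exact w.2 e
    have hfix' : ∀ e : E, e • PhiMap W₁ (dec w'.1) = PhiMap W₁ (dec w'.1) := by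
      intro e; rw [hdec]; exact w'.2 e
    have : dec w.1 = dec w'.1 := by
      apply Subtype.ext
      funext S
      obtain ⟨e, he⟩ := MulAction.mem_orbit_iff.mp S.2
      have hS : S = e • base (E := E) W₁ := by
        apply Subtype.ext
        rw [MulAction.orbit.coe_smul]
        exact he.symm
      rw [hS, comp_equivariant W₁ hind _ hfix, comp_equivariant W₁ hind _ hfix', hww']
    apply Subtype.ext
    rw [← hdec w.1, ← hdec w'.1, this]
  · intro a
    obtain ⟨a, haW, hast⟩ := a
    -- choose representatives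
    have hrep : ∀ S : MulAction.orbit E W₁, ∃ e : E, e • W₁ = S.1 :=
      fun S => MulAction.mem_orbit_iff.mp S.2
    choose rep hrep' using hrep
    have hwd : ∀ (S : MulAction.orbit E W₁) (e : E), e • W₁ = S.1 → e • a = rep S • a := by
      intro S e he
      have h1 : (rep S)⁻¹ * e ∈ MulAction.stabilizer E W₁ := by
        rw [MulAction.mem_stabilizer_iff, mul_smul, he, ← hrep' S, inv_smul_smul]
      have h2 := hast _ h1
      rw [mul_smul, inv_smul_eq_iff] at h2
      exact h2
    let f : Dom (E := E) W₁ := ⟨fun S => rep S • a, fun S => by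
      rw [← hrep' S]
      exact Subgroup.smul_mem_pointwise_smul _ _ _ haW⟩
    have hf_equiv : ∀ (e : E) (S : MulAction.orbit E W₁), e • f.1 S = f.1 (e • S) := by
      intro e S
      show e • rep S • a = rep (e • S) • a
      rw [← mul_smul]
      apply hwd
      rw [mul_smul, hrep' S, MulAction.orbit.coe_smul]
    have hfix : ∀ e : E, e • PhiMap W₁ f = PhiMap W₁ f := by
      intro e
      unfold PhiMap
      rw [Finset.smul_prod']
      simp only [hf_equiv]
      exact Equiv.prod_comp (MulAction.toPerm e : MulAction.orbit E W₁ ≃ MulAction.orbit E W₁)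
        (fun S => f.1 S)
    refine ⟨⟨PhiMap W₁ f, hfix⟩, ?_⟩
    apply Subtype.ext
    show (dec (PhiMap W₁ f)).1 (base W₁) = a
    have h1 : dec (PhiMap W₁ f) = f := hinj (hdec _)
    rw [h1]
    show rep (base W₁) • a = a
    rw [← hwd (base W₁) 1 (one_smul _ _), one_smul]

end Cfsg.Agent.Lib.Helper56.FrobOrbit
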