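import Mathlib
import Cfsg.Agent.Lib.Helper56.FrobMC
import Cfsg.Agent.Lib.Helper56.FrobAct
import Cfsg.Agent.Lib.Helper56.FrobOrbit

/-!
# The irreducible case of the Frobenius fixed point formula
-/

set_option autoImplicit false
set_option linter.unusedSectionVars false
set_option linter.unusedVariables false
set_option linter.style.haveILetI false

universe u v

namespace Cfsg.Agent.Lib.Helper56.FrobIrr

open Pointwise
open Cfsg.Agent.Lib.Helper56.FrobAct

variable {Γ : Type u} [Group Γ] [Finite Γ] {W : Type v} [CommGroup W] [Finite W]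
  [MulDistribMulAction Γ W]

/-- **Independence** of subspaces cut out by distinct "hyperplanes". -/
theorem indep {ι : Type*} [Fintype ι] (S : ι → Subgroup W) (M : ι → Subgroup Γ) (B : Subgroup Γ)
    (hB : ∀ i, ∀ b ∈ B, ∀ w ∈ S i, b • w ∈ S i)
    (hM : ∀ i, M i ≤ B) (hfix : ∀ i, ∀ m ∈ M i, ∀ w ∈ S i, m • w = w)
    (hfree : ∀ i, ∀ b ∈ B, b ∉ M i → ∀ w ∈ S i, b • w = w → w = 1)
    (hne : ∀ i j, i ≠ j → ∃ m ∈ M i, m ∉ M j) :
    ∀ f : ι → W, (∀ i, f i ∈ S i) → ∏ i, f i = 1 → ∀ i, f i = 1 := by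
  classical
  have key : ∀ n : ℕ, ∀ T : Finset ι, T.card = n → ∀ f : ι → W, (∀ i ∈ T, f i ∈ S i) →
      ∏ i ∈ T, f i = 1 → ∀ i ∈ T, f i = 1 := by
    intro n
    induction n using Nat.strong_induction_on with
    | _ n ih =>
      intro T hT f hf hprod
      by_cases h2 : ∃ i₁ ∈ T, ∃ i₂ ∈ T, i₁ ≠ i₂
      · obtain ⟨i₁, hi₁, i₂, hi₂, hne12⟩ := h2
        obtain ⟨m, hm1, hm2⟩ := hne i₁ i₂ hne12
        have hmB : m ∈ B := hM i₁ hm1
        -- g i = (m • f i) * (f i)⁻¹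
        have hg : ∀ i ∈ T, (m • f i) * (f i)⁻¹ ∈ S i :=
          fun i hi => Subgroup.mul_mem _ (hB i m hmB _ (hf i hi)) (Subgroup.inv_mem _ (hf i hi))
        have hgprod : ∏ i ∈ T, (m • f i) * (f i)⁻¹ = 1 := by
          rw [Finset.prod_mul_distrib, Finset.prod_inv_distrib, ← Finset.smul_prod', hprod, smul_one,
            inv_one, mul_one]
        have hg1 : (m • f i₁) * (f i₁)⁻¹ = 1 := by
          rw [hfix i₁ m hm1 _ (hf i₁ hi₁), mul_inv_cancel]
        have hgprod' : ∏ i ∈ T.erase i₁, (m • f i) * (f i)⁻¹ = 1 := by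
          have := Finset.mul_prod_erase T (fun i => (m • f i) * (f i)⁻¹) hi₁
          rw [hg1, one_mul] at this
          rw [this, hgprod]
        have hcard1 : (T.erase i₁).card < n := by
          rw [Finset.card_erase_of_mem hi₁, hT]
          have : 0 < T.card := Finset.card_pos.mpr ⟨i₁, hi₁⟩
          omega
        have h3 := ih _ hcard1 (T.erase i₁) rfl (fun i => (m • f i) * (f i)⁻¹)
          (fun i hi => hg i (Finset.mem_of_mem_erase hi)) hgprod' i₂
          (Finset.mem_erase.mpr ⟨hne12.symm, hi₂⟩)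
        have h4 : m • f i₂ = f i₂ := mul_inv_eq_one.mp h3
        have h5 : f i₂ = 1 := hfree i₂ m hmB hm2 _ (hf i₂ hi₂) h4
        have hprod' : ∏ i ∈ T.erase i₂, f i = 1 := by
          have := Finset.mul_prod_erase T f hi₂
          rw [h5, one_mul] at this
          rw [this, hprod]
        have hcard2 : (T.erase i₂).card < n := by
          rw [Finset.card_erase_of_mem hi₂, hT]
          have : 0 < T.card := Finset.card_pos.mpr ⟨i₂, hi₂⟩
          omega
        intro i hi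
        by_cases hii : i = i₂
        · rw [hii]; exact h5
        · exact ih _ hcard2 (T.erase i₂) rfl f (fun i hi => hf i (Finset.mem_of_mem_erase hi)) hprod' i
            (Finset.mem_erase.mpr ⟨hii, hi⟩)
      · intro i hi
        have hTi : T = {i} := by
          ext j
          rw [Finset.mem_singleton]
          constructor
          · intro hj
            by_contra hne
            exact h2 ⟨j, hj, i, hi, hne⟩
          · rintro rfl; exact hi
        rw [hTi, Finset.prod_singleton] at hprod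
        exact hprod
  intro f hf hprod i
  exact key _ Finset.univ rfl f (fun i _ => hf i) hprod i (Finset.mem_univ i)

/-- the representation `Γ → Aut W`. -/
abbrev rho (Γ : Type u) [Group Γ] (W : Type v) [CommGroup W] [MulDistribMulAction Γ W] :
    Γ →* MulAut W := MulDistribMulAction.toMulAut Γ W

theorem rho_apply (g : Γ) (w : W) : rho Γ W g w = g • w := rfl

theorem rho_pow_apply (g : Γ) (k : ℕ) (w : W) : ((rho Γ W g) ^ k) w = (g ^ k) • w := by
  rw [← map_pow]; rfl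

/-- Step 1: an element of `U` acting as a central element of prime order of the image of `U`. -/
theorem exists_central_elt (U : Subgroup Γ) (hnil : Group.IsNilpotent U)
    (hfixU : fixOf U W = ⊥) [Nontrivial W] :
    ∃ (y : Γ) (r : ℕ), r.Prime ∧ y ∈ U ∧ rho Γ W y ≠ 1 ∧ (rho Γ W y) ^ r = 1 ∧
      (∀ u ∈ U, rho Γ W y * rho Γ W u = rho Γ W u * rho Γ W y) ∧ r ∣ Nat.card Γ := by
  set ρ := rho Γ W with hρ
  let Ub : Subgroup (MulAut W) := U.map ρ
  have hsurj : Function.Surjective (ρ.subgroupMap U) := ρ.subgroupMap_surjective U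
  haveI : Group.IsNilpotent Ub := by
    haveI := hnil
    exact Group.nilpotent_of_surjective (ρ.subgroupMap U) hsurj
  haveI : Finite Ub := Finite.of_surjective _ hsurj
  haveI : Nontrivial Ub := by
    by_contra hnt
    rw [not_nontrivial_iff_subsingleton] at hnt
    have : fixOf U W = ⊤ := by
      rw [eq_top_iff]
      intro w _ u hu
      have h1 : (⟨ρ u, ⟨u, hu, rfl⟩⟩ : Ub) = 1 := Subsingleton.elim _ _
      have h2 : ρ u = 1 := congrArg Subtype.val h1
      rw [← rho_apply, ← hρ, h2]; rfl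
    rw [hfixU] at this
    exact bot_ne_top this
  have hc := Group.IsNilpotent.center_ne_bot Ub
  obtain ⟨c, hc1⟩ := Subgroup.ne_bot_iff_exists_ne_one.mp hc
  have hc1' : (c : Ub) ≠ 1 := fun h => hc1 (Subtype.ext h)
  have hd1 : orderOf (c : Ub) ≠ 1 := fun h => hc1' (orderOf_eq_one_iff.mp h)
  have hd0 : 0 < orderOf (c : Ub) := orderOf_pos _
  obtain ⟨r, hr, hrd⟩ := Nat.exists_prime_and_dvd hd1
  set c' : Ub := (c : Ub) ^ (orderOf (c : Ub) / r) with hc'
  have hord : orderOf c' = r := by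
    rw [hc', orderOf_pow_of_dvd]
    · exact Nat.div_div_self hrd hd0.ne'
    · exact (Nat.div_pos (Nat.le_of_dvd hd0 hrd) hr.pos).ne'
    · exact Nat.div_dvd_of_dvd hrd
  have hcen : c' ∈ Subgroup.center Ub := Subgroup.pow_mem _ c.2 _
  obtain ⟨y, hyU, hy⟩ := c'.2
  have hy' : ρ y = (c' : MulAut W) := hy
  refine ⟨y, r, hr, hyU, ?_, ?_, ?_, ?_⟩
  · intro h
    rw [hy'] at h
    have : c' = 1 := Subtype.ext h
    rw [this, orderOf_one] at hord
    exact hr.one_lt.ne hord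
  · rw [hy', ← Subgroup.coe_pow, ← hord, pow_orderOf_eq_one]; rfl
  · intro u hu
    have h1 := Subgroup.mem_center_iff.mp hcen ⟨ρ u, ⟨u, hu, rfl⟩⟩
    have h2 := congrArg Subtype.val h1
    rw [hy']
    exact h2.symm
  · have h1 : orderOf (ρ y) = r := by rw [hy', Subgroup.orderOf_coe, hord]
    rw [← h1]
    exact (orderOf_map_dvd ρ y).trans (orderOf_dvd_natCard y)

/-- Step 2: the subgroup `B` of elements of `U` acting as central elements of exponent `r`. -/
def Bsub (U : Subgroup Γ) (W : Type v) [CommGroup W] [MulDistribMulAction Γ W] (r : ℕ) :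
    Subgroup Γ where
  carrier := {b | b ∈ U ∧ (rho Γ W b) ^ r = 1 ∧ ∀ u ∈ U, rho Γ W b * rho Γ W u = rho Γ W u * rho Γ W b}
  mul_mem' := by
    rintro a b ⟨haU, har, hac⟩ ⟨hbU, hbr, hbc⟩
    refine ⟨U.mul_mem haU hbU, ?_, ?_⟩
    · rw [map_mul, (show Commute (rho Γ W a) (rho Γ W b) from hac b hbU).mul_pow, har, hbr, one_mul]
    · intro u hu
      rw [map_mul, mul_assoc, hbc u hu, ← mul_assoc, hac u hu, mul_assoc]
  one_mem' := by
    refine ⟨U.one_mem, ?_, ?_⟩
    · rw [map_one, one_pow]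
    · intro u _; rw [map_one, one_mul, mul_one]
  inv_mem' := by
    rintro a ⟨haU, har, hac⟩
    refine ⟨U.inv_mem haU, ?_, ?_⟩
    · rw [map_inv, inv_pow, har, inv_one]
    · intro u hu
      rw [map_inv]
      exact (show Commute (rho Γ W a) (rho Γ W u) from hac u hu).inv_left.eq

theorem Bsub_le (U : Subgroup Γ) (r : ℕ) : Bsub U W r ≤ U := fun _ hb => hb.1

theorem Bsub_conj (U : Subgroup Γ) [U.Normal] (r : ℕ) (g : Γ) (b : Γ) (hb : b ∈ Bsub U W r) :
    g * b * g⁻¹ ∈ Bsub U W r := by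
  obtain ⟨hbU, hbr, hbc⟩ := hb
  refine ⟨‹U.Normal›.conj_mem b hbU g, ?_, ?_⟩
  · rw [map_mul, map_mul, map_inv, conj_pow, hbr, mul_one, mul_inv_cancel]
  · intro u hu
    have h1 : g⁻¹ * u * g ∈ U := by
      have := ‹U.Normal›.conj_mem u hu g⁻¹
      simpa using this
    have h2 := hbc _ h1
    simp only [map_mul, map_inv] at h2 ⊢
    calc rho Γ W g * rho Γ W b * (rho Γ W g)⁻¹ * rho Γ W u
        = rho Γ W g * (rho Γ W b * ((rho Γ W g)⁻¹ * rho Γ W u * rho Γ W g)) * (rho Γ W g)⁻¹ := by group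
      _ = rho Γ W g * (((rho Γ W g)⁻¹ * rho Γ W u * rho Γ W g) * rho Γ W b) * (rho Γ W g)⁻¹ := by rw [h2]
      _ = rho Γ W u * (rho Γ W g * rho Γ W b * (rho Γ W g)⁻¹) := by group

section main

variable (U : Subgroup Γ) (r : ℕ) (M : Subgroup Γ)

/-- the maximality package for `M`. -/
def Good (U : Subgroup Γ) (W : Type v) [CommGroup W] [MulDistribMulAction Γ W] (r : ℕ)
    (M : Subgroup Γ) : Prop :=
  M ≤ Bsub U W r ∧ fixOf M W ≠ ⊥ ∧
    (∀ M' : Subgroup Γ, M' ≤ Bsub U W r → fixOf M' W ≠ ⊥ → M ≤ M' → M' ≤ M) ∧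
    r.Prime ∧ (Nat.card W).Coprime r ∧ fixOf (Bsub U W r) W = ⊥

variable {U r M}

theorem good_free (h : Good U W r M) (b : Γ) (hb : b ∈ Bsub U W r) (hbM : b ∉ M) (w : W)
    (hw : w ∈ fixOf M W) (hbw : b • w = w) : w = 1 := by
  obtain ⟨hMB, hne, hmax, hr, hcop, hB⟩ := h
  by_contra hw1
  have h1 : M ⊔ Subgroup.zpowers b ≤ Bsub U W r := sup_le hMB (Subgroup.zpowers_le.mpr hb)
  have h2 : M ⊔ Subgroup.zpowers b ≤ stabOf w :=
    sup_le (fun m hm => hw m hm) (Subgroup.zpowers_le.mpr hbw)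
  have h3 : fixOf (M ⊔ Subgroup.zpowers b) W ≠ ⊥ := by
    intro h
    have : w ∈ fixOf (M ⊔ Subgroup.zpowers b) W := fun s hs => h2 hs
    rw [h] at this
    exact hw1 (Subgroup.mem_bot.mp this)
  have h4 := hmax _ h1 h3 le_sup_left
  exact hbM (h4 (Subgroup.mem_sup_right (Subgroup.mem_zpowers b)))

theorem good_ker (h : Good U W r M) (k : Γ) (hk : k ∈ U) (hk1 : rho Γ W k = 1) : k ∈ M := by
  obtain ⟨hMB, hne, hmax, hr, hcop, hB⟩ := h
  have hkB : k ∈ Bsub U W r := by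
    refine ⟨hk, ?_, ?_⟩
    · rw [hk1, one_pow]
    · intro u _; rw [hk1, one_mul, mul_one]
  have h1 : M ⊔ Subgroup.zpowers k ≤ Bsub U W r := sup_le hMB (Subgroup.zpowers_le.mpr hkB)
  have h3 : fixOf (M ⊔ Subgroup.zpowers k) W ≠ ⊥ := by
    intro h
    apply hne
    rw [eq_bot_iff]
    intro w hw
    have h2 : M ⊔ Subgroup.zpowers k ≤ stabOf w := by
      refine sup_le (fun m hm => hw m hm) (Subgroup.zpowers_le.mpr ?_)
      show k • w = w
      rw [← rho_apply, hk1]; rfl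
    have : w ∈ fixOf (M ⊔ Subgroup.zpowers k) W := fun s hs => h2 hs
    rw [h] at this
    exact this
  have h4 := hmax _ h1 h3 le_sup_left
  exact h4 (Subgroup.mem_sup_right (Subgroup.mem_zpowers k))

theorem good_invU (h : Good U W r M) (u : Γ) (hu : u ∈ U) (w : W) (hw : w ∈ fixOf M W) :
    u • w ∈ fixOf M W := by
  intro m hm
  obtain ⟨hmU, _, hmc⟩ := h.1 hm
  have h1 := congrArg (fun A : MulAut W => A w) (hmc u hu)
  simp only [MulAut.mul_apply, rho_apply] at h1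
  rw [h1, hw m hm]

/-- the norm of an operator of order dividing `r`. -/
def Nm (r : ℕ) (A : MulAut W) (w : W) : W := ∏ i ∈ Finset.range r, (A ^ i) w

theorem Nm_fixed (A : MulAut W) (hA : A ^ r = 1) (w : W) : A (Nm r A w) = Nm r A w := by
  unfold Nm
  rw [map_prod]
  have h1 : ∀ i, A ((A ^ i) w) = (A ^ (i + 1)) w := by
    intro i; rw [pow_succ', MulAut.mul_apply]
  simp only [h1]
  have h2 := Finset.prod_range_succ' (fun i => (A ^ i) w) r
  have h3 := Finset.prod_range_succ (fun i => (A ^ i) w) r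
  rw [h3] at h2
  simp only [hA, pow_zero] at h2
  exact (mul_right_cancel h2).symm

theorem good_Nm (h : Good U W r M) (c : Γ) (hc : c ∈ Bsub U W r) (hcM : c ∉ M) (w : W)
    (hw : w ∈ fixOf M W) : Nm r (rho Γ W c) w = 1 := by
  apply good_free h c hc hcM
  · unfold Nm
    apply Subgroup.prod_mem
    intro i _
    rw [rho_pow_apply]
    exact good_invU h _ (U.pow_mem hc.1 i) w hw
  · rw [← rho_apply]
    exact Nm_fixed _ hc.2.1 w

theorem pow_inv_mem (y₁ : Γ) (hP : ∀ w ∈ fixOf M W, y₁ • w ∈ fixOf M W) (k : ℕ) (w : W)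
    (hw : w ∈ fixOf M W) : ((rho Γ W y₁) ^ k) w ∈ fixOf M W := by
  induction k with
  | zero => simpa using hw
  | succ k ih =>
    rw [pow_succ', MulAut.mul_apply, rho_apply]
    exact hP _ ih

/-- elements acting on `W₁ = fixOf M W` as a power of `y₁`. -/
def Tk (M : Subgroup Γ) (W : Type v) [CommGroup W] [Finite W] [MulDistribMulAction Γ W] (y₁ : Γ)
    (r : ℕ)
    (hP : ∀ w ∈ fixOf M W, y₁ • w ∈ fixOf M W) (hPr : (rho Γ W y₁) ^ r = 1) (hr : 0 < r) :
    Subgroup Γ where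
  carrier := {g | ∃ k : ℕ, ∀ w ∈ fixOf M W, g • w = ((rho Γ W y₁) ^ k) w}
  mul_mem' := by
    rintro a b ⟨ka, ha⟩ ⟨kb, hb⟩
    refine ⟨ka + kb, fun w hw => ?_⟩
    rw [mul_smul, hb w hw, ha _ (pow_inv_mem y₁ hP kb w hw), pow_add, MulAut.mul_apply]
  one_mem' := ⟨0, fun w _ => by simp⟩
  inv_mem' := by
    rintro a ⟨k, ha⟩
    refine ⟨(r - 1) * k, fun w hw => ?_⟩
    rw [inv_smul_eq_iff, ha _ (pow_inv_mem y₁ hP _ w hw), ← MulAut.mul_apply, ← pow_add]
    have : k + (r - 1) * k = r * k := by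
      obtain ⟨r', rfl⟩ : ∃ r', r = r' + 1 := ⟨r - 1, by omega⟩
      simp only [Nat.add_sub_cancel]; ring
    rw [this, pow_mul, hPr, one_pow]; rfl

theorem mem_Tk {y₁ : Γ} {hP : ∀ w ∈ fixOf M W, y₁ • w ∈ fixOf M W} {hPr : (rho Γ W y₁) ^ r = 1}
    {hr : 0 < r} {g : Γ} :
    g ∈ Tk M W y₁ r hP hPr hr ↔ ∃ k : ℕ, ∀ w ∈ fixOf M W, g • w = ((rho Γ W y₁) ^ k) w := Iff.rfl

theorem B_le_Tk (h : Good U W r M) (y₁ : Γ) (hy : y₁ ∈ Bsub U W r) (hyM : y₁ ∉ M)
    (hP : ∀ w ∈ fixOf M W, y₁ • w ∈ fixOf M W) (hr : 0 < r) :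
    Bsub U W r ≤ Tk M W y₁ r hP hy.2.1 hr := by
  intro b hb
  by_contra hbT
  set T := Tk M W y₁ r hP hy.2.1 hr with hT
  have hrp : r.Prime := h.2.2.2.1
  have hMT : M ≤ T := fun m hm => ⟨0, fun w hw => by rw [hw m hm]; simp⟩
  have hyT : y₁ ∈ T := ⟨1, fun w _ => by rw [pow_one, rho_apply]⟩
  have hbrM : b ^ r ∈ M := by
    apply good_ker h _ (U.pow_mem hb.1 r)
    rw [map_pow, hb.2.1]
  -- no proper power of b lies in T
  have hpow : ∀ i : ℕ, 0 < i → i < r → b ^ i ∉ T := by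
    intro i hi0 hir hbi
    apply hbT
    have hcop : Nat.Coprime i r :=
      Nat.Coprime.symm ((Nat.Prime.coprime_iff_not_dvd hrp).mpr (Nat.not_dvd_of_pos_of_lt hi0 hir))
    have h1 := Int.gcd_eq_gcd_ab (i : ℤ) (r : ℤ)
    rw [Int.gcd_natCast_natCast, hcop.gcd_eq_one] at h1
    have h2 : b = (b ^ i) ^ ((i : ℤ).gcdA r) * (b ^ r) ^ ((i : ℤ).gcdB r) := by
      rw [← zpow_natCast, ← zpow_natCast, ← zpow_mul, ← zpow_mul, ← zpow_add, ← h1]
      simp
    rw [h2]
    exact T.mul_mem (T.zpow_mem hbi _) (T.zpow_mem (hMT hbrM) _)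
  have hyb : ∀ j : ℕ, j < r → y₁ * b ^ j ∉ M := by
    intro j hj hmem
    rcases Nat.eq_zero_or_pos j with rfl | hj0
    · rw [pow_zero, mul_one] at hmem; exact hyM hmem
    · apply hpow j hj0 hj
      have : b ^ j = y₁⁻¹ * (y₁ * b ^ j) := by group
      rw [this]
      exact T.mul_mem (T.inv_mem hyT) (hMT hmem)
  have hpowM : ∀ i : ℕ, 0 < i → i < r → b ^ i ∉ M := fun i h0 h1 hm => hpow i h0 h1 (hMT hm)
  -- every element of W₁ is trivial
  apply h.2.1
  rw [eq_bot_iff]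
  intro w hw
  rw [Subgroup.mem_bot]
  set P := rho Γ W y₁ with hPdef
  set Q := rho Γ W b with hQdef
  have hPQ : Commute P Q := hy.2.2 b hb.1
  have h1 : ∏ j ∈ Finset.range r, Nm r (P * Q ^ j) w = 1 := by
    apply Finset.prod_eq_one
    intro j hj
    have hj' := Finset.mem_range.mp hj
    have := good_Nm h (y₁ * b ^ j) ((Bsub U W r).mul_mem hy ((Bsub U W r).pow_mem hb j))
      (hyb j hj') w hw
    rwa [map_mul, map_pow] at this
  have h2 : ∀ i j : ℕ, ((P * Q ^ j) ^ i) w = (P ^ i) (((Q ^ i) ^ j) w) := by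
    intro i j
    rw [(hPQ.pow_right j).mul_pow, MulAut.mul_apply, pow_right_comm]
  unfold Nm at h1
  rw [Finset.prod_comm] at h1
  simp only [h2] at h1
  have h3 : ∀ i : ℕ, ∏ j ∈ Finset.range r, (P ^ i) (((Q ^ i) ^ j) w) = (P ^ i) (Nm r (Q ^ i) w) := by
    intro i
    unfold Nm
    rw [map_prod]
  simp only [h3] at h1
  obtain ⟨r', rfl⟩ : ∃ r', r = r' + 1 := ⟨r - 1, by omega⟩
  rw [Finset.prod_range_succ'] at h1
  have h4 : ∏ i ∈ Finset.range r', (P ^ (i + 1)) (Nm (r' + 1) (Q ^ (i + 1)) w) = 1 := by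
    apply Finset.prod_eq_one
    intro i hi
    have hi' := Finset.mem_range.mp hi
    have := good_Nm h (b ^ (i + 1)) ((Bsub U W (r' + 1)).pow_mem hb _)
      (hpowM (i + 1) (by omega) (by omega)) w hw
    rw [map_pow] at this
    rw [this, map_one]
  rw [h4, one_mul, pow_zero, pow_zero] at h1
  have h5 : Nm (r' + 1) (1 : MulAut W) w = w ^ (r' + 1) := by
    unfold Nm
    simp
  rw [MulAut.one_apply, h5] at h1
  have h6 : orderOf w ∣ r' + 1 := orderOf_dvd_of_pow_eq_one h1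
  have h7 : orderOf w ∣ Nat.card W := orderOf_dvd_natCard w
  have h8 : orderOf w = 1 := Nat.eq_one_of_dvd_coprimes h.2.2.2.2.1 h7 h6
  exact orderOf_eq_one_iff.mp h8

end main

section fpf

variable (U E : Subgroup Γ) [U.Normal]

theorem fpf_inj (hfpf : ∀ e ∈ E, e ≠ 1 → ∀ u ∈ U, e * u = u * e → u = 1) (f : Γ) (hf : f ∈ E)
    (hf1 : f ≠ 1) (a b : Γ) (ha : a ∈ U) (hb : b ∈ U)
    (h : a⁻¹ * (f * a * f⁻¹) = b⁻¹ * (f * b * f⁻¹)) : a = b := by
  have hx : b * a⁻¹ ∈ U := U.mul_mem hb (U.inv_mem ha)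
  have h1 : f * (b * a⁻¹) = (b * a⁻¹) * f := by
    have h2 : a⁻¹ * f * a = b⁻¹ * f * b := by
      have := congrArg (fun x => x * f) h
      simpa [mul_assoc] using this
    calc f * (b * a⁻¹) = b * (b⁻¹ * f * b) * a⁻¹ := by group
      _ = b * (a⁻¹ * f * a) * a⁻¹ := by rw [h2]
      _ = (b * a⁻¹) * f := by group
  have h3 := hfpf f hf hf1 _ hx h1
  exact (mul_inv_eq_one.mp h3).symm

theorem fpf_mem (hfpf : ∀ e ∈ E, e ≠ 1 → ∀ u ∈ U, e * u = u * e → u = 1) (N : Subgroup Γ)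
    (hNU : N ≤ U) (f : Γ) (hf : f ∈ E) (hf1 : f ≠ 1) (hfN : ∀ n ∈ N, f * n * f⁻¹ ∈ N) (u : Γ)
    (hu : u ∈ U) (h : u⁻¹ * (f * u * f⁻¹) ∈ N) : u ∈ N := by
  let φ : N → N := fun n => ⟨(n : Γ)⁻¹ * (f * n * f⁻¹), N.mul_mem (N.inv_mem n.2) (hfN n n.2)⟩
  have hinj : Function.Injective φ := by
    intro a b hab
    apply Subtype.ext
    exact fpf_inj U E hfpf f hf hf1 a b (hNU a.2) (hNU b.2) (congrArg Subtype.val hab)
  have hsurj : Function.Surjective φ := Finite.surjective_of_injective hinj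
  obtain ⟨n, hn⟩ := hsurj ⟨_, h⟩
  have := fpf_inj U E hfpf f hf hf1 n u (hNU n.2) hu (congrArg Subtype.val hn)
  rw [← this]; exact n.2

end fpf

/-- elements acting trivially on a subgroup of `W`. -/
def kerOn (Γ : Type u) [Group Γ] {W : Type v} [CommGroup W] [MulDistribMulAction Γ W]
    (S : Subgroup W) : Subgroup Γ where
  carrier := {g | ∀ w ∈ S, g • w = w}
  mul_mem' := by
    intro a b ha hb w hw
    rw [mul_smul, hb w hw, ha w hw]
  one_mem' := fun w _ => one_smul _ w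
  inv_mem' := by
    intro a ha w hw
    rw [inv_smul_eq_iff, ha w hw]

theorem smul_conj (g x : Γ) (w : W) : g • x • w = (g * x * g⁻¹) • g • w := by
  rw [← mul_smul, ← mul_smul]; congr 1; group

/-- **The irreducible case.** -/
theorem irr_main (U E : Subgroup Γ) [U.Normal] (hUE : U ⊔ E = ⊤)
    (hfpf : ∀ e ∈ E, e ≠ 1 → ∀ u ∈ U, e * u = u * e → u = 1)
    (hnil : Group.IsNilpotent U)
    (hirr : ∀ N : Subgroup W, (∀ (g : Γ), ∀ n ∈ N, g • n ∈ N) → N = ⊥ ∨ N = ⊤)
    (hfixU : fixOf U W = ⊥) (hcop : (Nat.card W).Coprime (Nat.card Γ)) [Nontrivial W] :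
    Nat.card W = Nat.card (fixOf E W) ^ Nat.card E ∧
      ((Nat.card (fixOf E W)).Prime → ∀ u ∈ U, ∀ v ∈ U, ∀ w : W, u • v • w = v • u • w) := by
  classical
  letI : MulAction E (Subgroup W) := Subgroup.pointwiseMulAction
  obtain ⟨y, r, hr, hyU, hy1, hyr, hyc, hrΓ⟩ := exists_central_elt U hnil hfixU
  have hcopr : (Nat.card W).Coprime r := Nat.Coprime.coprime_dvd_right hrΓ hcop
  set B := Bsub U W r with hB
  have hyB : y ∈ B := ⟨hyU, hyr, hyc⟩
  have hBconj : ∀ (g b : Γ), b ∈ B → g * b * g⁻¹ ∈ B := fun g b hb => Bsub_conj U r g b hb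
  have hBconj' : ∀ (g b : Γ), b ∈ B → g⁻¹ * b * g ∈ B := by
    intro g b hb
    have := hBconj g⁻¹ b hb
    simpa using this
  -- fixOf B W = ⊥
  have hBfix : fixOf B W = ⊥ := by
    have hinv : ∀ (g : Γ), ∀ n ∈ fixOf B W, g • n ∈ fixOf B W := by
      intro g n hn b hb
      calc b • g • n = g • ((g⁻¹ * b * g) • n) := by
            rw [← mul_smul, ← mul_smul]; congr 1; group
        _ = g • n := by rw [hn _ (hBconj' g b hb)]
    rcases hirr _ hinv with h | h
    · exact h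
    · exfalso
      apply hy1
      ext w
      have : w ∈ fixOf B W := by rw [h]; trivial
      exact this y hyB
  -- maximal M
  have hfin : {M : Subgroup Γ | M ≤ B ∧ fixOf M W ≠ ⊥}.Finite := Set.toFinite _
  have hne : {M : Subgroup Γ | M ≤ B ∧ fixOf M W ≠ ⊥}.Nonempty := by
    refine ⟨⊥, bot_le, ?_⟩
    intro h
    have h1 : (⊤ : Subgroup W) ≤ fixOf (⊥ : Subgroup Γ) W := by
      intro w _ s hs
      rw [Subgroup.mem_bot.mp hs, one_smul]
    rw [h] at h1
    exact top_ne_bot (le_bot_iff.mp h1)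
  obtain ⟨M, hM⟩ := hfin.exists_maximal hne
  have hgood : Good U W r M :=
    ⟨hM.1.1, hM.1.2, fun M' h1 h2 h3 => hM.2 ⟨h1, h2⟩ h3, hr, hcopr, hBfix⟩
  have hMB : M ≠ B := by
    intro h; apply hgood.2.1; rw [h]; exact hBfix
  obtain ⟨y₁, hy₁B, hy₁M⟩ : ∃ y₁ ∈ B, y₁ ∉ M := by
    by_contra hcon
    push Not at hcon
    exact hMB (le_antisymm hgood.1 hcon)
  set W₁ := fixOf M W with hW₁
  have hinvU : ∀ u ∈ U, ∀ w ∈ W₁, u • w ∈ W₁ := fun u hu w hw => good_invU hgood u hu w hw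
  have hP : ∀ w ∈ W₁, y₁ • w ∈ W₁ := fun w hw => hinvU y₁ hy₁B.1 w hw
  have hr0 : 0 < r := hr.pos
  have hBT := B_le_Tk hgood y₁ hy₁B hy₁M hP hr0
  set P := rho Γ W y₁ with hPdef
  have hP' : ∀ w ∈ W₁, P w ∈ W₁ := fun w hw => hP w hw
  -- the stabilizer E₀
  set stE : Subgroup E := MulAction.stabilizer E W₁ with hstE
  set E₀ : Subgroup Γ := stE.map E.subtype with hE₀
  have hE₀E : ∀ e ∈ E₀, e ∈ E := by
    rintro e ⟨e', _, rfl⟩; exact e'.2
  have hE₀st : ∀ e ∈ E₀, e • W₁ = W₁ := by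
    rintro e ⟨e', he', rfl⟩
    exact MulAction.mem_stabilizer_iff.mp he'
  have hE₀inv : ∀ e ∈ E₀, ∀ w ∈ W₁, e • w ∈ W₁ := by
    intro e he w hw
    have := Subgroup.smul_mem_pointwise_smul w e W₁ hw
    rwa [hE₀st e he] at this
  -- the exponent function
  let t : Γ → ℕ := fun g =>
    if h : ∃ k : ℕ, ∀ w ∈ W₁, (g * y₁ * g⁻¹) • w = (P ^ k) w then Classical.choose h else 0
  have ht : ∀ (g : Γ), ∀ w ∈ W₁, (g * y₁ * g⁻¹) • w = (P ^ t g) w := by
    intro g
    have h : ∃ k : ℕ, ∀ w ∈ W₁, (g * y₁ * g⁻¹) • w = (P ^ k) w := hBT (hBconj g y₁ hy₁B)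
    show ∀ w ∈ W₁, (g * y₁ * g⁻¹) • w = (P ^ (if h : ∃ k : ℕ, ∀ w ∈ W₁, (g * y₁ * g⁻¹) • w = (P ^ k) w
      then Classical.choose h else 0)) w
    rw [dif_pos h]
    exact Classical.choose_spec h
  have hrel : ∀ e ∈ E₀, ∀ w ∈ W₁, e • P w = (P ^ t e) (e • w) := by
    intro e he w hw
    rw [rho_apply, smul_conj]
    exact ht e _ (hE₀inv e he w hw)
  have hinj : ∀ e ∈ E₀, ∀ e' ∈ E₀, e ≠ e' → ∀ w ∈ W₁, (P ^ t e) w = (P ^ t e') w → w = 1 := by
    intro e he e' he' hne w hw hPw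
    by_contra hw1
    rw [← ht e w hw, ← ht e' w hw] at hPw
    set x := (e' * y₁ * e'⁻¹)⁻¹ * (e * y₁ * e⁻¹) with hx
    have hxB : x ∈ B := B.mul_mem (B.inv_mem (hBconj e' y₁ hy₁B)) (hBconj e y₁ hy₁B)
    have hxw : x • w = w := by
      rw [hx, mul_smul, hPw, ← mul_smul, inv_mul_cancel, one_smul]
    have hxM : x ∈ M := by
      by_contra hxM
      exact hw1 (good_free hgood x hxB hxM w hw hxw)
    set f := e'⁻¹ * e with hf
    have hfE₀ : f ∈ E₀ := E₀.mul_mem (E₀.inv_mem he') he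
    have hf1 : f ≠ 1 := by
      intro h
      apply hne
      have : e' * f = e' := by rw [h, mul_one]
      rw [hf, mul_inv_cancel_left] at this
      exact this
    set N : Subgroup Γ := U ⊓ kerOn Γ W₁ with hN
    have hfN : ∀ n ∈ N, f * n * f⁻¹ ∈ N := by
      intro n hn
      refine ⟨‹U.Normal›.conj_mem n hn.1 f, ?_⟩
      intro w₁ hw₁
      have h1 : f⁻¹ • w₁ ∈ W₁ := hE₀inv _ (E₀.inv_mem hfE₀) w₁ hw₁
      rw [mul_smul, mul_smul, hn.2 _ h1, smul_inv_smul]
    have hx' : y₁⁻¹ * (f * y₁ * f⁻¹) ∈ N := by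
      have e1 : y₁⁻¹ * (f * y₁ * f⁻¹) = e'⁻¹ * x * e' := by rw [hx, hf]; group
      rw [e1]
      refine ⟨?_, ?_⟩
      · have := ‹U.Normal›.conj_mem x (Bsub_le U r hxB) e'⁻¹
        simpa using this
      · intro w₁ hw₁
        have h1 : e' • w₁ ∈ W₁ := hE₀inv _ he' w₁ hw₁
        rw [mul_smul, mul_smul, h1 x hxM, inv_smul_smul]
    have hy₁N := fpf_mem U E hfpf N inf_le_left f (hE₀E f hfE₀) hf1 hfN y₁ hy₁B.1 hx'
    exact hw1 (good_free hgood y₁ hy₁B hy₁M w hw (hy₁N.2 w hw))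
  have hMC := Cfsg.Agent.Lib.Helper56.FrobMC.card_eq_pow_mul W₁ E₀ hE₀inv P hP' t hrel hinj
  -- the orbit of W₁ under E
  letI : Fintype (MulAction.orbit E W₁) := Fintype.ofFinite _
  have hW₁ne : W₁ ≠ ⊥ := hgood.2.1
  -- generation
  have hgen : ∀ w : W, w ∈ ⨆ e : E, e • W₁ := by
    set T : Subgroup W := ⨆ e : E, e • W₁ with hT
    have hTE : ∀ e ∈ E, ∀ n ∈ T, e • n ∈ T := by
      intro e he n hn
      refine Subgroup.iSup_induction (fun e : E => e • W₁) (C := fun n => e • n ∈ T) hn ?_ ?_ ?_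
      · intro e' x hx
        have h1 : e • x ∈ (⟨e, he⟩ * e' : E) • W₁ := by
          rw [mul_smul]
          exact Subgroup.smul_mem_pointwise_smul x (⟨e, he⟩ : E) (e' • W₁) hx
        exact (le_iSup (fun e : E => e • W₁) (⟨e, he⟩ * e')) h1
      · show e • (1 : W) ∈ T
        rw [smul_one]; exact T.one_mem
      · intro a b ha hb
        show e • (a * b) ∈ T
        rw [smul_mul']; exact T.mul_mem ha hb
    have hTU : ∀ u ∈ U, ∀ n ∈ T, u • n ∈ T := by
      intro u hu n hn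
      refine Subgroup.iSup_induction (fun e : E => e • W₁) (C := fun n => u • n ∈ T) hn ?_ ?_ ?_
      · intro e' x hx
        have h1 : u • x ∈ e' • W₁ := by
          have hx' : e'⁻¹ • x ∈ W₁ := Subgroup.mem_pointwise_smul_iff_inv_smul_mem.mp hx
          apply Subgroup.mem_pointwise_smul_iff_inv_smul_mem.mpr
          have h2 : (e' : Γ)⁻¹ * u * (e' : Γ) ∈ U := by
            have := ‹U.Normal›.conj_mem u hu (e' : Γ)⁻¹
            simpa using this
          have h3 := hinvU _ h2 _ hx'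
          have e1 : ((e' : Γ)⁻¹ * u * (e' : Γ)) • (e'⁻¹ • x) = e'⁻¹ • u • x := by
            show ((e' : Γ)⁻¹ * u * (e' : Γ)) • ((e' : Γ)⁻¹ • x) = (e' : Γ)⁻¹ • u • x
            rw [← mul_smul, ← mul_smul]; congr 1; group
          rwa [e1] at h3
        exact (le_iSup (fun e : E => e • W₁) e') h1
      · show u • (1 : W) ∈ T
        rw [smul_one]; exact T.one_mem
      · intro a b ha hb
        show u • (a * b) ∈ T
        rw [smul_mul']; exact T.mul_mem ha hb
    let GT : Subgroup Γ :=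
      { carrier := {g | (∀ n ∈ T, g • n ∈ T) ∧ (∀ n ∈ T, g⁻¹ • n ∈ T)}
        mul_mem' := by
          rintro a b ⟨ha1, ha2⟩ ⟨hb1, hb2⟩
          refine ⟨fun n hn => ?_, fun n hn => ?_⟩
          · rw [mul_smul]; exact ha1 _ (hb1 n hn)
          · rw [mul_inv_rev, mul_smul]; exact hb2 _ (ha2 n hn)
        one_mem' := ⟨fun n hn => by rwa [one_smul], fun n hn => by rwa [inv_one, one_smul]⟩
        inv_mem' := by
          rintro a ⟨ha1, ha2⟩
          exact ⟨ha2, fun n hn => by rw [inv_inv]; exact ha1 n hn⟩ }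
    have hGT : (⊤ : Subgroup Γ) ≤ GT := by
      rw [← hUE]
      exact sup_le (fun u hu => ⟨hTU u hu, hTU _ (U.inv_mem hu)⟩)
        (fun e he => ⟨hTE e he, hTE _ (E.inv_mem he)⟩)
    have hTinv : ∀ (g : Γ), ∀ n ∈ T, g • n ∈ T := fun g => (hGT (Subgroup.mem_top g)).1
    have hW₁T : W₁ ≤ T := by
      have := le_iSup (fun e : E => e • W₁) 1
      simpa using this
    rcases hirr T hTinv with h | h
    · exfalso
      apply hW₁ne
      rw [eq_bot_iff, ← h]; exact hW₁T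
    · intro w; rw [h]; trivial
  -- independence
  have hrep : ∀ S : MulAction.orbit E W₁, ∃ e : E, e • W₁ = S.1 :=
    fun S => MulAction.mem_orbit_iff.mp S.2
  choose rep hrep' using hrep
  let MS : MulAction.orbit E W₁ → Subgroup Γ :=
    fun S => M.map (MulAut.conj (rep S : Γ)).toMonoidHom
  have hmemMS : ∀ (S : MulAction.orbit E W₁) (m : Γ),
      m ∈ MS S ↔ (rep S : Γ)⁻¹ * m * (rep S : Γ) ∈ M := by
    intro S m
    constructor
    · rintro ⟨m', hm', rfl⟩
      have : (rep S : Γ)⁻¹ * ((MulAut.conj (rep S : Γ)).toMonoidHom m') * (rep S : Γ) = m' := by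
        show (rep S : Γ)⁻¹ * ((rep S : Γ) * m' * (rep S : Γ)⁻¹) * (rep S : Γ) = m'
        group
      rw [this]; exact hm'
    · intro hm
      refine ⟨_, hm, ?_⟩
      simp [MulAut.conj_apply, mul_assoc]
  have hSmem : ∀ (S : MulAction.orbit E W₁) (w : W), w ∈ S.1 ↔ (rep S : Γ)⁻¹ • w ∈ W₁ := by
    intro S w
    rw [← hrep' S]
    exact Subgroup.mem_pointwise_smul_iff_inv_smul_mem
  have hconjsmul : ∀ (g m : Γ) (w : W), (g⁻¹ * m * g) • g⁻¹ • w = g⁻¹ • m • w := by
    intro g m w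
    rw [← mul_smul, ← mul_smul]; congr 1; group
  have hfixS : ∀ (S : MulAction.orbit E W₁), ∀ m ∈ MS S, ∀ w ∈ S.1, m • w = w := by
    intro S m hm w hw
    have h1 := ((hSmem S w).mp hw) _ ((hmemMS S m).mp hm)
    rw [hconjsmul] at h1
    exact smul_left_cancel _ h1
  have hind : ∀ f : MulAction.orbit E W₁ → W,
      (∀ S : MulAction.orbit E W₁, f S ∈ S.1) → ∏ S, f S = 1 → ∀ S, f S = 1 := by
    apply indep (fun S : MulAction.orbit E W₁ => S.1) MS B
    · intro S b hb w hw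
      rw [hSmem] at hw ⊢
      rw [← hconjsmul]
      exact hinvU _ (Bsub_le U r (hBconj' _ b hb)) _ hw
    · intro S m hm
      have h1 := hgood.1 ((hmemMS S m).mp hm)
      have h2 := hBconj (rep S : Γ) _ h1
      have e1 : (rep S : Γ) * ((rep S : Γ)⁻¹ * m * (rep S : Γ)) * (rep S : Γ)⁻¹ = m := by group
      rwa [e1] at h2
    · exact hfixS
    · intro S b hb hbM w hw hbw
      have h1 : (rep S : Γ)⁻¹ * b * (rep S : Γ) ∉ M := fun h => hbM ((hmemMS S b).mpr h)
      have h2 := good_free hgood _ (hBconj' _ b hb) h1 _ ((hSmem S w).mp hw)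
        (by rw [hconjsmul, hbw])
      have h3 : (rep S : Γ)⁻¹ • w = (rep S : Γ)⁻¹ • (1 : W) := by rw [h2, smul_one]
      exact smul_left_cancel _ h3
    · intro S S' hSS
      by_contra hcon
      push Not at hcon
      apply hSS
      apply Subtype.ext
      have hle : S'.1 ≤ S.1 := by
        intro w hw
        rw [hSmem]
        intro m hm
        have h1 : (rep S : Γ) * m * (rep S : Γ)⁻¹ ∈ MS S := by
          rw [hmemMS]
          have e1 : (rep S : Γ)⁻¹ * ((rep S : Γ) * m * (rep S : Γ)⁻¹) * (rep S : Γ) = m := by group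
          rw [e1]; exact hm
        have h2 := hfixS S' _ (hcon _ h1) w hw
        have h3 := hconjsmul (rep S : Γ) ((rep S : Γ) * m * (rep S : Γ)⁻¹) w
        have e1 : (rep S : Γ)⁻¹ * ((rep S : Γ) * m * (rep S : Γ)⁻¹) * (rep S : Γ) = m := by group
        rw [e1, h2] at h3
        exact h3
      have hc : ∀ S₀ : MulAction.orbit E W₁, Nat.card S₀.1 = Nat.card W₁ := by
        intro S₀
        rw [← hrep' S₀]
        exact Nat.card_congr (Subgroup.equivSMul (rep S₀) W₁).symm.toEquiv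
      exact (Subgroup.eq_of_le_of_card_ge hle (by rw [hc, hc])).symm
  have hcardW := Cfsg.Agent.Lib.Helper56.FrobOrbit.card_eq (E := E) W₁ hind hgen
  have hcardF := Cfsg.Agent.Lib.Helper56.FrobOrbit.card_fixed_eq (E := E) W₁ hind hgen
  -- translate the fixed point sets
  have hF1 : Nat.card (fixOf E W) = Nat.card {w : W // ∀ e : E, e • w = w} := by
    refine Nat.card_congr (Equiv.subtypeEquivRight (fun w => ?_))
    constructor
    · intro hw e; exact hw e.1 e.2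
    · intro hw e he; exact hw ⟨e, he⟩
  have hF2 : Nat.card {w : W // w ∈ W₁ ∧ ∀ e ∈ MulAction.stabilizer E W₁, e • w = w}
      = Nat.card {w : W // w ∈ W₁ ∧ ∀ e ∈ E₀, e • w = w} := by
    refine Nat.card_congr (Equiv.subtypeEquivRight (fun w => ?_))
    constructor
    · rintro ⟨h1, h2⟩
      refine ⟨h1, ?_⟩
      rintro e ⟨e', he', rfl⟩
      exact h2 e' he'
    · rintro ⟨h1, h2⟩
      refine ⟨h1, fun e he => ?_⟩
      exact h2 e.1 ⟨e, he, rfl⟩
  have hF : Nat.card (fixOf E W) = Nat.card {w : W // w ∈ W₁ ∧ ∀ e ∈ E₀, e • w = w} := by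
    rw [hF1, hcardF, hF2]
  have hcE₀ : Nat.card E₀ = Nat.card stE := by
    rw [hE₀]; exact Subgroup.card_map_of_injective (Subgroup.subtype_injective E)
  have hos : Nat.card (MulAction.orbit E W₁) * Nat.card stE = Nat.card E := by
    have h1 := Subgroup.card_mul_index stE
    rw [hstE, MulAction.index_stabilizer, ← Nat.card_coe_set_eq, mul_comm] at h1
    exact h1
  refine ⟨?_, ?_⟩
  · rw [hcardW, hMC, ← hF, hcE₀, ← pow_mul, mul_comm, hos]
  · intro hℓ u hu v hv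
    rw [hF] at hℓ
    -- the fixed points of E₀ on W₁ form a cyclic group
    set Fx : Subgroup W := W₁ ⊓ fixOf E₀ W with hFx
    have hFxc : Nat.card Fx = Nat.card {w : W // w ∈ W₁ ∧ ∀ e ∈ E₀, e • w = w} :=
      Nat.card_congr (Equiv.subtypeEquivRight (fun w => Iff.rfl))
    haveI : Fact (Nat.card {w : W // w ∈ W₁ ∧ ∀ e ∈ E₀, e • w = w}).Prime := ⟨hℓ⟩
    haveI : IsCyclic Fx := isCyclic_of_prime_card hFxc
    obtain ⟨a₀, ha₀⟩ := IsCyclic.exists_generator (α := Fx)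
    have hcyc : ∀ w ∈ W₁, (∀ e ∈ E₀, e • w = w) → w ∈ Subgroup.zpowers (a₀ : W) := by
      intro w hw hfix
      obtain ⟨n, hn⟩ := Subgroup.mem_zpowers_iff.mp (ha₀ ⟨w, hw, hfix⟩)
      refine Subgroup.mem_zpowers_iff.mpr ⟨n, ?_⟩
      have := congrArg Subtype.val hn
      simpa using this
    have hcommP : ∀ u ∈ U, ∀ w ∈ W₁, rho Γ W u (P w) = P (rho Γ W u w) := by
      intro u hu w _
      have h1 := congrArg (fun A : MulAut W => A w) (hy₁B.2.2 u hu)
      simp only [MulAut.mul_apply] at h1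
      exact h1.symm
    have hW₁comm : ∀ u ∈ U, ∀ v ∈ U, ∀ w ∈ W₁, u • v • w = v • u • w := by
      intro u hu v hv w hw
      exact Cfsg.Agent.Lib.Helper56.FrobMC.comm_of_cyclic_fix_mul W₁ E₀ hE₀inv P hP' t hrel hinj
        (a₀ : W) a₀.2.1 hcyc (rho Γ W u) (rho Γ W v) (fun w hw => hinvU u hu w hw)
        (fun w hw => hinvU v hv w hw) (hcommP u hu) (hcommP v hv) w hw
    -- extend to W
    let C : Subgroup W :=
      { carrier := {w | ∀ u ∈ U, ∀ v ∈ U, u • v • w = v • u • w}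
        mul_mem' := by
          intro a b ha hb u hu v hv
          rw [smul_mul', smul_mul', smul_mul', smul_mul', ha u hu v hv, hb u hu v hv]
        one_mem' := by
          intro u _ v _
          rw [smul_one, smul_one, smul_one]
        inv_mem' := by
          intro a ha u hu v hv
          rw [smul_inv', smul_inv', smul_inv', smul_inv', ha u hu v hv] }
    have hC : ∀ e : E, e • W₁ ≤ C := by
      intro e w hw u hu v hv
      have hw' : (e : Γ)⁻¹ • w ∈ W₁ := Subgroup.mem_pointwise_smul_iff_inv_smul_mem.mp hw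
      have hu' : (e : Γ)⁻¹ * u * (e : Γ) ∈ U := by
        have := ‹U.Normal›.conj_mem u hu (e : Γ)⁻¹
        simpa using this
      have hv' : (e : Γ)⁻¹ * v * (e : Γ) ∈ U := by
        have := ‹U.Normal›.conj_mem v hv (e : Γ)⁻¹
        simpa using this
      have h1 := hW₁comm _ hu' _ hv' _ hw'
      rw [hconjsmul, hconjsmul, hconjsmul, hconjsmul] at h1
      exact smul_left_cancel _ h1
    intro w
    exact (iSup_le hC) (hgen w) u hu v hv

end Cfsg.Agent.Lib.Helper56.FrobIrr
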