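import Mathlib
import Cfsg.Agent.Lib.Helper56.FrobIrr

/-!
# The Frobenius fixed point formula for coprime actions on solvable groups

`Γ = U E` with `U` normal nilpotent and `E` acting fixed-point-freely on `U`; `H` a finite solvable
group with a coprime action of `Γ`.  Then
`|C_H(Γ)|^|E| · |H| = |C_H(E)|^|E| · |C_H(U)|`.
-/

set_option autoImplicit false
set_option linter.unusedSectionVars false
set_option linter.unusedVariables false
set_option linter.style.haveILetI false

universe u v

namespace Cfsg.Agent.Lib.Helper56.FrobMain

open Cfsg.Agent.Lib.Helper56.FrobAct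
open Cfsg.Agent.Lib.Helper56.FrobIrr
open scoped commutatorElement

variable {Γ : Type u} [Group Γ] [Finite Γ]

theorem formula (U E : Subgroup Γ) [U.Normal] (hUE : U ⊔ E = ⊤)
    (hfpf : ∀ e ∈ E, e ≠ 1 → ∀ u ∈ U, e * u = u * e → u = 1)
    (hnil : Group.IsNilpotent U) :
    ∀ (n : ℕ) (H : Type v) [Group H] [Finite H] [MulDistribMulAction Γ H], Nat.card H = n →
      Group.IsSolvable H → (Nat.card H).Coprime (Nat.card Γ) →
      Nat.card (fixOf (⊤ : Subgroup Γ) H) ^ Nat.card E * Nat.card H
        = Nat.card (fixOf E H) ^ Nat.card E * Nat.card (fixOf U H) := by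
  intro n
  induction n using Nat.strong_induction_on with
  | _ n ih =>
    intro H _ _ _ hn hsolv hcop
    by_cases hred : ∃ N : Subgroup H, N.Normal ∧ (∀ (g : Γ), ∀ x ∈ N, g • x ∈ N) ∧ N ≠ ⊥ ∧ N ≠ ⊤
    · obtain ⟨N, hNn, hNinv, hNbot, hNtop⟩ := hred
      haveI := hNn
      haveI := hsolv
      letI := subAct N hNinv
      letI := quotAct N hNinv
      have hcardH : Nat.card H = Nat.card (H ⧸ N) * Nat.card N :=
        Subgroup.card_eq_card_quotient_mul_card_subgroup N
      have hN1 : 1 < Nat.card N := (Subgroup.one_lt_card_iff_ne_bot N).mpr hNbot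
      have hNlt : Nat.card N < Nat.card H := by
        have h1 : Nat.card N ≤ Nat.card H := Nat.le_of_dvd Nat.card_pos (Subgroup.card_subgroup_dvd_card N)
        rcases h1.lt_or_eq with h | h
        · exact h
        · exact absurd ((Subgroup.card_eq_iff_eq_top N).mp h) hNtop
      have hQpos : 0 < Nat.card (H ⧸ N) := Nat.card_pos
      have hQlt : Nat.card (H ⧸ N) < Nat.card H := by
        rw [hcardH]
        nlinarith
      have hcopN : (Nat.card N).Coprime (Nat.card Γ) :=
        Nat.Coprime.coprime_dvd_left (Subgroup.card_subgroup_dvd_card N) hcop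
      have hcopQ : (Nat.card (H ⧸ N)).Coprime (Nat.card Γ) :=
        Nat.Coprime.coprime_dvd_left (Subgroup.card_quotient_dvd_card N) hcop
      have ihN := ih _ (hn ▸ hNlt) N rfl inferInstance hcopN
      have ihQ := ih _ (hn ▸ hQlt) (H ⧸ N) rfl inferInstance hcopQ
      have hS : ∀ S : Subgroup Γ, Nat.card (fixOf S H)
          = Nat.card (fixOf S N) * Nat.card (fixOf S (H ⧸ N)) := by
        intro S
        have hc : (Nat.card S).Coprime (Nat.card N) :=
          (Nat.Coprime.coprime_dvd_right (Subgroup.card_subgroup_dvd_card S) hcopN).symm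
        rw [card_fixOf_eq_mul S N hNinv hc inferInstance, card_fixOf_subAct S N hNinv]
      rw [hS ⊤, hS E, hS U, hcardH, mul_pow, mul_pow]
      calc Nat.card (fixOf (⊤ : Subgroup Γ) N) ^ Nat.card E * Nat.card (fixOf (⊤ : Subgroup Γ) (H ⧸ N)) ^ Nat.card E
            * (Nat.card (H ⧸ N) * Nat.card N)
          = (Nat.card (fixOf (⊤ : Subgroup Γ) N) ^ Nat.card E * Nat.card N)
            * (Nat.card (fixOf (⊤ : Subgroup Γ) (H ⧸ N)) ^ Nat.card E * Nat.card (H ⧸ N)) := by ring
        _ = (Nat.card (fixOf E N) ^ Nat.card E * Nat.card (fixOf U N))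
            * (Nat.card (fixOf E (H ⧸ N)) ^ Nat.card E * Nat.card (fixOf U (H ⧸ N))) := by
          rw [ihN, ihQ]
        _ = _ := by ring
    · -- irreducible case
      have hirr0 : ∀ N : Subgroup H, N.Normal → (∀ (g : Γ), ∀ x ∈ N, g • x ∈ N) → N = ⊥ ∨ N = ⊤ := by
        intro N hNn hNinv
        by_contra hcon
        push Not at hcon
        exact hred ⟨N, hNn, hNinv, hcon.1, hcon.2⟩
      rcases subsingleton_or_nontrivial H with hsub | hnt
      · -- trivial group
        have h1 : ∀ S : Subgroup Γ, Nat.card (fixOf S H) = 1 :=
          fun S => Nat.card_eq_one_iff_unique.mpr ⟨inferInstance, ⟨1⟩⟩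
        have h2 : Nat.card H = 1 := Nat.card_eq_one_iff_unique.mpr ⟨hsub, ⟨1⟩⟩
        rw [h1, h1, h1, h2]
      · -- H is abelian
        haveI := hsolv
        have hcomm : commutator H = ⊥ := by
          have hlt := Group.IsSolvable.commutator_lt_top_of_nontrivial H
          have hinv : ∀ (g : Γ), ∀ x ∈ commutator H, g • x ∈ commutator H := by
            intro g x hx
            rw [commutator_def] at hx ⊢
            rw [Subgroup.commutator_def] at hx ⊢
            refine Subgroup.closure_induction (p := fun x _ => g • x ∈ Subgroup.closure _) ?_ ?_ ?_ ?_ hx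
            · rintro _ ⟨a, _, b, _, rfl⟩
              apply Subgroup.subset_closure
              refine ⟨g • a, Subgroup.mem_top _, g • b, Subgroup.mem_top _, ?_⟩
              rw [commutatorElement_def, commutatorElement_def, smul_mul', smul_mul', smul_mul',
                smul_inv', smul_inv']
            · rw [smul_one]; exact Subgroup.one_mem _
            · intro a b _ _ ha hb
              rw [smul_mul']; exact Subgroup.mul_mem _ ha hb
            · intro a _ ha
              rw [smul_inv']; exact Subgroup.inv_mem _ ha
          rcases hirr0 (commutator H) inferInstance hinv with h | h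
          · exact h
          · exact absurd h hlt.ne
        have hmulcomm : ∀ a b : H, a * b = b * a := by
          intro a b
          have h1 : ⁅a, b⁆ ∈ commutator H := by
            rw [commutator_def]
            exact Subgroup.commutator_mem_commutator (Subgroup.mem_top a) (Subgroup.mem_top b)
          rw [hcomm, Subgroup.mem_bot, commutatorElement_eq_one_iff_mul_comm] at h1
          exact h1
        letI : CommGroup H := { ‹Group H› with mul_comm := hmulcomm }
        have hirr : ∀ N : Subgroup H, (∀ (g : Γ), ∀ x ∈ N, g • x ∈ N) → N = ⊥ ∨ N = ⊤ :=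
          fun N hN => hirr0 N inferInstance hN
        have hUinv : ∀ (g : Γ), ∀ x ∈ fixOf U H, g • x ∈ fixOf U H :=
          fun g x hx => fixOf_normal_invariant g x hx
        have htop : fixOf (⊤ : Subgroup Γ) H = fixOf U H ⊓ fixOf E H := by
          rw [← hUE, fixOf_sup]
        rcases hirr (fixOf U H) hUinv with hU | hU
        · -- fixed-point-free: the key case
          have h1 := (irr_main U E hUE hfpf hnil hirr hU hcop).1
          have h2 : Nat.card (fixOf (⊤ : Subgroup Γ) H) = 1 := by
            rw [htop, hU, bot_inf_eq]
            exact Subgroup.card_bot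
          have h3 : Nat.card (fixOf U H) = 1 := by rw [hU]; exact Subgroup.card_bot
          rw [h2, h3, one_pow, one_mul, mul_one]
          exact h1
        · -- U acts trivially
          have h2 : fixOf (⊤ : Subgroup Γ) H = fixOf E H := by rw [htop, hU, top_inf_eq]
          have h3 : Nat.card (fixOf U H) = Nat.card H := by rw [hU]; exact Subgroup.card_top
          rw [h2, h3]

/-- an irreducible solvable `Γ`-group is abelian. -/
theorem mul_comm_of_irred {H : Type v} [Group H] [MulDistribMulAction Γ H] [Nontrivial H]
    (hsolv : Group.IsSolvable H)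
    (hirr0 : ∀ N : Subgroup H, N.Normal → (∀ (g : Γ), ∀ x ∈ N, g • x ∈ N) → N = ⊥ ∨ N = ⊤) :
    ∀ a b : H, a * b = b * a := by
  haveI := hsolv
  have hcomm : commutator H = ⊥ := by
    have hlt := Group.IsSolvable.commutator_lt_top_of_nontrivial H
    have hinv : ∀ (g : Γ), ∀ x ∈ commutator H, g • x ∈ commutator H := by
      intro g x hx
      rw [commutator_def] at hx ⊢
      rw [Subgroup.commutator_def] at hx ⊢
      refine Subgroup.closure_induction (p := fun x _ => g • x ∈ Subgroup.closure _) ?_ ?_ ?_ ?_ hx
      · rintro _ ⟨a, _, b, _, rfl⟩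
        apply Subgroup.subset_closure
        refine ⟨g • a, Subgroup.mem_top _, g • b, Subgroup.mem_top _, ?_⟩
        rw [commutatorElement_def, commutatorElement_def, smul_mul', smul_mul', smul_mul',
          smul_inv', smul_inv']
      · rw [smul_one]; exact Subgroup.one_mem _
      · intro a b _ _ ha hb
        rw [smul_mul']; exact Subgroup.mul_mem _ ha hb
      · intro a _ ha
        rw [smul_inv']; exact Subgroup.inv_mem _ ha
    rcases hirr0 (commutator H) inferInstance hinv with h | h
    · exact h
    · exact absurd h hlt.ne
  intro a b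
  have h1 : ⁅a, b⁆ ∈ commutator H := by
    rw [commutator_def]
    exact Subgroup.commutator_mem_commutator (Subgroup.mem_top a) (Subgroup.mem_top b)
  rw [hcomm, Subgroup.mem_bot, commutatorElement_eq_one_iff_mul_comm] at h1
  exact h1

/-- an element acting trivially on an invariant normal subgroup and on the quotient, of order
coprime to the group, acts trivially. -/
theorem smul_eq_of_stable {H : Type v} [Group H] [Finite H] [MulDistribMulAction Γ H]
    (N : Subgroup H) (c : Γ) (hc : (Nat.card H).Coprime (orderOf c))
    (hN : ∀ n ∈ N, c • n = n) (hQ : ∀ h : H, h⁻¹ * (c • h) ∈ N) (h : H) : c • h = h := by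
  set δ := h⁻¹ * (c • h) with hδ
  have hδN : δ ∈ N := hQ h
  have hch : c • h = h * δ := by rw [hδ]; group
  have hpow : ∀ k : ℕ, (c ^ k) • h = h * δ ^ k := by
    intro k
    induction k with
    | zero => simp
    | succ k ih =>
      rw [pow_succ', mul_smul, ih, smul_mul', smul_pow', hN δ hδN, hch, pow_succ', mul_assoc]
  have h1 := hpow (orderOf c)
  rw [pow_orderOf_eq_one, one_smul] at h1
  have h2 : δ ^ orderOf c = 1 := by
    have := congrArg (fun x => h⁻¹ * x) h1
    simp only [inv_mul_cancel, inv_mul_cancel_left] at this
    exact this.symm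
  have h3 : orderOf δ ∣ orderOf c := orderOf_dvd_of_pow_eq_one h2
  have h4 : orderOf δ ∣ Nat.card H := orderOf_dvd_natCard δ
  have h5 : orderOf δ = 1 := Nat.eq_one_of_dvd_coprimes hc h4 h3
  rw [hch, orderOf_eq_one_iff.mp h5, mul_one]

/-- **Theorem B.** If the fixed points of `E` are cyclic then `[U, U]` acts trivially. -/
theorem comm_of_cyclic_fix (U E : Subgroup Γ) [U.Normal] (hUE : U ⊔ E = ⊤)
    (hfpf : ∀ e ∈ E, e ≠ 1 → ∀ u ∈ U, e * u = u * e → u = 1)
    (hnil : Group.IsNilpotent U) :
    ∀ (n : ℕ) (H : Type v) [Group H] [Finite H] [MulDistribMulAction Γ H], Nat.card H = n →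
      Group.IsSolvable H → (Nat.card H).Coprime (Nat.card Γ) → IsCyclic (fixOf E H) →
      ∀ u ∈ U, ∀ v ∈ U, ∀ h : H, u • v • h = v • u • h := by
  intro n
  induction n using Nat.strong_induction_on with
  | _ n ih =>
    intro H _ _ _ hn hsolv hcop hcyc
    by_cases hred : ∃ N : Subgroup H, N.Normal ∧ (∀ (g : Γ), ∀ x ∈ N, g • x ∈ N) ∧ N ≠ ⊥ ∧ N ≠ ⊤
    · obtain ⟨N, hNn, hNinv, hNbot, hNtop⟩ := hred
      haveI := hNn
      haveI := hsolv
      letI := subAct N hNinv
      letI := quotAct N hNinv
      have hcardH : Nat.card H = Nat.card (H ⧸ N) * Nat.card N :=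
        Subgroup.card_eq_card_quotient_mul_card_subgroup N
      have hN1 : 1 < Nat.card N := (Subgroup.one_lt_card_iff_ne_bot N).mpr hNbot
      have hNlt : Nat.card N < Nat.card H := by
        have h1 : Nat.card N ≤ Nat.card H := Nat.le_of_dvd Nat.card_pos (Subgroup.card_subgroup_dvd_card N)
        rcases h1.lt_or_eq with h | h
        · exact h
        · exact absurd ((Subgroup.card_eq_iff_eq_top N).mp h) hNtop
      have hQpos : 0 < Nat.card (H ⧸ N) := Nat.card_pos
      have hQlt : Nat.card (H ⧸ N) < Nat.card H := by
        rw [hcardH]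
        nlinarith
      have hcopN : (Nat.card N).Coprime (Nat.card Γ) :=
        Nat.Coprime.coprime_dvd_left (Subgroup.card_subgroup_dvd_card N) hcop
      have hcopQ : (Nat.card (H ⧸ N)).Coprime (Nat.card Γ) :=
        Nat.Coprime.coprime_dvd_left (Subgroup.card_quotient_dvd_card N) hcop
      -- cyclicity is inherited
      have hcycN : IsCyclic (fixOf E N) := by
        let f : fixOf E N →* fixOf E H :=
          { toFun := fun x => ⟨((x : N) : H), fun s hs => congrArg Subtype.val (x.2 s hs)⟩
            map_one' := rfl
            map_mul' := fun a b => rfl }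
        have hf : Function.Injective f := by
          intro a b hab
          apply Subtype.ext
          apply Subtype.ext
          exact congrArg (fun x : fixOf E H => (x : H)) hab
        exact isCyclic_of_injective f hf
      have hcycQ : IsCyclic (fixOf E (H ⧸ N)) := by
        let f : fixOf E H →* fixOf E (H ⧸ N) :=
          { toFun := fun x => ⟨((x : H) : H ⧸ N), fun s hs => by
              show s • ((x : H) : H ⧸ N) = ((x : H) : H ⧸ N)
              rw [quotAct_mk, x.2 s hs]⟩
            map_one' := rfl
            map_mul' := fun a b => rfl }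
        have hf : Function.Surjective f := by
          intro q
          have hc : (Nat.card E).Coprime (Nat.card N) :=
            (Nat.Coprime.coprime_dvd_right (Subgroup.card_subgroup_dvd_card E) hcopN).symm
          obtain ⟨h, hh, hq⟩ := exists_fixOf_lift E N hNinv hc inferInstance q.1 q.2
          exact ⟨⟨h, hh⟩, Subtype.ext hq⟩
        exact isCyclic_of_surjective f hf
      have ihN := ih _ (hn ▸ hNlt) N rfl inferInstance hcopN hcycN
      have ihQ := ih _ (hn ▸ hQlt) (H ⧸ N) rfl inferInstance hcopQ hcycQ
      intro u hu v hv h
      set c : Γ := (v * u)⁻¹ * (u * v) with hc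
      have hcN : ∀ x ∈ N, c • x = x := by
        intro x hx
        have h1 := congrArg Subtype.val (ihN u hu v hv ⟨x, hx⟩)
        have h2 : u • v • x = v • u • x := h1
        rw [hc, mul_smul, mul_smul, h2, ← mul_smul v u, inv_smul_smul]
      have hcQ : ∀ x : H, x⁻¹ * (c • x) ∈ N := by
        intro x
        have h1 := ihQ u hu v hv (x : H ⧸ N)
        rw [← QuotientGroup.eq_one_iff, QuotientGroup.mk_mul, QuotientGroup.mk_inv,
          ← quotAct_mk N hNinv c x, hc, mul_smul, mul_smul, h1, ← mul_smul v u, inv_smul_smul,
          inv_mul_cancel]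
      have hcop' : (Nat.card H).Coprime (orderOf c) :=
        Nat.Coprime.coprime_dvd_right (orderOf_dvd_natCard c) hcop
      have h3 := smul_eq_of_stable N c hcop' hcN hcQ h
      rw [hc, mul_smul, inv_smul_eq_iff, mul_smul, mul_smul] at h3
      exact h3
    · -- irreducible case
      have hirr0 : ∀ N : Subgroup H, N.Normal → (∀ (g : Γ), ∀ x ∈ N, g • x ∈ N) → N = ⊥ ∨ N = ⊤ := by
        intro N hNn hNinv
        by_contra hcon
        push Not at hcon
        exact hred ⟨N, hNn, hNinv, hcon.1, hcon.2⟩
      rcases subsingleton_or_nontrivial H with hsub | hnt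
      · intro u _ v _ h
        exact Subsingleton.elim _ _
      · have hmulcomm := mul_comm_of_irred (Γ := Γ) hsolv hirr0
        letI : CommGroup H := { ‹Group H› with mul_comm := hmulcomm }
        have hirr : ∀ N : Subgroup H, (∀ (g : Γ), ∀ x ∈ N, g • x ∈ N) → N = ⊥ ∨ N = ⊤ :=
          fun N hN => hirr0 N inferInstance hN
        have hUinv : ∀ (g : Γ), ∀ x ∈ fixOf U H, g • x ∈ fixOf U H :=
          fun g x hx => fixOf_normal_invariant g x hx
        rcases hirr (fixOf U H) hUinv with hU | hU
        · have hmain := irr_main U E hUE hfpf hnil hirr hU hcop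
          -- the fixed points have prime order
          have hFne : fixOf E H ≠ ⊥ := by
            intro h
            have h1 := hmain.1
            rw [h, Subgroup.card_bot, one_pow] at h1
            have : Subsingleton H := (Nat.card_eq_one_iff_unique.mp h1).1
            exact not_subsingleton H this
          obtain ⟨p, hp, hpd⟩ := Nat.exists_prime_and_dvd
            (show Nat.card H ≠ 1 from fun h => not_subsingleton H (Nat.card_eq_one_iff_unique.mp h).1)
          haveI : Fact p.Prime := ⟨hp⟩
          let Np : Subgroup H :=
            { carrier := {w | w ^ p = 1}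
              mul_mem' := by
                intro a b ha hb
                show (a * b) ^ p = 1
                rw [mul_pow, ha, hb, one_mul]
              one_mem' := one_pow p
              inv_mem' := by
                intro a ha
                show a⁻¹ ^ p = 1
                rw [inv_pow, ha, inv_one] }
          have hNpinv : ∀ (g : Γ), ∀ x ∈ Np, g • x ∈ Np := by
            intro g x hx
            show (g • x) ^ p = 1
            rw [← smul_pow', hx, smul_one]
          have hNptop : Np = ⊤ := by
            rcases hirr Np hNpinv with h | h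
            · exfalso
              obtain ⟨x, hx⟩ := exists_prime_orderOf_dvd_card' (G := H) p hpd
              have hxN : x ∈ Np := by
                show x ^ p = 1
                rw [← hx]; exact pow_orderOf_eq_one x
              rw [h, Subgroup.mem_bot] at hxN
              rw [hxN, orderOf_one] at hx
              exact hp.one_lt.ne hx
            · exact h
          haveI := hcyc
          obtain ⟨g, hg⟩ := IsCyclic.exists_generator (α := fixOf E H)
          have hgp : g ^ p = 1 := by
            apply Subtype.ext
            have : (g : H) ∈ Np := by rw [hNptop]; trivial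
            exact this
          have hg1 : g ≠ 1 := by
            intro h
            apply hFne
            rw [eq_bot_iff]
            intro x hx
            obtain ⟨k, hk⟩ := Subgroup.mem_zpowers_iff.mp (hg ⟨x, hx⟩)
            rw [h, one_zpow] at hk
            rw [Subgroup.mem_bot]
            exact (congrArg Subtype.val hk).symm
          have hordg : orderOf g = p := orderOf_eq_prime hgp hg1
          have hcardF : Nat.card (fixOf E H) = p := by
            rw [← hordg]
            exact (orderOf_eq_card_of_forall_mem_zpowers hg).symm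
          exact hmain.2 (hcardF ▸ hp)
        · intro u hu v hv h
          have h1 : ∀ (u : Γ), u ∈ U → ∀ x : H, u • x = x := by
            intro u hu x
            have : x ∈ fixOf U H := by rw [hU]; trivial
            exact this u hu
          rw [h1 v hv, h1 u hu, h1 v hv]

end Cfsg.Agent.Lib.Helper56.FrobMain
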