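import Mathlib
import Cfsg.Agent.S0033
import Cfsg.Agent.Lib.Helper56.FrobMain

/-!
# Concrete form of the Frobenius fixed point formula (subgroups of an ambient group)
-/

set_option autoImplicit false
set_option linter.unusedSectionVars false
set_option linter.unusedVariables false
set_option linter.style.haveILetI false

universe u

namespace Cfsg.Agent.Lib.Helper56.FrobApply

open Cfsg.Agent.Lib.Helper56.FrobAct

variable {X : Type u} [Group X] [Finite X]

/-- conjugation by `e` as an automorphism of the normalized subgroup `U`. -/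
def conjEquiv (U : Subgroup X) (e : X) (he : ∀ u ∈ U, e * u * e⁻¹ ∈ U)
    (he' : ∀ u ∈ U, e⁻¹ * u * e ∈ U) : U ≃* U where
  toFun u := ⟨e * u * e⁻¹, he u u.2⟩
  invFun u := ⟨e⁻¹ * u * e, he' u u.2⟩
  left_inv u := by apply Subtype.ext; simp [mul_assoc]
  right_inv u := by apply Subtype.ext; simp [mul_assoc]
  map_mul' a b := by apply Subtype.ext; simp [mul_assoc]

/-- **Thompson**: the kernel of a Frobenius-like configuration is nilpotent. -/
theorem nilpotent_kernel (U E : Subgroup X) (hE1 : E ≠ ⊥)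
    (hUn : ∀ e ∈ E, ∀ u ∈ U, e * u * e⁻¹ ∈ U)
    (hfpf : ∀ e ∈ E, e ≠ 1 → ∀ u ∈ U, e * u = u * e → u = 1) : Group.IsNilpotent U := by
  by_cases hU : U = ⊥
  · subst hU
    infer_instance
  have hEcard : Nat.card E ≠ 1 := fun h => hE1 (Subgroup.card_eq_one.mp h)
  obtain ⟨p, hp, hpd⟩ := Nat.exists_prime_and_dvd hEcard
  haveI : Fact p.Prime := ⟨hp⟩
  obtain ⟨e, he⟩ := exists_prime_orderOf_dvd_card' (G := E) p hpd
  have he1 : (e : X) ≠ 1 := by
    intro h
    have : e = 1 := Subtype.ext h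
    rw [this, orderOf_one] at he
    exact hp.one_lt.ne he
  have hep : (e : X) ^ p = 1 := by
    have : e ^ p = 1 := by rw [← he]; exact pow_orderOf_eq_one e
    have := congrArg Subtype.val this
    simpa using this
  have hn' : ∀ u ∈ U, (e : X)⁻¹ * u * (e : X) ∈ U := by
    intro u hu
    have := hUn _ (E.inv_mem e.2) u hu
    simpa using this
  let φ : U ≃* U := conjEquiv U e (hUn e e.2) hn'
  have hφapp : ∀ u : U, ((φ u : U) : X) = (e : X) * u * (e : X)⁻¹ := fun u => rfl
  have hfix : MonoidHom.FixedPointFree (φ : U →* U) := by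
    intro u hu
    have h1 : (e : X) * u * (e : X)⁻¹ = u := congrArg Subtype.val hu
    have h2 : (e : X) * u = u * e := by
      calc (e : X) * u = ((e : X) * u * (e : X)⁻¹) * e := by group
        _ = u * e := by rw [h1]
    exact Subtype.ext (hfpf e e.2 he1 u u.2 h2)
  have hpow : ∀ (k : ℕ) (u : U), (((φ ^ k) u : U) : X) = (e : X) ^ k * u * ((e : X) ^ k)⁻¹ := by
    intro k
    induction k with
    | zero => intro u; simp
    | succ k ih =>
      intro u
      rw [pow_succ', MulAut.mul_apply, hφapp, ih, pow_succ']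
      group
  have hφp : φ ^ p = 1 := by
    ext u
    rw [hpow, hep]; simp
  have hφ1 : φ ≠ 1 := by
    intro h
    apply hU
    rw [eq_bot_iff]
    intro u hu
    have h1 : φ ⟨u, hu⟩ = ⟨u, hu⟩ := by rw [h]; rfl
    have := hfix ⟨u, hu⟩ h1
    exact congrArg Subtype.val this
  have hord : orderOf φ = p := orderOf_eq_prime hφp hφ1
  exact Cfsg.Agent.S0033.result φ hfix p hp hord

/-- the conjugation action of a subgroup `G` on a subgroup `H` it normalizes. -/
@[instance_reducible]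
def conjAct (G H : Subgroup X) (hn : ∀ x ∈ G, ∀ h ∈ H, x * h * x⁻¹ ∈ H) : MulDistribMulAction G H where
  smul g h := ⟨(g : X) * h * (g : X)⁻¹, hn g g.2 h h.2⟩
  one_smul h := by apply Subtype.ext; show (1 : X) * h * (1 : X)⁻¹ = h; simp
  mul_smul a b h := by
    apply Subtype.ext
    show ((a * b : G) : X) * h * ((a * b : G) : X)⁻¹ = (a : X) * ((b : X) * h * (b : X)⁻¹) * (a : X)⁻¹
    rw [Subgroup.coe_mul]; group
  smul_mul g a b := by
    apply Subtype.ext
    show (g : X) * (a * b : H) * (g : X)⁻¹ = ((g : X) * a * (g : X)⁻¹) * ((g : X) * b * (g : X)⁻¹)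
    rw [Subgroup.coe_mul]; group
  smul_one g := by
    apply Subtype.ext
    show (g : X) * (1 : H) * (g : X)⁻¹ = 1
    simp

theorem conjAct_smul (G H : Subgroup X) (hn : ∀ x ∈ G, ∀ h ∈ H, x * h * x⁻¹ ∈ H) (g : G) (h : H) :
    letI := conjAct G H hn
    ((g • h : H) : X) = (g : X) * h * (g : X)⁻¹ := rfl

/-- fixed points of the conjugation action are centralizers. -/
theorem card_fixOf_conj (G H : Subgroup X) (hn : ∀ x ∈ G, ∀ h ∈ H, x * h * x⁻¹ ∈ H)
    (S : Subgroup X) (hS : S ≤ G) :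
    Nat.card (@fixOf G _ (S.subgroupOf G) H _ (conjAct G H hn))
      = Nat.card ↥(H ⊓ Subgroup.centralizer (S : Set X)) := by
  letI := conjAct G H hn
  refine Nat.card_congr
    { toFun := fun h => ⟨((h : H) : X), (h : H).2, ?_⟩
      invFun := fun h => ⟨⟨(h : X), h.2.1⟩, ?_⟩
      left_inv := fun h => rfl
      right_inv := fun h => rfl }
  · show ((h : H) : X) ∈ Subgroup.centralizer (S : Set X)
    rw [Subgroup.mem_centralizer_iff]
    intro s hs
    have h1 := h.2 ⟨s, hS hs⟩ (by rw [Subgroup.mem_subgroupOf]; exact hs)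
    have h2 : s * ((h : H) : X) * s⁻¹ = ((h : H) : X) := congrArg Subtype.val h1
    calc s * ((h : H) : X) = (s * ((h : H) : X) * s⁻¹) * s := by group
      _ = ((h : H) : X) * s := by rw [h2]
  · intro s hs
    rw [Subgroup.mem_subgroupOf] at hs
    apply Subtype.ext
    show (s : X) * (h : X) * (s : X)⁻¹ = (h : X)
    have h1 := Subgroup.mem_centralizer_iff.mp h.2.2 (s : X) hs
    rw [h1]; group

/-- **Frobenius fixed point formula**, concrete form. -/
theorem frobenius_formula (U E H : Subgroup X) (hE1 : E ≠ ⊥)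
    (hUn : ∀ e ∈ E, ∀ u ∈ U, e * u * e⁻¹ ∈ U)
    (hfpf : ∀ e ∈ E, e ≠ 1 → ∀ u ∈ U, e * u = u * e → u = 1)
    (hHn : ∀ x ∈ U ⊔ E, ∀ h ∈ H, x * h * x⁻¹ ∈ H) (hsolv : Group.IsSolvable H)
    (hcop : Nat.Coprime (Nat.card H) (Nat.card ↥(U ⊔ E))) :
    Nat.card ↥(H ⊓ Subgroup.centralizer ((U ⊔ E : Subgroup X) : Set X)) ^ Nat.card E * Nat.card H
      = Nat.card ↥(H ⊓ Subgroup.centralizer (E : Set X)) ^ Nat.card E
        * Nat.card ↥(H ⊓ Subgroup.centralizer (U : Set X)) := by
  set G : Subgroup X := U ⊔ E with hG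
  letI := conjAct G H hHn
  have hUG : U ≤ G := le_sup_left
  have hEG : E ≤ G := le_sup_right
  have hnil := nilpotent_kernel U E hE1 hUn hfpf
  -- U normal in G
  have hGU : G ≤ Subgroup.normalizer (U : Set X) := by
    refine sup_le Subgroup.le_normalizer ?_
    intro e he
    rw [Subgroup.mem_normalizer_iff]
    intro u
    constructor
    · exact hUn e he u
    · intro h
      have := hUn _ (E.inv_mem he) _ h
      have e1 : e⁻¹ * (e * u * e⁻¹) * e⁻¹⁻¹ = u := by group
      rwa [e1] at this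
  haveI : (U.subgroupOf G).Normal := (Subgroup.normal_subgroupOf_iff_le_normalizer hUG).mpr hGU
  have hsup : U.subgroupOf G ⊔ E.subgroupOf G = ⊤ := by
    rw [← Subgroup.subgroupOf_sup hUG hEG, Subgroup.subgroupOf_self]
  have hfpf' : ∀ e ∈ E.subgroupOf G, e ≠ 1 → ∀ u ∈ U.subgroupOf G, e * u = u * e → u = 1 := by
    intro e he he1 u hu heu
    apply Subtype.ext
    refine hfpf e he (fun h => he1 (Subtype.ext h)) u hu ?_
    exact congrArg Subtype.val heu
  haveI : Group.IsNilpotent (U.subgroupOf G) :=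
    (Group.isNilpotent_congr (Subgroup.subgroupOfEquivOfLe hUG)).mpr hnil
  have hmain := Cfsg.Agent.Lib.Helper56.FrobMain.formula (U.subgroupOf G) (E.subgroupOf G) hsup hfpf'
    inferInstance (Nat.card H) H rfl hsolv hcop
  have h1 := card_fixOf_conj G H hHn G le_rfl
  rw [Subgroup.subgroupOf_self] at h1
  rw [h1, card_fixOf_conj G H hHn E hEG, card_fixOf_conj G H hHn U hUG,
    Nat.card_congr (Subgroup.subgroupOfEquivOfLe hEG).toEquiv] at hmain
  exact hmain

open scoped commutatorElement in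
/-- **Theorem B**, concrete form: if `C_H(E)` is cyclic then `[U, U]` centralizes `H`. -/
theorem frobenius_comm (U E H : Subgroup X) (hE1 : E ≠ ⊥)
    (hUn : ∀ e ∈ E, ∀ u ∈ U, e * u * e⁻¹ ∈ U)
    (hfpf : ∀ e ∈ E, e ≠ 1 → ∀ u ∈ U, e * u = u * e → u = 1)
    (hHn : ∀ x ∈ U ⊔ E, ∀ h ∈ H, x * h * x⁻¹ ∈ H) (hsolv : Group.IsSolvable H)
    (hcop : Nat.Coprime (Nat.card H) (Nat.card ↥(U ⊔ E)))
    (hcyc : IsCyclic ↥(H ⊓ Subgroup.centralizer (E : Set X))) :
    ⁅U, U⁆ ≤ Subgroup.centralizer (H : Set X) := by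
  set G : Subgroup X := U ⊔ E with hG
  letI := conjAct G H hHn
  have hUG : U ≤ G := le_sup_left
  have hEG : E ≤ G := le_sup_right
  have hnil := nilpotent_kernel U E hE1 hUn hfpf
  have hGU : G ≤ Subgroup.normalizer (U : Set X) := by
    refine sup_le Subgroup.le_normalizer ?_
    intro e he
    rw [Subgroup.mem_normalizer_iff]
    intro u
    constructor
    · exact hUn e he u
    · intro h
      have := hUn _ (E.inv_mem he) _ h
      have e1 : e⁻¹ * (e * u * e⁻¹) * e⁻¹⁻¹ = u := by group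
      rwa [e1] at this
  haveI : (U.subgroupOf G).Normal := (Subgroup.normal_subgroupOf_iff_le_normalizer hUG).mpr hGU
  have hsup : U.subgroupOf G ⊔ E.subgroupOf G = ⊤ := by
    rw [← Subgroup.subgroupOf_sup hUG hEG, Subgroup.subgroupOf_self]
  have hfpf' : ∀ e ∈ E.subgroupOf G, e ≠ 1 → ∀ u ∈ U.subgroupOf G, e * u = u * e → u = 1 := by
    intro e he he1 u hu heu
    apply Subtype.ext
    refine hfpf e he (fun h => he1 (Subtype.ext h)) u hu ?_
    exact congrArg Subtype.val heu
  haveI : Group.IsNilpotent (U.subgroupOf G) :=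
    (Group.isNilpotent_congr (Subgroup.subgroupOfEquivOfLe hUG)).mpr hnil
  have hcyc' : IsCyclic (fixOf (E.subgroupOf G) H) := by
    haveI := hcyc
    let f : fixOf (E.subgroupOf G) H →* ↥(H ⊓ Subgroup.centralizer (E : Set X)) :=
      { toFun := fun h => ⟨((h : H) : X), (h : H).2, by
          show ((h : H) : X) ∈ Subgroup.centralizer (E : Set X)
          rw [Subgroup.mem_centralizer_iff]
          intro s hs
          have h1 := h.2 ⟨s, hEG hs⟩ (by rw [Subgroup.mem_subgroupOf]; exact hs)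
          have h2 : s * ((h : H) : X) * s⁻¹ = ((h : H) : X) := congrArg Subtype.val h1
          calc s * ((h : H) : X) = (s * ((h : H) : X) * s⁻¹) * s := by group
            _ = ((h : H) : X) * s := by rw [h2]⟩
        map_one' := rfl
        map_mul' := fun a b => rfl }
    have hf : Function.Injective f := by
      intro a b hab
      apply Subtype.ext
      apply Subtype.ext
      exact congrArg (fun x : ↥(H ⊓ Subgroup.centralizer (E : Set X)) => (x : X)) hab
    exact isCyclic_of_injective f hf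
  have hmain := Cfsg.Agent.Lib.Helper56.FrobMain.comm_of_cyclic_fix (U.subgroupOf G)
    (E.subgroupOf G) hsup hfpf' inferInstance (Nat.card H) H rfl hsolv hcop hcyc'
  rw [Subgroup.commutator_le]
  intro u hu v hv
  rw [Subgroup.mem_centralizer_iff]
  intro h hh
  -- h' = (v u)⁻¹ h (v u) ∈ H
  have hvuG : (v * u)⁻¹ ∈ G := G.inv_mem (G.mul_mem (hUG hv) (hUG hu))
  have hh' : (v * u)⁻¹ * h * (v * u)⁻¹⁻¹ ∈ H := hHn _ hvuG h hh
  have h1 := hmain ⟨u, hUG hu⟩ (by rw [Subgroup.mem_subgroupOf]; exact hu) ⟨v, hUG hv⟩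
    (by rw [Subgroup.mem_subgroupOf]; exact hv) ⟨_, hh'⟩
  have h2 : u * (v * ((v * u)⁻¹ * h * (v * u)⁻¹⁻¹) * v⁻¹) * u⁻¹
      = v * (u * ((v * u)⁻¹ * h * (v * u)⁻¹⁻¹) * u⁻¹) * v⁻¹ := congrArg Subtype.val h1
  rw [commutatorElement_def]
  have h3 : v * (u * ((v * u)⁻¹ * h * (v * u)⁻¹⁻¹) * u⁻¹) * v⁻¹ = h := by group
  rw [h3] at h2
  calc h * (u * v * u⁻¹ * v⁻¹)
      = (u * (v * ((v * u)⁻¹ * h * (v * u)⁻¹⁻¹) * v⁻¹) * u⁻¹) * (u * v * u⁻¹ * v⁻¹) := by rw [h2]
    _ = u * v * u⁻¹ * v⁻¹ * h := by group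

end Cfsg.Agent.Lib.Helper56.FrobApply
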