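import Cfsg.Agent.Lib.Helper23.Uniq91E

set_option autoImplicit false
set_option linter.style.haveILetI false
set_option linter.unusedSectionVars false

/-!
# Lemma U' for Bender–Glauberman 9.5

A nontrivial `p`-subgroup `B` of a maximal subgroup `M` of a minimal simple group of odd order all
of whose invariant `p'`-subgroups lie in `M` is contained in no other maximal subgroup.
(Same proof as helper23's `uniq_of_inv_le`, which only uses that `B` is a nontrivial `p`-group.)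
-/

namespace Cfsg.Agent.Lib.Helper56.BG95

open Subgroup Cfsg Cfsg.Agent.Lib.Helper33 Cfsg.Agent.Lib.Helper24 Cfsg.Agent.Lib.Helper32
  Cfsg.Agent.Lib.Helper23

universe u

variable {G : Type u} [Group G] [Finite G]

/-- Variant of Bender–Glauberman 9.1(b) for an arbitrary nontrivial `p`-subgroup `B` (the proof of
helper23's `uniq_of_inv_le` never uses more). -/
theorem uniq_of_inv_le' (hG : IsMinSimpleOddOrder G) {M : Subgroup G} (hM : IsCoatom M) {p : ℕ}
    [Fact p.Prime] {B : Subgroup G} (hBM : B ≤ M) (hBp : IsPGroup p B)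
    (hB0 : B ≠ ⊥)
    (hb : ∀ Y : Subgroup G, (Nat.card Y).Coprime p → B ≤ normalizer (Y : Set G) → Y ≤ M) :
    ∀ H : Subgroup G, IsCoatom H → B ≤ H → H = M := by
  intro H₀ hH₀ hBH₀
  by_contra hne₀
  have hpp : p.Prime := Fact.out
  haveI := hG.2.1
  have hMs : Group.IsSolvable ↥M := isSolvable_of_ne_top hG hM.1
  -- the context for a Sylow subgroup of `M` containing `B`
  have hctx : ∀ P : Subgroup G, B ≤ P → P ≤ M → IsPGroup p P → ¬ p ∣ P.relIndex M →
      SylUCtx M P p := by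
    intro P hBP hPM hP hPi
    refine ⟨hG, hM, hPM, hP, hPi, fun h => hB0 (le_bot_iff.mp (h ▸ hBP)), ?_⟩
    intro Y hY hPY
    exact inv_le_pPrimeCoreOf hMs hPM hP hPi (hb Y hY (hBP.trans hPY)) hY hPY
  -- extremal pair
  obtain ⟨s, hs⟩ : ∃ s : Set (Subgroup G × Subgroup G), s = {x | IsCoatom x.1 ∧ x.1 ≠ M ∧
      B ≤ x.2 ∧ x.2 ≤ x.1 ∧ x.2 ≤ M ∧ IsPGroup p x.2} := ⟨_, rfl⟩
  have hsne : s.Nonempty := ⟨(H₀, B), by rw [hs]; exact ⟨hH₀, hne₀, le_rfl, hBH₀, hBM, hBp⟩⟩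
  obtain ⟨⟨H, R⟩, hHR, hmax'⟩ :=
    Set.exists_max_image s (fun x => Nat.card x.2) (Set.toFinite s) hsne
  have hmax : ∀ H' T' : Subgroup G, IsCoatom H' → H' ≠ M → B ≤ T' → T' ≤ H' → T' ≤ M →
      IsPGroup p T' → Nat.card T' ≤ Nat.card R := by
    intro H' T' h1 h2 h3 h4 h5 h6
    exact hmax' (H', T') (by rw [hs]; exact ⟨h1, h2, h3, h4, h5, h6⟩)
  rw [hs] at hHR
  obtain ⟨hH, hHM, hBR, hRH, hRM, hR⟩ := hHR
  simp only at hH hHM hBR hRH hRM hR
  have hR0 : R ≠ ⊥ := fun h => hB0 (le_bot_iff.mp (h ▸ hBR))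
  have hp2 : p ≠ 2 := by
    apply ne_two_of_dvd_card_subgroup hG (S := R)
    obtain ⟨k, hk⟩ := IsPGroup.iff_card.mp hR
    have hk0 : k ≠ 0 := by
      rintro rfl
      rw [pow_zero] at hk
      exact hR0 (Subgroup.card_eq_one.mp hk)
    rw [hk]
    exact dvd_pow_self p hk0
  -- a Sylow subgroup `P` of `M` containing `R`
  obtain ⟨Q, hQ⟩ := (hR.comap_subtype (K := M)).exists_le_sylow
  obtain ⟨hPM, hP, hPi⟩ := sylow_map_facts M Q
  obtain ⟨P, hPdef⟩ : ∃ P, P = (Q : Subgroup ↥M).map M.subtype := ⟨_, rfl⟩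
  rw [← hPdef] at hPM hP hPi
  have hRP : R ≤ P := by
    intro x hx
    rw [hPdef]
    exact ⟨⟨x, hRM hx⟩, hQ (Subgroup.mem_subgroupOf.mpr hx), rfl⟩
  have c : SylUCtx M P p := hctx P (hBR.trans hRP) hPM hP hPi
  have hRneP : R ≠ P := by
    intro h
    exact hHM (c.eq_of_le H hH (h ▸ hRH))
  -- growth inside `P`
  obtain ⟨x, hxP, hxN, hxR⟩ := exists_normalizing_of_ne_nilpotent hP.isNilpotent hRP hRneP
  obtain ⟨T', hT'⟩ : ∃ T', T' = R ⊔ zpowers x := ⟨_, rfl⟩
  have hRT' : R ≤ T' := hT' ▸ le_sup_left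
  have hT'P : T' ≤ P := hT' ▸ sup_le hRP ((zpowers_le).mpr hxP)
  have hT'N : T' ≤ normalizer (R : Set G) := hT' ▸ sup_zpowers_le_normalizer hxN
  have hT'p : IsPGroup p T' := hP.to_le hT'P
  have hT'card : Nat.card R < Nat.card T' := hT' ▸ card_lt_of_lt' (lt_sup_zpowers hxR)
  -- normalizers of characteristic subgroups of `R` lie in `M`
  have hchar : ∀ Z : Subgroup G, Z ≠ ⊥ → Z ≤ R →
      normalizer (R : Set G) ≤ normalizer (Z : Set G) → normalizer (Z : Set G) ≤ M := by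
    intro Z hZ0 hZR hNZ
    have hZtop : Z ≠ ⊤ := fun h => hM.1 (top_le_iff.mp (h ▸ hZR.trans hRM))
    have hNtop : normalizer (Z : Set G) ≠ ⊤ := normalizer_ne_top_of_simple hZ0 hZtop
    obtain ⟨L, hL, hNL⟩ := (eq_top_or_exists_le_coatom _).resolve_left hNtop
    by_cases hLM : L = M
    · exact hLM ▸ hNL
    · exfalso
      have := hmax L T' hL hLM (hBR.trans hRT') ((hT'N.trans hNZ).trans hNL)
        (hT'P.trans hPM) hT'p
      omega
  have hNZ : normalizer ((zL R : Subgroup G) : Set G) ≤ M :=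
    hchar (zL R) (zL_ne_bot hR hR0) (zL_le R) (normalizer_le_normalizer_zL R)
  have hNR : normalizer (R : Set G) ≤ M := (normalizer_le_normalizer_zL R).trans hNZ
  -- `R` is a Sylow subgroup of `H`
  have hRi : ¬ p ∣ R.relIndex H := by
    intro hd
    obtain ⟨y, hyH, hyN, hyR, hyp⟩ := exists_normalizing_of_dvd_relIndex hRH hR hd
    have := hmax H (R ⊔ zpowers y) hH hHM (hBR.trans le_sup_left)
      (sup_le hRH ((zpowers_le).mpr hyH)) (sup_le hRM ((zpowers_le).mpr (hNR hyN))) hyp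
    have h2 := card_lt_of_lt' (lt_sup_zpowers hyR)
    omega
  have hHs : Group.IsSolvable ↥H := isSolvable_of_ne_top hG hH.1
  have hodd : Odd (Nat.card ↥H) := odd_card_subgroup hG H
  have hKH : pPrimeCoreOf p H ≤ M :=
    hb _ (card_pPrimeCoreOf_coprime p H) ((hBR.trans hRH).trans (le_normalizer_pPrimeCoreOf p H))
  have hHleM : H ≤ M := by
    intro h hh
    obtain ⟨k, hk, n, -, hn, rfl⟩ := exists_mul_zL hp2 hHs hodd hRH hR hRi hh
    exact M.mul_mem (hKH hk) (hNZ hn)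
  exact hM.1 (hH.2 M (lt_of_le_of_ne hHleM hHM))


/-- the same, as membership in the class `U` -/
theorem inUniqueMaximal_of_inv_le' (hG : IsMinSimpleOddOrder G) {M : Subgroup G} (hM : IsCoatom M)
    {p : ℕ} [Fact p.Prime] {B : Subgroup G} (hBM : B ≤ M) (hBp : IsPGroup p B) (hB0 : B ≠ ⊥)
    (hb : ∀ Y : Subgroup G, (Nat.card Y).Coprime p → B ≤ normalizer (Y : Set G) → Y ≤ M) :
    Cfsg.InUniqueMaximal B :=
  ⟨M, ⟨hM, hBM⟩, fun H hH => uniq_of_inv_le' hG hM hBM hBp hB0 hb H hH.1 hH.2⟩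

end Cfsg.Agent.Lib.Helper56.BG95
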