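import Cfsg.Agent.Lib.Helper64.BG95Same
import Cfsg.Agent.Lib.Helper64.BG95Glue
import Cfsg.Agent.Lib.Helper47.BG95HI

set_option autoImplicit false

/-!
# BG 9.5: uniqueness of the hub (wrapper)

Two maximal subgroups `H`, `L` over `A ∈ SCN_3(P)` with `r_t(F(H)) ≥ 3`, `r_s(F(L)) ≥ 3`
(`t, s ≠ p`) coincide.  This file contains the wrapper that assembles the pieces.
-/

namespace Cfsg.Agent.Lib.Helper56.BG95

open Subgroup Cfsg

universe u

variable {G : Type u} [Group G] [Finite G]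

/-- From `¬ PRankLE p 2 A` we get an elementary abelian subgroup of `A` of order at least `p ^ 3`. -/
theorem exists_elemAb_of_not_pRankLE {p : ℕ} [Fact p.Prime] {A : Subgroup G}
    (hA3 : ¬ Cfsg.PRankLE p 2 ↥A) :
    ∃ B : Subgroup G, B ≤ A ∧ Cfsg.IsElementaryAbelian p B ∧ p ^ 3 ≤ Nat.card B := by
  have hp : p.Prime := Fact.out
  unfold Cfsg.PRankLE at hA3
  push Not at hA3
  obtain ⟨B', hB'c, hB'e, hB'card⟩ := hA3
  refine ⟨B'.map A.subtype, Subgroup.map_subtype_le B', ⟨inferInstance, ?_⟩, ?_⟩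
  · rintro _ ⟨a, ha, rfl⟩
    have := hB'e a ha
    simpa using congrArg Subtype.val this
  · have hcard : Nat.card (B'.map A.subtype) = Nat.card B' :=
      Subgroup.card_map_of_injective (Subgroup.subtype_injective A)
    rw [hcard]
    have hB'p : IsPGroup p B' := by
      intro x
      refine ⟨1, ?_⟩
      have := hB'e x.1 x.2
      rw [pow_one]
      exact Subtype.ext (by simpa using this)
    obtain ⟨k, hk⟩ := IsPGroup.iff_card.mp hB'p
    rw [hk] at hB'card ⊢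
    have : 2 < k := (Nat.pow_lt_pow_iff_right hp.one_lt).mp hB'card
    exact Nat.pow_le_pow_right hp.pos this

/-- The wrapper, with the four external inputs as hypotheses. -/
theorem hub_unique_of (hG : Cfsg.IsMinSimpleOddOrder G) {p : ℕ} [Fact p.Prime] (P : Sylow p G)
    {A : Subgroup G} (hA : Cfsg.IsSCN (P : Subgroup G) A) (hA3 : ¬ Cfsg.PRankLE p 2 ↥A)
    (hExE : ∀ {H : Subgroup G}, IsCoatom H → A ≤ H → ∀ {t : ℕ}, t.Prime → t ≠ p →
      ¬ Cfsg.PRankLE t 2 ↥(Cfsg.fittingOf H) →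
      ∃ E : Subgroup G, E ≤ H ∧ H ≤ normalizer (E : Set G) ∧ IsPGroup t E ∧
        (∀ x ∈ E, x ^ t = 1) ∧ ¬ IsCyclic E ∧
        ∀ U : Subgroup G, U ≤ E → ¬ IsCyclic U → ∀ M, IsCoatom M → U ≤ M → M = H)
    (hLink : ∀ {t1 t2 : ℕ}, t1.Prime → t2.Prime → p ≠ t1 → p ≠ t2 → t1 ≠ t2 →
      ∀ (B M1 M2 Z1 Z2 : Subgroup G), B ≤ A → Cfsg.IsElementaryAbelian p B →
      p ^ 3 ≤ Nat.card B →
      centralizer (A : Set G) ≤ M1 → centralizer (A : Set G) ≤ M2 →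
      M1 ≤ normalizer (Z1 : Set G) → IsPGroup t1 Z1 → (∀ x ∈ Z1, x ^ t1 = 1) → ¬ IsCyclic Z1 →
      (∀ B' H' : Subgroup G, B' ≤ Z1 → ¬ IsCyclic B' → B' ≤ H' → H' ≠ ⊤ → H' ≤ M1) →
      (∀ N : Subgroup G, IsPGroup t1 N → A ≤ normalizer (N : Set G) → N ≤ M1) →
      M2 ≤ normalizer (Z2 : Set G) → IsPGroup t2 Z2 → (∀ x ∈ Z2, x ^ t2 = 1) → ¬ IsCyclic Z2 →
      (∀ B' H' : Subgroup G, B' ≤ Z2 → ¬ IsCyclic B' → B' ≤ H' → H' ≠ ⊤ → H' ≤ M2) →
      (∀ N : Subgroup G, IsPGroup t2 N → A ≤ normalizer (N : Set G) → N ≤ M2) →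
      Z1 ≤ M2 ∨ Z2 ≤ M1)
    {H L : Subgroup G} (hH : IsCoatom H) (hL : IsCoatom L) (hAH : A ≤ H) (hAL : A ≤ L)
    {t s : ℕ} [Fact t.Prime] [Fact s.Prime] (htp : t ≠ p) (hsp : s ≠ p)
    (hHt : ¬ Cfsg.PRankLE t 2 ↥(Cfsg.fittingOf H))
    (hLs : ¬ Cfsg.PRankLE s 2 ↥(Cfsg.fittingOf L)) : H = L := by
  have hp : p.Prime := Fact.out
  have ht : t.Prime := Fact.out
  have hs : s.Prime := Fact.out
  have hAp : IsPGroup p A := P.2.to_le hA.1
  have hAc : IsMulCommutative A := Cfsg.Agent.Lib.Helper64.BG9.scn_abelian hA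
  have hAne : A ≠ ⊥ := by
    intro h0
    apply hA3
    intro B _ _
    have h1 : Nat.card B ≤ Nat.card A := Subgroup.card_le_card_group B
    have h2 : Nat.card A = 1 := by rw [h0]; exact Subgroup.card_bot
    rw [h2] at h1
    exact h1.trans (Nat.one_le_pow _ _ hp.pos)
  have hA1 : ¬ Cfsg.PRankLE p 1 ↥A := by
    intro h
    apply hA3
    intro B hBc hBe
    exact (h B hBc hBe).trans (Nat.pow_le_pow_right hp.pos (by norm_num))
  obtain ⟨n, hn⟩ := IsPGroup.iff_card.mp hAp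
  have hpG : p ∣ Nat.card G := by
    have hn0 : n ≠ 0 := by
      rintro rfl
      rw [pow_zero] at hn
      exact hAne (Subgroup.card_eq_one.mp hn)
    have : p ∣ Nat.card A := by rw [hn]; exact dvd_pow_self p hn0
    exact this.trans (Subgroup.card_subgroup_dvd_card A)
  have hnotdvd : ∀ {q : ℕ}, q.Prime → q ≠ p → ¬ q ∣ Nat.card A := by
    intro q hq hqp
    rw [hn]
    intro h
    exact hqp ((Nat.prime_dvd_prime_iff_eq hq hp).mp (hq.dvd_of_dvd_pow h))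
  have htA : ¬ t ∣ Nat.card A := hnotdvd ht htp
  have hsA : ¬ s ∣ Nat.card A := hnotdvd hs hsp
  have hTrans : Cfsg.TransitivityHypothesis A :=
    Cfsg.Agent.S1396.result hG p hpG A hAp hAc (Or.inr ⟨P, hA, hA1⟩)
  -- the elementary abelian subgroup of `A`
  obtain ⟨B, hBA, hBe, hB3⟩ := exists_elemAb_of_not_pRankLE hA3
  -- the subgroups `E`
  obtain ⟨E1, hE1H, hE1n, hE1t, hE1e, hE1nc, hU1⟩ := hExE hH hAH ht htp hHt
  obtain ⟨E2, hE2L, hE2n, hE2t, hE2e, hE2nc, hU2⟩ := hExE hL hAL hs hsp hLs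
  have hU1' : ∀ B' H' : Subgroup G, B' ≤ E1 → ¬ IsCyclic B' → B' ≤ H' → H' ≠ ⊤ → H' ≤ H := by
    intro B' H' hB' hnc hBH hH'
    obtain ⟨X, hX, hHX⟩ := Cfsg.Agent.Lib.Helper64.BG9.exists_coatom_ge hH'
    have := hU1 B' hB' hnc X hX (hBH.trans hHX)
    exact this ▸ hHX
  have hU2' : ∀ B' H' : Subgroup G, B' ≤ E2 → ¬ IsCyclic B' → B' ≤ H' → H' ≠ ⊤ → H' ≤ L := by
    intro B' H' hB' hnc hBH hH'
    obtain ⟨X, hX, hHX⟩ := Cfsg.Agent.Lib.Helper64.BG9.exists_coatom_ge hH'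
    have := hU2 B' hB' hnc X hX (hBH.trans hHX)
    exact this ▸ hHX
  have hCH : centralizer (A : Set G) ≤ H :=
    Cfsg.Agent.Lib.Helper64.centralizer_le_of_uniq hG (Ne.symm htp) hBA hBe hB3
      (hAH.trans hE1n) hE1t hE1e hE1nc hU1'
  have hCL : centralizer (A : Set G) ≤ L :=
    Cfsg.Agent.Lib.Helper64.centralizer_le_of_uniq hG (Ne.symm hsp) hBA hBe hB3
      (hAL.trans hE2n) hE2t hE2e hE2nc hU2'
  have hinf : A ⊓ centralizer (A : Set G) = A :=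
    inf_of_le_left (Cfsg.Agent.Lib.Helper64.BG9.self_le_centralizer hAc)
  have hZ : ¬ Cfsg.RankLE 2 ↥(A ⊓ centralizer (A : Set G)) := by
    rw [hinf]
    intro h
    exact hA3 (h p hp)
  have hKC : Cfsg.piCoreOf (Cfsg.primesNotDvd (Nat.card A)) (centralizer (A : Set G)) ≤
      centralizer (A : Set G) := Subgroup.map_subtype_le _
  have hKH := hKC.trans hCH
  have hKL := hKC.trans hCL
  by_cases hts : t = s
  · subst hts
    exact Cfsg.Agent.Lib.Helper64.same_prime hG P hA hA3 hH hL hAH hAL hKH htp hHt hLs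
  · have hI1 := Cfsg.Agent.Lib.Helper47.BG95.inv_pSubgroup_le hG hTrans hZ ht htA hKH hE1t
      (hAH.trans hE1n) (fun H' hEH' hH' => hU1' E1 H' le_rfl hE1nc hEH' hH')
    have hI2 := Cfsg.Agent.Lib.Helper47.BG95.inv_pSubgroup_le hG hTrans hZ hs hsA hKL hE2t
      (hAL.trans hE2n) (fun H' hEH' hH' => hU2' E2 H' le_rfl hE2nc hEH' hH')
    rcases hLink ht hs (Ne.symm htp) (Ne.symm hsp) hts B H L E1 E2 hBA hBe hB3 hCH hCL
      hE1n hE1t hE1e hE1nc hU1' hI1 hE2n hE2t hE2e hE2nc hU2' hI2 with h | h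
    · exact (hU1 E1 le_rfl hE1nc L hL h).symm
    · exact hU2 E2 le_rfl hE2nc H hH h

end Cfsg.Agent.Lib.Helper56.BG95
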