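import Cfsg.Agent.Lib.Helper56.BG117A
import Cfsg.Agent.Lib.Helper47.BG11a
import Cfsg.Agent.Lib.Helper23.MaxLocalFit
import Cfsg.Agent.Lib.Helper24.Coprime

set_option autoImplicit false
set_option linter.style.haveILetI false
set_option linter.unusedSectionVars false

/-!
# B&G Theorem 11.7, reduction step (R2a)

From `(*)` (`A` centralizes `O_q(M)` for every prime `q ∉ σ(M)`) to: `A` centralizes every
`A`-invariant `r`-subgroup of `M`, `r ∉ σ(M)`, `r ≠ p`.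
-/

namespace Cfsg.Agent.Lib.Helper56.BG117

open Subgroup Cfsg Cfsg.Agent.Lib.Helper47.BG11

universe u

variable {G : Type u} [Group G] [Finite G]

/-- A subgroup of prime order is contained in any subgroup containing one of its nontrivial
elements. -/
theorem le_of_mem_of_card_prime {Y S : Subgroup G} {p : ℕ} [hp : Fact p.Prime]
    (hY : Nat.card Y = p) {y : G} (hyY : y ∈ Y) (hy1 : y ≠ 1) (hyS : y ∈ S) : Y ≤ S := by
  have h1 : Nat.card (Y ⊓ S : Subgroup G) ∣ p := hY ▸ Subgroup.card_dvd_of_le inf_le_left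
  rcases (Nat.dvd_prime hp.out).mp h1 with h | h
  · exfalso
    have : (Y ⊓ S : Subgroup G) = ⊥ := Subgroup.card_eq_one.mp h
    have hmem : y ∈ (Y ⊓ S : Subgroup G) := ⟨hyY, hyS⟩
    rw [this, mem_bot] at hmem
    exact hy1 hmem
  · have : (Y ⊓ S : Subgroup G) = Y :=
      Subgroup.eq_of_le_of_card_ge inf_le_left (by rw [h, hY])
    rw [← this]
    exact inf_le_right

/-- Two distinct subgroups of order `p` of a group of order `p ^ 2` generate it. -/
theorem sup_eq_of_card_prime {A A₁ A₂ : Subgroup G} {p : ℕ} [hp : Fact p.Prime]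
    (hA : Nat.card A = p ^ 2) (h1 : A₁ ≤ A) (h2 : A₂ ≤ A) (hc1 : Nat.card A₁ = p)
    (hc2 : Nat.card A₂ = p) (hne : A₁ ≠ A₂) : A₁ ⊔ A₂ = A := by
  have hle : A₁ ⊔ A₂ ≤ A := sup_le h1 h2
  have hd : Nat.card (A₁ ⊔ A₂ : Subgroup G) ∣ p ^ 2 := hA ▸ Subgroup.card_dvd_of_le hle
  obtain ⟨k, hk2, hk⟩ := (Nat.dvd_prime_pow hp.out).mp hd
  have hp1 : p ∣ Nat.card (A₁ ⊔ A₂ : Subgroup G) :=
    hc1 ▸ Subgroup.card_dvd_of_le (le_sup_left : A₁ ≤ A₁ ⊔ A₂)
  have hk0 : k ≠ 0 := by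
    rintro rfl
    rw [hk, pow_zero] at hp1
    exact hp.out.one_lt.ne' (Nat.dvd_one.mp hp1)
  have hk1 : k ≠ 1 := by
    rintro rfl
    rw [pow_one] at hk
    have e1 : A₁ = A₁ ⊔ A₂ := Subgroup.eq_of_le_of_card_ge le_sup_left (by rw [hk, hc1])
    have e2 : A₂ = A₁ ⊔ A₂ := Subgroup.eq_of_le_of_card_ge le_sup_right (by rw [hk, hc2])
    exact hne (e1.trans e2.symm)
  have hk2' : k = 2 := by omega
  subst hk2'
  exact Subgroup.eq_of_le_of_card_ge hle (by rw [hk, hA])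

/-- One fixed-point-free line: `A₁ ≤ A` of order `p` with `C_{M_σ}(A₁) = 1` centralizes every
`A`-invariant `r`-subgroup of `M` (`r ∉ σ(M)`, `r ≠ p`), given `(*)`. -/
theorem line_cent (hG : IsMinSimpleOddOrder G) {M A₀ A : Subgroup G} {p : ℕ} [hp : Fact p.Prime]
    (e : Exc M p A₀ A) (hσ : SigmaHallIn M)
    (hstar : ∀ q : ℕ, q.Prime → q ∉ sigma M →
      A ≤ centralizer ((Cfsg.Agent.Lib.Helper23.pCoreOf q M : Subgroup G) : Set G))
    {A₁ : Subgroup G} (hA₁ : A₁ ≤ A) (hc₁ : Nat.card A₁ = p)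
    (hf₁ : sigmaCore M ⊓ centralizer (A₁ : Set G) = ⊥)
    {r : ℕ} (hr : r.Prime) (hrσ : r ∉ sigma M) (hrp : r ≠ p) {R : Subgroup G} (hRM : R ≤ M)
    (hR : IsPGroup r R) (hAR : A ≤ normalizer (R : Set G)) : A₁ ≤ centralizer (R : Set G) := by
  haveI : Fact r.Prime := ⟨hr⟩
  have hMtop : M ≠ ⊤ := e.coatom.1
  haveI hMsolv : Group.IsSolvable ↥M := Cfsg.Agent.Lib.Helper23.isSolvable_of_ne_top hG hMtop
  have hodd : Odd (Nat.card G) := hG.1
  obtain ⟨N, hNdef⟩ : ∃ N, N = sigmaCore M := ⟨_, rfl⟩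
  have hNM : N ≤ M := hNdef ▸ sigmaCore_le M
  have hMN : M ≤ normalizer (N : Set G) := hNdef ▸ Cfsg.Agent.Lib.Helper24.BG.le_normalizer_sigmaCore M
  have hNr : ¬ r ∣ Nat.card N := fun h => hrσ (mem_sigma_of_dvd_card_le (hNdef ▸ le_rfl) hr (hNdef ▸ h))
  have hNp : ¬ p ∣ Nat.card N := fun h =>
    e.notSigma (mem_sigma_of_dvd_card_le (hNdef ▸ le_rfl) hp.out (hNdef ▸ h))
  have hA₁M : A₁ ≤ M := hA₁.trans e.le
  have hA₁R : A₁ ≤ normalizer (R : Set G) := hA₁.trans hAR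
  obtain ⟨T, hTdef⟩ : ∃ T, T = ⁅R, A₁⁆ := ⟨_, rfl⟩
  have hTR : T ≤ R := hTdef ▸ Cfsg.Agent.Lib.Helper24.commutator_le_of_le_normalizer R A₁ hA₁R
  have hTM : T ≤ M := hTR.trans hRM
  -- (1) `T` centralizes `N`
  have hTN : T ≤ centralizer (N : Set G) := by
    rw [hTdef, Subgroup.commutator_le]
    intro u hu y hy
    rw [commutatorElement_def]
    by_cases hy1 : y = 1
    · subst hy1
      simp
    have hyp : y ^ p = 1 := by
      have := pow_card_eq_one' (G := A₁) (x := ⟨y, hy⟩)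
      rw [hc₁] at this
      simpa using congrArg Subtype.val this
    have hsolv : Group.IsSolvable ↥(N ⊔ R ⊔ zpowers y : Subgroup G) := by
      have hle : N ⊔ R ⊔ zpowers y ≤ M :=
        sup_le (sup_le hNM hRM) (zpowers_le.mpr (hA₁M hy))
      exact Group.isSolvable_of_isSolvable_injective (f := Subgroup.inclusion hle)
        (Subgroup.inclusion_injective hle)
    refine comm_mem_centralizer_of_fpf hodd hrp (hRM.trans hMN) hR hNr hNp hyp
      (hMN (hA₁M hy)) (hA₁R hy) hsolv ?_ u hu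
    intro n hn hcomm
    have h1 : A₁ ≤ centralizer ({n} : Set G) := by
      apply le_of_mem_of_card_prime hc₁ hy hy1
      rw [mem_centralizer_singleton_iff]
      exact hcomm
    have h2 : n ∈ sigmaCore M ⊓ centralizer (A₁ : Set G) := by
      refine ⟨hNdef ▸ hn, ?_⟩
      show n ∈ centralizer (A₁ : Set G)
      rw [mem_centralizer_iff]
      intro a ha
      exact mem_centralizer_singleton_iff.mp (h1 ha)
    rw [hf₁, mem_bot] at h2
    exact h2
  -- (2) `T` centralizes every `O_q(M)`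
  have hTq : ∀ (q : ℕ) [Fact q.Prime],
      Cfsg.Agent.Lib.Helper23.pCoreOf q M ≤ centralizer (T : Set G) := by
    intro q hq
    rw [Subgroup.le_centralizer_iff]
    by_cases hqσ : q ∈ sigma M
    · have h1 : Cfsg.Agent.Lib.Helper23.pCoreOf q M ≤ N := by
        rw [hNdef]
        exact le_sigmaCore_of_sigma hσ hqσ (Cfsg.Agent.Lib.Helper23.pCoreOf_le q M)
          (Cfsg.Agent.Lib.Helper23.isPGroup_pCoreOf q M)
      exact hTN.trans (Subgroup.centralizer_le h1)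
    · have hAq := hstar q hq.out hqσ
      have hA₁q : A₁ ≤ centralizer ((Cfsg.Agent.Lib.Helper23.pCoreOf q M : Subgroup G) : Set G) :=
        hA₁.trans hAq
      have hRq : R ≤ normalizer ((Cfsg.Agent.Lib.Helper23.pCoreOf q M : Subgroup G) : Set G) :=
        hRM.trans (Cfsg.Agent.Lib.Helper23.le_normalizer_pCoreOf q M)
      have h1 : ⁅⁅A₁, Cfsg.Agent.Lib.Helper23.pCoreOf q M⁆, R⁆ = ⊥ := by
        rw [(Subgroup.commutator_eq_bot_iff_le_centralizer).mpr hA₁q, Subgroup.commutator_bot_left]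
      have h2 : ⁅⁅Cfsg.Agent.Lib.Helper23.pCoreOf q M, R⁆, A₁⁆ = ⊥ := by
        rw [eq_bot_iff]
        have h3 : ⁅Cfsg.Agent.Lib.Helper23.pCoreOf q M, R⁆ ≤ Cfsg.Agent.Lib.Helper23.pCoreOf q M :=
          Cfsg.Agent.Lib.Helper24.commutator_le_of_le_normalizer _ R hRq
        have h4 : ⁅Cfsg.Agent.Lib.Helper23.pCoreOf q M, A₁⁆ = ⊥ := by
          rw [Subgroup.commutator_comm]
          exact (Subgroup.commutator_eq_bot_iff_le_centralizer).mpr hA₁q
        calc ⁅⁅Cfsg.Agent.Lib.Helper23.pCoreOf q M, R⁆, A₁⁆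
            ≤ ⁅Cfsg.Agent.Lib.Helper23.pCoreOf q M, A₁⁆ := Subgroup.commutator_mono h3 le_rfl
          _ = ⊥ := h4
      have h3 := Subgroup.commutator_commutator_eq_bot_of_rotate h1 h2
      rw [hTdef]
      exact (Subgroup.commutator_eq_bot_iff_le_centralizer).mp h3
  -- (3) `T ≤ F(M)`, hence `T ≤ O_r(M)`
  have hTF : T ≤ centralizer ((fittingOf M : Subgroup G) : Set G) := by
    rw [Subgroup.le_centralizer_iff]
    exact Cfsg.Agent.Lib.Helper23.fittingOf_le_of_pCoreOf_le (fun q _ => hTq q)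
  have hTfit : T ≤ fittingOf M := by
    have h1 := Cfsg.Agent.Lib.Helper23.centralizer_fittingOf_inf_le (H := M) (S := M) hMsolv
      (inf_le_left.trans le_normalizer)
    exact (le_inf (le_inf hTM hTF) hTM).trans h1
  have hTr : T ≤ Cfsg.Agent.Lib.Helper23.pCoreOf r M := by
    intro x hx
    obtain ⟨k, hk⟩ := (hR.to_le hTR) ⟨x, hx⟩
    have hk' : x ^ (r ^ k) = 1 := by
      have := congrArg Subtype.val hk
      simpa using this
    exact Cfsg.Agent.Lib.Helper23.mem_pCoreOf_of_mem_fittingOf (hTfit hx) hk'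
  -- (4) `A₁` centralizes `T`, so `T = [T, A₁] = 1`
  have hA₁T : A₁ ≤ centralizer (T : Set G) :=
    (hA₁.trans (hstar r hr hrσ)).trans (Subgroup.centralizer_le hTr)
  have hTA₁ : ⁅T, A₁⁆ = ⊥ :=
    (Subgroup.commutator_eq_bot_iff_le_centralizer).mpr (Subgroup.le_centralizer_iff.mp hA₁T)
  have hcop : (Nat.card A₁).Coprime (Nat.card R) := by
    obtain ⟨k, hk⟩ := IsPGroup.iff_card.mp hR
    rw [hc₁, hk]
    exact Nat.Coprime.pow_right k ((Nat.coprime_primes hp.out hr).mpr (Ne.symm hrp))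
  have hA₁solv : Group.IsSolvable ↥A₁ :=
    Group.isSolvable_of_isSolvable_injective (f := Subgroup.inclusion hA₁M)
      (Subgroup.inclusion_injective hA₁M)
  have hcc := Cfsg.Agent.Lib.Helper24.commutator_commutator_eq A₁ R hA₁R hcop (Or.inl hA₁solv)
  rw [← hTdef, hTA₁] at hcc
  have hRA₁ : ⁅R, A₁⁆ = ⊥ := by rw [← hTdef]; exact hcc.symm
  exact Subgroup.le_centralizer_iff.mp ((Subgroup.commutator_eq_bot_iff_le_centralizer).mp hRA₁)

/-- **(R2a).** From `(*)` to: `A` centralizes every `A`-invariant `r`-subgroup of `M`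
(`r ∉ σ(M)`, `r ≠ p`). -/
theorem hcent (hG : IsMinSimpleOddOrder G) {M A₀ A : Subgroup G} {p : ℕ} [hp : Fact p.Prime]
    (e : Exc M p A₀ A) (hσ : SigmaHallIn M)
    (hfpf : ∃ A₁ A₂ : Subgroup G, A₁ ≤ A ∧ A₂ ≤ A ∧ Nat.card A₁ = p ∧ Nat.card A₂ = p ∧ A₁ ≠ A₂ ∧
      sigmaCore M ⊓ centralizer (A₁ : Set G) = ⊥ ∧ sigmaCore M ⊓ centralizer (A₂ : Set G) = ⊥)
    (hstar : ∀ q : ℕ, q.Prime → q ∉ sigma M →
      A ≤ centralizer ((Cfsg.Agent.Lib.Helper23.pCoreOf q M : Subgroup G) : Set G)) :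
    ∀ r : ℕ, r.Prime → r ∉ sigma M → r ≠ p → ∀ R : Subgroup G, R ≤ M → IsPGroup r R →
      A ≤ normalizer (R : Set G) → A ≤ centralizer (R : Set G) := by
  intro r hr hrσ hrp R hRM hR hAR
  obtain ⟨A₁, A₂, h1, h2, hc1, hc2, hne, hf1, hf2⟩ := hfpf
  have hsup := sup_eq_of_card_prime e.card h1 h2 hc1 hc2 hne
  rw [← hsup]
  exact sup_le (line_cent hG e hσ hstar h1 hc1 hf1 hr hrσ hrp hRM hR hAR)
    (line_cent hG e hσ hstar h2 hc2 hf2 hr hrσ hrp hRM hR hAR)

end Cfsg.Agent.Lib.Helper56.BG117
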