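import Cfsg.Agent.Lib.Helper56.BG125
import Cfsg.Agent.Lib.Helper19.BG124d
import Cfsg.Agent.Lib.Helper47.BG11e
import Cfsg.Agent.S1408

set_option autoImplicit false
set_option linter.style.haveILetI false
set_option linter.unusedSectionVars false

/-!
# Bender–Glauberman Theorem 12.5 from B&G 11.7 alone

`sec11_of_117` packages helper47's unconditional §11 results (11.3 – 11.6) and `Stmt117 G`
(B&G Theorem 11.7) into the structure `Sec11 G`; `thm_12_5_of_117` is the statement of S1417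
from `Stmt117 G`.
-/

namespace Cfsg.Agent.Lib.Helper56.BG125

open Subgroup Cfsg Cfsg.Agent.Lib.Helper47.BG11

universe u

variable {G : Type u} [Group G] [Finite G]

theorem sec11_of_117 (hG : IsMinSimpleOddOrder G)
    (h117 : Cfsg.Agent.Lib.Helper32.BG12.Stmt117 G) : Sec11 G where
  nil := fun e => e.bg_11_3 hG
  uniq := fun e H hH hAH hne => e.bg_11_4 hG hH hAH hne
  syl := by
    intro M A₀ A p _ e P
    obtain ⟨hPM, hPp, hPi⟩ := Cfsg.Agent.Lib.Helper24.sylow_map_facts M P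
    have hab := e.bg_11_5_any hG hPp hPM hPi
    refine ⟨⟨⟨fun a b => ?_⟩⟩, ?_⟩
    · apply Subtype.ext
      apply Subtype.ext
      exact hab _ ⟨a.1, a.2, rfl⟩ _ ⟨b.1, b.2, rfl⟩
    · intro hAP
      have h5 := e.bg_11_5 hG hPp hPM hPi hAP
      refine ⟨fun x hx => ⟨fun hxp => h5.2 x hx hxp, fun hxA => e.elem.2 x hxA⟩, ?_⟩
      intro hle
      obtain ⟨g, hg, hgM⟩ := e.exists_outer_of hPp hPM hPi
      exact hgM (hle hg)
  cent := fun e => e.bg_11_6_b hG
  reg := by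
    intro M A₀ A p _ e
    obtain ⟨A₁, _, h1, _, hc1, _, _, hf1, _⟩ := e.bg_11_6_c hG
    exact ⟨A₁, h1, hc1, hf1⟩
  norm := fun e => h117 e

/-- The statement of S1417 (B&G Theorem 12.5) from B&G Theorem 11.7. -/
theorem thm_12_5_of_117 (hG : IsMinSimpleOddOrder G)
    (h117 : Cfsg.Agent.Lib.Helper32.BG12.Stmt117 G)
    (M : Subgroup G) (hM : IsCoatom M) (p : ℕ) [Fact p.Prime] (hp : p ∈ Cfsg.tau2 M)
    (A : Subgroup G) (hA : A ≤ M ∧ Cfsg.IsElementaryAbelian p A ∧ Nat.card A = p ^ 2) :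
    Group.IsNilpotent (Cfsg.sigmaCore M) ∧
      (∀ P : Sylow p M, IsMulCommutative (P : Subgroup M) ∧
        (A ≤ (P : Subgroup M).map M.subtype →
          (∀ x ∈ (P : Subgroup M).map M.subtype, x ^ p = 1 ↔ x ∈ A) ∧
          ¬ Subgroup.normalizer ((((P : Subgroup M).map M.subtype : Subgroup G)) : Set G) ≤ M)) ∧
      M ≤ Subgroup.normalizer ((Cfsg.sigmaCore M ⊔ A : Subgroup G) : Set G) ∧
      Cfsg.sigmaCore M ⊓ Subgroup.centralizer (A : Set G) = ⊥ ∧
      (∀ Mstar : Subgroup G, IsCoatom Mstar → Mstar ≠ M → A ≤ Mstar →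
        Cfsg.sigmaCore M ⊓ Mstar = ⊥) ∧
      ∃ A₁ : Subgroup G, A₁ ≤ A ∧ Nat.card A₁ = p ∧
        Cfsg.sigmaCore M ⊓ Subgroup.centralizer (A₁ : Set G) = ⊥ :=
  thm_12_5 hG
    (fun M hM p _ A hA => Cfsg.Agent.Lib.Helper19.BG124.bg124_of_117 hG h117 M hM p A hA)
    (fun M hM p _ hp h2 h1 => (Cfsg.Agent.S1408.result hG M hM p hp h2 h1).2)
    (fun M hM => sigmaHallIn_of_coatom hG hM)
    (sec11_of_117 hG h117) M hM p hp A hA

end Cfsg.Agent.Lib.Helper56.BG125
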