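import Cfsg.Agent.Lib.Helper56.BG143

set_option autoImplicit false
set_option linter.style.haveILetI false
set_option linter.unusedSectionVars false
set_option linter.unusedVariables false

/-!
# Bender–Glauberman Lemma 14.1(a): Hall `κ(M)`-subgroups exist and are cyclic (S1351)

`StmtA G` is the statement `κ(M) ∩ τ₃(M) = ∅` for every maximal subgroup `M`
(BG 13.10–13.13 / 14.1(b)).  From it the cyclicity of every Hall `κ(M)`-subgroup is elementary:
`K ∩ M' = 1` (no prime of `κ(M) ⊆ τ₁(M)` divides `|M'|`), so `K` is abelian, and all Sylow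
subgroups of `K` are cyclic.
-/

namespace Cfsg.Agent.Lib.Helper56.BG141

open Subgroup Cfsg
open scoped Pointwise commutatorElement

universe u

variable {G : Type u} [Group G] [Finite G]

/-- `κ(M) ∩ τ₃(M) = ∅` for all maximal subgroups -/
def StmtA (G : Type u) [Group G] : Prop :=
  ∀ M : Subgroup G, IsCoatom M → ∀ p : ℕ, p ∈ kappa M → p ∉ tau3 M

/-- all Sylow `p`-subgroups cyclic implies `p`-rank at most one -/
theorem pRankLE_one_of_sylow_cyclic {T : Type*} [Group T] [Finite T] {p : ℕ} (hp : p.Prime)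
    (h : ∀ P : Sylow p T, IsCyclic P) : PRankLE p 1 T := by
  haveI : Fact p.Prime := ⟨hp⟩
  intro A hAc hAe
  have hAp : IsPGroup p A := by
    intro a
    refine ⟨1, ?_⟩
    apply Subtype.ext
    rw [pow_one]
    simpa using hAe a a.2
  obtain ⟨P, hAP⟩ := hAp.exists_le_sylow
  have hPc : IsCyclic P := h P
  have h1 := Cfsg.Agent.Lib.Helper63.BG13.pRankLE_one_of_isCyclic (T := ↥(P : Subgroup T)) hp hPc
  have h2 := h1 (A.subgroupOf P) ?_ ?_
  · rwa [Nat.card_congr (Subgroup.subgroupOfEquivOfLe hAP).toEquiv] at h2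
  · refine ⟨⟨fun a b => ?_⟩⟩
    apply Subtype.ext
    apply Subtype.ext
    have := hAc.is_comm.comm ⟨a.1.1, a.2⟩ ⟨b.1.1, b.2⟩
    have h3 : (a.1.1 : T) * b.1.1 = b.1.1 * a.1.1 := congrArg Subtype.val this
    simpa using h3
  · intro a ha
    apply Subtype.ext
    have := hAe a.1 ha
    simpa using this

/-- under `StmtA`, every prime of `κ(M)` lies in `τ₁(M)` -/
theorem kappa_subset_tau1 (hA : StmtA G) {M : Subgroup G} (hM : IsCoatom M) {p : ℕ}
    (hp : p ∈ kappa M) : p ∈ tau1 M := by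
  obtain ⟨hpp, hpM, hpσ, hS⟩ := hp
  have hr : PRankLE p 1 M := pRankLE_one_of_sylow_cyclic hpp (fun P => (hS P).1)
  refine ⟨hpp, hpσ, hpM, ?_, hr⟩
  intro hd
  exact hA M hM p ⟨hpp, hpM, hpσ, hS⟩ ⟨hpp, hpσ, hd, hr⟩

/-- BG 14.1(a): under `StmtA`, every Hall `κ(M)`-subgroup is cyclic -/
theorem hall_kappa_cyclic (hA : StmtA G) {M : Subgroup G} (hM : IsCoatom M) {K : Subgroup G}
    (hK : IsPiHallOf (kappa M) K M) : IsCyclic K := by
  classical
  obtain ⟨hKM, hKκ, -⟩ := hK
  -- `K ∩ M' = 1`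
  have hinf : K ⊓ ⁅M, M⁆ = ⊥ := by
    rw [← Subgroup.card_eq_one]
    by_contra hne
    obtain ⟨p, hp, hpd⟩ := Nat.exists_prime_and_dvd hne
    have h1 : p ∣ Nat.card K := hpd.trans (Subgroup.card_dvd_of_le inf_le_left)
    have h2 : p ∣ Nat.card ↥⁅M, M⁆ := hpd.trans (Subgroup.card_dvd_of_le inf_le_right)
    exact (kappa_subset_tau1 hA hM (hKκ p hp h1)).2.2.2.1 h2
  -- `K` is abelian
  have hcomm : ∀ a ∈ K, ∀ b ∈ K, a * b = b * a := by
    intro a ha b hb
    have h1 : ⁅a, b⁆ ∈ K ⊓ ⁅M, M⁆ :=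
      ⟨K.mul_mem (K.mul_mem (K.mul_mem ha hb) (K.inv_mem ha)) (K.inv_mem hb),
        Subgroup.commutator_mem_commutator (hKM ha) (hKM hb)⟩
    rw [hinf, Subgroup.mem_bot] at h1
    exact (commutatorElement_eq_one_iff_mul_comm.1 h1)
  letI : CommGroup ↥K :=
    { (inferInstance : Group ↥K) with
      mul_comm := fun a b => Subtype.ext (hcomm a.1 a.2 b.1 b.2) }
  haveI : Group.IsNilpotent ↥K := CommGroup.isNilpotent
  -- all Sylow subgroups of `K` are cyclic
  haveI : IsZGroup ↥K := by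
    refine ⟨fun p hp P => ?_⟩
    haveI : Fact p.Prime := ⟨hp⟩
    by_cases hpd : p ∣ Nat.card K
    · have hκ := hKκ p hp hpd
      -- the image of `P` in `M`
      let f : ↥K →* ↥M := Subgroup.inclusion hKM
      have hf : Function.Injective f := Subgroup.inclusion_injective hKM
      have hPp : IsPGroup p ((P : Subgroup ↥K).map f) := P.2.map f
      obtain ⟨Q, hPQ⟩ := hPp.exists_le_sylow
      have hQc : IsCyclic Q := (hκ.2.2.2 Q).1
      have e1 : ↥(P : Subgroup ↥K) ≃* ↥((P : Subgroup ↥K).map f) :=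
        (P : Subgroup ↥K).equivMapOfInjective f hf
      have hc2 : IsCyclic ↥(((P : Subgroup ↥K).map f).subgroupOf Q) := Subgroup.isCyclic _
      have e2 := (Subgroup.subgroupOfEquivOfLe hPQ)
      have hc3 : IsCyclic ↥((P : Subgroup ↥K).map f) :=
        isCyclic_of_surjective e2.toMonoidHom e2.surjective
      exact isCyclic_of_surjective e1.symm.toMonoidHom e1.symm.surjective
    · -- trivial Sylow
      have h1 : Nat.card (P : Subgroup ↥K) = 1 := by
        obtain ⟨n, hn⟩ := IsPGroup.iff_card.1 P.2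
        rcases Nat.eq_zero_or_pos n with h0 | h0
        · rw [hn, h0, pow_zero]
        · exfalso
          apply hpd
          have : p ∣ Nat.card (P : Subgroup ↥K) := by rw [hn]; exact dvd_pow_self p h0.ne'
          exact this.trans (Subgroup.card_subgroup_dvd_card _)
      haveI : Subsingleton ↥(P : Subgroup ↥K) := (Nat.card_eq_one_iff_unique.1 h1).1
      exact isCyclic_of_subsingleton
  infer_instance

/-- existence of Hall `π`-subgroups in a maximal subgroup (it is solvable) -/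
theorem exists_hall (hG : IsMinSimpleOddOrder G) {M : Subgroup G} (hM : IsCoatom M) (π : Set ℕ) :
    ∃ K : Subgroup G, IsPiHallOf π K M := by
  obtain ⟨m, m', hmm, hm, hm'⟩ :=
    Cfsg.Agent.Lib.Helper56.BG143.exists_pi_part π (Nat.card M) Nat.card_pos
  have hcop : m.Coprime m' := Nat.coprime_of_dvd (fun k hk h1 h2 => hm' k hk (hm k hk h1) h2)
  haveI : Group.IsSolvable ↥M := Cfsg.Agent.Lib.Helper23.isSolvable_of_ne_top hG hM.1
  obtain ⟨H, hHM, hHcard, -⟩ :=
    Cfsg.Agent.Lib.Helper68.BG1215.hall_exists_ge m m' hmm hcop (bot_le : (⊥ : Subgroup G) ≤ M)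
      (by rw [Subgroup.card_bot]; exact Nat.coprime_one_left _)
  refine ⟨H, hHM, ?_, ?_⟩
  · rw [hHcard]; exact hm
  · intro p hp hpπ hd
    have h1 : Nat.card H * H.relIndex M = Nat.card M := by
      have := Subgroup.relIndex_mul_relIndex (⊥ : Subgroup G) H M bot_le hHM
      rwa [Subgroup.relIndex_bot_left, Subgroup.relIndex_bot_left] at this
    rw [hHcard, hmm] at h1
    have hmpos : 0 < m := by
      rcases Nat.eq_zero_or_pos m with h0 | h0
      · rw [h0, zero_mul] at hmm
        exact absurd hmm Nat.card_pos.ne'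
      · exact h0
    have h2 : H.relIndex M = m' := Nat.eq_of_mul_eq_mul_left hmpos h1
    rw [h2] at hd
    exact hm' p hp hpπ hd

/-- S1351 from `StmtA` -/
theorem s1351 (hG : IsMinSimpleOddOrder G) (hA : StmtA G) (M : Subgroup G) (hM : IsCoatom M) :
    (∃ K : Subgroup G, IsPiHallOf (kappa M) K M) ∧
      ∀ K : Subgroup G, IsPiHallOf (kappa M) K M → IsCyclic K :=
  ⟨exists_hall hG hM (kappa M), fun K hK => hall_kappa_cyclic hA hM hK⟩

end Cfsg.Agent.Lib.Helper56.BG141
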