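import Cfsg.Agent.Lib.Helper56.BG143
import Cfsg.Agent.Lib.Helper19.BG14A

set_option autoImplicit false
set_option linter.style.haveILetI false
set_option linter.unusedSectionVars false
set_option linter.unusedVariables false

/-!
# Bender–Glauberman Theorem 14.3, part 2: the set `Ẑ = K K* ∖ (K ∪ K*)` and the counting argument
-/

namespace Cfsg.Agent.Lib.Helper56.BG143

open Subgroup Cfsg
open scoped Pointwise commutatorElement

universe u

variable {G : Type u} [Group G] [Finite G]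

open Cfsg.Agent.Lib.Helper48 in
omit [Finite G] in
/-- `Ẑ = K# · C#` -/
theorem zhat_eq {K C : Subgroup G} (hc : ∀ k ∈ K, ∀ c ∈ C, k * c = c * k)
    (hbot : ∀ x, x ∈ K → x ∈ C → x = 1) :
    (↑(K ⊔ C) : Set G) \ ((K : Set G) ∪ ↑C) = TICount.prodSharp K C := by
  ext x
  constructor
  · rintro ⟨hx, hn⟩
    obtain ⟨t, ht, k, hk, rfl⟩ := TICount.mem_sup_of_commute hc hx
    refine ⟨t, ht, ?_, k, hk, ?_, rfl⟩
    · rintro rfl
      exact hn (Or.inr (by simpa using hk))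
    · rintro rfl
      exact hn (Or.inl (by simpa using ht))
  · rintro ⟨t, ht, ht1, k, hk, hk1, rfl⟩
    refine ⟨(K ⊔ C).mul_mem ((le_sup_left : K ≤ K ⊔ C) ht) ((le_sup_right : C ≤ K ⊔ C) hk), ?_⟩
    rintro (h | h)
    · have h1 : k ∈ K := by
        have := K.mul_mem (K.inv_mem ht) h
        simpa using this
      exact hk1 (hbot k h1 hk)
    · have h1 : t ∈ C := by
        have := C.mul_mem h (C.inv_mem hk)
        simpa using this
      exact ht1 (hbot t ht h1)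

open Cfsg.Agent.Lib.Helper48 in
/-- the order of `K C` for commuting subgroups of coprime orders -/
theorem card_sup_of_coprime {K C : Subgroup G} (hc : ∀ k ∈ K, ∀ c ∈ C, k * c = c * k)
    (hcop : (Nat.card K).Coprime (Nat.card C)) :
    Nat.card ↥(K ⊔ C) = Nat.card K * Nat.card C := by
  apply le_antisymm (TICount.card_sup_le_of_commute hc)
  apply Nat.le_of_dvd Nat.card_pos
  exact Nat.Coprime.mul_dvd_of_dvd_of_dvd hcop (Subgroup.card_dvd_of_le le_sup_left)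
    (Subgroup.card_dvd_of_le le_sup_right)

open Cfsg.Agent.Lib.Helper48 in
/-- the product of two commuting cyclic subgroups of coprime orders is cyclic -/
theorem isCyclic_sup {K C : Subgroup G} (hK : IsCyclic K) (hC : IsCyclic C)
    (hc : ∀ k ∈ K, ∀ c ∈ C, k * c = c * k) (hcop : (Nat.card K).Coprime (Nat.card C)) :
    IsCyclic ↥(K ⊔ C) := by
  obtain ⟨⟨a, ha⟩, hag⟩ := hK.exists_generator
  obtain ⟨⟨b, hb⟩, hbg⟩ := hC.exists_generator
  have hoa : orderOf a = Nat.card K := by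
    rw [← Subgroup.orderOf_mk a ha]
    exact orderOf_eq_card_of_forall_mem_zpowers hag
  have hob : orderOf b = Nat.card C := by
    rw [← Subgroup.orderOf_mk b hb]
    exact orderOf_eq_card_of_forall_mem_zpowers hbg
  have hab : Commute a b := hc a ha b hb
  have ho : orderOf (a * b) = Nat.card K * Nat.card C := by
    rw [hab.orderOf_mul_eq_mul_orderOf_of_coprime (by rw [hoa, hob]; exact hcop), hoa, hob]
  have hmem : a * b ∈ K ⊔ C :=
    (K ⊔ C).mul_mem ((le_sup_left : K ≤ K ⊔ C) ha) ((le_sup_right : C ≤ K ⊔ C) hb)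
  apply isCyclic_of_orderOf_eq_card (⟨a * b, hmem⟩ : ↥(K ⊔ C))
  rw [Subgroup.orderOf_mk, ho, card_sup_of_coprime hc hcop]

theorem three_le_card (hG : IsMinSimpleOddOrder G) {K : Subgroup G} (hK1 : K ≠ ⊥) :
    3 ≤ Nat.card K := by
  have h1 : Nat.card K ≠ 1 := fun h => hK1 (Subgroup.card_eq_one.1 h)
  have h2 : Odd (Nat.card K) := Cfsg.Agent.Lib.Helper23.odd_card_subgroup hG K
  have h3 : 0 < Nat.card K := Nat.card_pos
  obtain ⟨k, hk⟩ := h2
  omega

namespace Pair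

variable {M Ms K Ks : Subgroup G}

theorem inf_bot (h : Pair M Ms K Ks) (hH : StmtHall G) : ∀ x, x ∈ K → x ∈ Ks → x = 1 :=
  fun x hx hx' => Cfsg.Agent.Lib.Helper19.BG14.eq_one_of_coprime (h.coprime_card hH) hx hx'

/-- `Ẑ` is a TI-set with normalizer `K K*`: the key step -/
theorem zhat_key (h : Pair M Ms K Ks) (hH : StmtHall G) (h31 : C1431 M K) {x g : G}
    (hx : x ∈ (↑(K ⊔ Ks) : Set G) \ ((K : Set G) ∪ ↑Ks))
    (hgx : g * x * g⁻¹ ∈ (↑(K ⊔ Ks) : Set G) \ ((K : Set G) ∪ ↑Ks)) : g ∈ K ⊔ Ks := by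
  have h1 : ∀ g : G, g ∉ M → Ks ⊓ M.map (MulAut.conj g).toMonoidHom = ⊥ := by
    intro g hg
    have := h31.1 g hg
    rwa [← h.hKsdef] at this
  have h2 : ∀ g ∈ M, g ∉ K ⊔ Ks → K ⊓ K.map (MulAut.conj g).toMonoidHom = ⊥ := by
    intro g hg hgn
    have := h31.2.1 g hg
    rw [← h.hKsdef] at this
    exact this hgn
  exact Cfsg.Agent.Lib.Helper19.BG14.mem_of_conj_mem_zhat h.comm (h.coprime_card hH) h.Ks_le_M
    h1 h2 hx hgx

/-- **BG 14.3(d)**: no element of `Ẑ` lies in a conjugate `M^g`, `g ∉ M`. -/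
theorem zhat_not_mem (h : Pair M Ms K Ks) (hH : StmtHall G) (h31 : C1431 M K) {g z : G}
    (hg : g ∉ M) (hz : z ∈ (↑(K ⊔ Ks) : Set G) \ ((K : Set G) ∪ ↑Ks)) :
    z ∉ M.map (MulAut.conj g).toMonoidHom := by
  intro hzg
  obtain ⟨a1, a2, a3, a4⟩ :=
    Cfsg.Agent.Lib.Helper19.BG14.pow_facts h.comm (h.coprime_card hH) hz.1
  have hzK : z ∉ K := fun h0 => hz.2 (Or.inl h0)
  have h1 := h31.1 g hg
  rw [← h.hKsdef] at h1
  have h2 : z ^ Nat.card K ∈ Ks ⊓ M.map (MulAut.conj g).toMonoidHom :=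
    Subgroup.mem_inf.2 ⟨a1, Subgroup.pow_mem _ hzg _⟩
  rw [h1, Subgroup.mem_bot] at h2
  exact a3 hzK h2

open Cfsg.Agent.Lib.Helper48 in
/-- **BG 14.3(e)**: the number of conjugates of elements of `Ẑ`. -/
theorem count (hG : IsMinSimpleOddOrder G) (h : Pair M Ms K Ks) (hH : StmtHall G)
    (h31 : C1431 M K) :
    Nat.card K * Nat.card Ks * Set.ncard {a : G | ∃ g : G, ∃ z ∈ ((↑(K ⊔ Ks) : Set G) \
        ((K : Set G) ∪ ↑Ks)), a = g * z * g⁻¹} =
      (Nat.card K * Nat.card Ks - Nat.card K - Nat.card Ks + 1) * Nat.card G ∧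
    Nat.card G < 2 * Set.ncard {a : G | ∃ g : G, ∃ z ∈ ((↑(K ⊔ Ks) : Set G) \
        ((K : Set G) ∪ ↑Ks)), a = g * z * g⁻¹} := by
  set Z : Set G := (↑(K ⊔ Ks) : Set G) \ ((K : Set G) ∪ ↑Ks) with hZdef
  have hcop := h.coprime_card hH
  have hTI : ∀ z ∈ Z, ∀ g : G, g * z * g⁻¹ ∈ Z → g ∈ K ⊔ Ks :=
    fun z hz g hg => h.zhat_key hH h31 hz hg
  have hinv : ∀ n ∈ K ⊔ Ks, ∀ z ∈ Z, n * z * n⁻¹ ∈ Z := by
    intro n hn z hz
    have h1 := Cfsg.Agent.Lib.Helper19.BG14.le_normalizer_zhat h.comm hn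
    rw [Subgroup.mem_set_normalizer_iff] at h1
    exact (h1 z).1 hz
  have key := TICount.card_conjUnion (K ⊔ Ks) Z hinv hTI
  have hsup : Nat.card ↥(K ⊔ Ks) = Nat.card K * Nat.card Ks := card_sup_of_coprime h.comm hcop
  have hZ : Nat.card Z = (Nat.card K - 1) * (Nat.card Ks - 1) := by
    rw [hZdef, zhat_eq h.comm (h.inf_bot hH)]
    exact TICount.card_prodSharp hcop
  have hset : {a : G | ∃ g : G, ∃ z ∈ Z, a = g * z * g⁻¹} = TICount.conjUnion Z := rfl
  rw [hset, ← Nat.card_coe_set_eq]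
  rw [hsup, hZ] at key
  have ha : 3 ≤ Nat.card K := three_le_card hG h.hK1
  have hb : 3 ≤ Nat.card Ks := three_le_card hG h.hKs1
  have hlt := TICount.arith_lt ha hb (Cfsg.Agent.Lib.Helper23.odd_card_subgroup hG K)
    (Cfsg.Agent.Lib.Helper23.odd_card_subgroup hG Ks) hcop
  generalize Nat.card K = a at *
  generalize Nat.card Ks = b at *
  generalize Nat.card ↥(TICount.conjUnion Z) = c at *
  have hgpos : 0 < Nat.card G := Nat.card_pos
  generalize Nat.card G = n at *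
  obtain ⟨a', rfl⟩ : ∃ a', a = a' + 1 := ⟨a - 1, by omega⟩
  obtain ⟨b', rfl⟩ : ∃ b', b = b' + 1 := ⟨b - 1, by omega⟩
  have e1 : a' + 1 - 1 = a' := by omega
  have e2 : b' + 1 - 1 = b' := by omega
  rw [e1, e2] at key hlt
  have e3 : (a' + 1) * (b' + 1) - (a' + 1) - (b' + 1) + 1 = a' * b' := by
    have h5 : (a' + 1) * (b' + 1) = a' * b' + a' + b' + 1 := by ring
    have h6 : 1 ≤ a' * b' := Nat.mul_pos (by omega) (by omega)
    rw [h5]; omega
  rw [e3]
  constructor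
  · rw [mul_comm (a' * b') n, ← key]; ring
  · by_contra hcon
    push Not at hcon
    have h7 : 2 * c * ((a' + 1) * (b' + 1)) ≤ n * ((a' + 1) * (b' + 1)) :=
      Nat.mul_le_mul_right _ hcon
    have h8 : n * ((a' + 1) * (b' + 1)) < n * (2 * (a' * b')) :=
      Nat.mul_lt_mul_of_pos_left hlt hgpos
    have h9 : n * (2 * (a' * b')) = 2 * c * ((a' + 1) * (b' + 1)) := by
      rw [← mul_assoc, mul_comm n 2, mul_assoc, ← key]; ring
    omega

end Pair

/-! ### assembly -/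

theorem comm_of_isCyclic {K : Subgroup G} (hK : IsCyclic K) :
    ∀ a ∈ K, ∀ b ∈ K, a * b = b * a := by
  intro x hx y hy
  haveI := hK
  letI := IsCyclic.commGroup (α := K)
  have := mul_comm (⟨x, hx⟩ : K) ⟨y, hy⟩
  exact congrArg Subtype.val this

/-- the pair of BG 14.3 from the hypotheses of S1434 / S1367 / S1368 -/
theorem mk_pair (h30 : Stmt1430 G) {M K Mstar : Subgroup G} (hM : IsCoatom M)
    (hK : IsPiHallOf (kappa M) K M) (hK1 : K ≠ ⊥) (hMstar : IsCoatom Mstar)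
    (hKst : K = sigmaCore Mstar ⊓ centralizer ((sigmaCore M ⊓ centralizer (K : Set G)) : Set G))
    (hKstH : IsPiHallOf (kappa Mstar) (sigmaCore M ⊓ centralizer (K : Set G)) Mstar) :
    Pair M Mstar K (sigmaCore M ⊓ centralizer (K : Set G)) :=
  ⟨hM, hMstar, hK, hKstH, rfl, hKst, hK1, Ks_ne_bot hK hK1 (h30 M hM K hK hK1).1⟩

/-- **S1434** (BG 14.3 (b)–(e)), from BG 14.2, 13.9 and the cyclicity of Hall `κ`-subgroups. -/
theorem s1434 (hG : IsMinSimpleOddOrder G) (hH : StmtHall G) (h30 : Stmt1430 G)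
    (h31 : Stmt1431 G) (h78 : Stmt1378 G) (hKC : StmtKC G)
    (M : Subgroup G) (hM : IsCoatom M) (K U : Subgroup G) (hKU : IsSigmaDecomposition M K U)
    (hK1 : K ≠ ⊥) (Mstar : Subgroup G) (hMstar : IsCoatom Mstar)
    (hKst : K = sigmaCore Mstar ⊓ centralizer ((sigmaCore M ⊓ centralizer (K : Set G)) : Set G))
    (hKstH : IsPiHallOf (kappa Mstar) (sigmaCore M ⊓ centralizer (K : Set G)) Mstar) :
    kappa M = tau1 M ∧ IsPiHallOf (sigma M) (sigmaCore M ⊓ centralizer (K : Set G)) Mstar ∧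
      (∀ x ∈ K, x ≠ 1 → ∀ y ∈ (sigmaCore M ⊓ centralizer (K : Set G)), y ≠ 1 →
        M ⊓ centralizer ({x} : Set G) = K ⊔ (sigmaCore M ⊓ centralizer (K : Set G)) ∧
        Mstar ⊓ centralizer ({y} : Set G) = K ⊔ (sigmaCore M ⊓ centralizer (K : Set G)) ∧
        centralizer ({x * y} : Set G) = K ⊔ (sigmaCore M ⊓ centralizer (K : Set G))) ∧
      (∀ g : G, g ∉ M → ∀ z ∈ ((↑(K ⊔ (sigmaCore M ⊓ centralizer (K : Set G))) : Set G) \
          ((K : Set G) ∪ ↑(sigmaCore M ⊓ centralizer (K : Set G)))),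
        z ∉ M.map (MulAut.conj g).toMonoidHom) ∧
      Nat.card K * Nat.card ↥(sigmaCore M ⊓ centralizer (K : Set G)) *
          Set.ncard {a : G | ∃ g : G, ∃ z ∈ ((↑(K ⊔ (sigmaCore M ⊓ centralizer (K : Set G))) :
            Set G) \ ((K : Set G) ∪ ↑(sigmaCore M ⊓ centralizer (K : Set G)))),
            a = g * z * g⁻¹} =
        (Nat.card K * Nat.card ↥(sigmaCore M ⊓ centralizer (K : Set G)) - Nat.card K -
          Nat.card ↥(sigmaCore M ⊓ centralizer (K : Set G)) + 1) * Nat.card G ∧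
      Nat.card G < 2 * Set.ncard {a : G | ∃ g : G, ∃ z ∈
        ((↑(K ⊔ (sigmaCore M ⊓ centralizer (K : Set G))) : Set G) \
          ((K : Set G) ∪ ↑(sigmaCore M ⊓ centralizer (K : Set G)))), a = g * z * g⁻¹} := by
  have P := mk_pair h30 hM hKU.hall hK1 hMstar hKst hKstH
  have C30 := h30 M hM K hKU.hall hK1
  have C31 := h31 M hM K hKU.hall hK1
  have C30s := h30 Mstar hMstar _ hKstH P.hKs1
  have hKab := comm_of_isCyclic hKU.cyclic
  have hKsab := comm_of_isCyclic (hKC Mstar hMstar _ hKstH)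
  have hcount := P.count hG hH C31
  refine ⟨?_, P.hall_sigma hG hH h78 C31, ?_, ?_, hcount.1, hcount.2⟩
  · exact kappa_eq_tau1 (hH M hM) hKU hK1
      (Cfsg.Agent.Lib.Helper76.BGSigU.cent_U_K hKU (fun X hX hXp => (C30.2.2 X hX hXp).1))
  · intro x hx hx1 y hy hy1
    exact P.centralizers hH hKab hKsab C30 C30s C31 hx hx1 hy hy1
  · intro g hg z hz
    exact P.zhat_not_mem hH C31 hg hz

/-- **S1368** (BG 14.3: `M ∩ M* = K K*` is cyclic). -/
theorem s1368 (hG : IsMinSimpleOddOrder G) (hH : StmtHall G) (h30 : Stmt1430 G)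
    (h78 : Stmt1378 G) (hKC : StmtKC G)
    (M : Subgroup G) (hM : IsCoatom M) (K U : Subgroup G) (hKU : IsSigmaDecomposition M K U)
    (hK1 : K ≠ ⊥) (Mstar : Subgroup G) (hMstar : IsCoatom Mstar)
    (hKst : K = sigmaCore Mstar ⊓ centralizer ((sigmaCore M ⊓ centralizer (K : Set G)) : Set G))
    (hKstH : IsPiHallOf (kappa Mstar) (sigmaCore M ⊓ centralizer (K : Set G)) Mstar) :
    M ⊓ Mstar = K ⊔ (sigmaCore M ⊓ centralizer (K : Set G)) ∧
      IsCyclic ↥(K ⊔ (sigmaCore M ⊓ centralizer (K : Set G))) := by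
  have P := mk_pair h30 hM hKU.hall hK1 hMstar hKst hKstH
  exact ⟨P.inf_eq hH h78 (h30 M hM K hKU.hall hK1),
    isCyclic_sup hKU.cyclic (hKC Mstar hMstar _ hKstH) P.comm (P.coprime_card hH)⟩

end Cfsg.Agent.Lib.Helper56.BG143
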