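import Cfsg.Agent.Lib.Helper56.BG147e
import Cfsg.Agent.Lib.Helper56.BG141
import Cfsg.Agent.Lib.Helper90.BG147SUncond
import Cfsg.Agent.Lib.Helper64.BG147PairS
import Cfsg.Agent.Lib.Helper32.Transitivity
import Cfsg.Agent.Lib.Helper64.BG9
import Cfsg.Agent.Lib.Helper23.BG1310A
import Cfsg.Agent.S1350
import Cfsg.Agent.S1377
import Cfsg.Agent.S1378
import Cfsg.Agent.S1430
import Cfsg.Agent.S1431
import Cfsg.Agent.S1433

set_option autoImplicit false
set_option linter.style.haveILetI false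
set_option linter.unusedSectionVars false
set_option linter.unusedVariables false

/-!
# S1351: every Hall `κ(M)`-subgroup is cyclic

All prime-order subgroups of a Hall `κ(M)`-subgroup `K` have the same partner `L`
(`Helper90.BG147S.partner_eq_uncond`), so `(M, L)` is a pair in the sense of BG 14.3
(`Helper64.BG147Pair.partner`), and `K` is cyclic by the count (`Ks_isCyclic` for the pair `(L, M)`).
-/

namespace Cfsg.Agent.Lib.Helper56.BG141K

open Subgroup Cfsg Cfsg.Agent.Lib.Helper33 Cfsg.Agent.Lib.Helper56.BG143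
open Cfsg.Agent.Lib.Helper56.BG147

universe u

variable {G : Type u} [Group G] [Finite G]

/-- coprimality of `|K|` and `|C_{M_σ}(K)|` for a `κ(M)`-subgroup `K` -/
theorem coprime_card_cent (hH : StmtHall G) {M K : Subgroup G} (hM : IsCoatom M)
    (hK : IsPiHallOf (kappa M) K M) :
    (Nat.card K).Coprime (Nat.card ↥(sigmaCore M ⊓ centralizer (K : Set G))) :=
  Nat.coprime_of_dvd (fun q hq h1 h2 => (hK.2.1 q hq h1).2.2.1
    ((hH M hM).2.1 q hq (h2.trans (Subgroup.card_dvd_of_le inf_le_left))))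

/-- `|K C_{M_σ}(K)| = |K| |C_{M_σ}(K)|` -/
theorem card_sup_cent (hH : StmtHall G) {M K : Subgroup G} (hM : IsCoatom M)
    (hK : IsPiHallOf (kappa M) K M) :
    Nat.card ↥(K ⊔ (sigmaCore M ⊓ centralizer (K : Set G))) =
      Nat.card K * Nat.card ↥(sigmaCore M ⊓ centralizer (K : Set G)) := by
  apply card_sup_of_coprime _ (coprime_card_cent hH hM hK)
  intro k hk c hc
  exact (Subgroup.mem_centralizer_iff.1 hc.2 k hk)

/-- **S1351, second half**: every Hall `κ(M)`-subgroup of a maximal subgroup is cyclic. -/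
theorem hall_kappa_isCyclic (hG : IsMinSimpleOddOrder G) {M K : Subgroup G} (hM : IsCoatom M)
    (hK : IsPiHallOf (kappa M) K M) : IsCyclic K := by
  classical
  by_cases hK1 : K = ⊥
  · subst hK1
    exact isCyclic_of_subsingleton
  have hH : StmtHall G := fun M hM => (Cfsg.Agent.S1350.result hG M hM).1
  have h30 : Stmt1430 G := fun M hM K hK hK1 => Cfsg.Agent.S1430.result hG M hM K hK hK1
  have h31 : Stmt1431 G := fun M hM K hK hK1 => Cfsg.Agent.S1431.result hG M hM K hK hK1
  have h78 : Stmt1378 G := fun M N hM hN h => (Cfsg.Agent.S1378.result hG).2 M N hM hN h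
  have h77 : Stmt1377 G := fun M hM => Cfsg.Agent.S1377.result hG M hM
  have h33 : Stmt1433 G := fun M N hM hN x y hx hy hx1 hy1 hxy =>
    Cfsg.Agent.S1433.result hG M N hM hN x y hx hy hx1 hy1 hxy
  haveI : IsSimpleGroup G := hG.2.1
  -- every subgroup of prime order of `K` has a partner
  have hpartner : ∀ X : Subgroup G, X ≤ K → (Nat.card X).Prime →
      ∃ L : Subgroup G, IsCoatom L ∧ normalizer (X : Set G) ≤ L := by
    intro X hXK hXp
    have hX1 : X ≠ ⊥ := by
      intro h
      rw [h, Subgroup.card_bot] at hXp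
      exact Nat.not_prime_one hXp
    have hXtop : X ≠ ⊤ := by
      intro h
      apply hM.1
      rw [eq_top_iff, ← h]
      exact hXK.trans hK.1
    have hN := Cfsg.Agent.Lib.Helper32.normalizer_ne_top_of_simple hX1 hXtop
    exact Cfsg.Agent.Lib.Helper64.BG9.exists_coatom_ge hN
  obtain ⟨x, hXK, hXp⟩ := exists_prime_sub hK1
  obtain ⟨L, hL, hNL⟩ := hpartner _ hXK hXp
  obtain ⟨hnc, hXL, hZL, hWL, hML, K1, hK1H, hKsK1, hK1s, hK1sK, hZeq⟩ :=
    Cfsg.Agent.Lib.Helper64.BG147Pair.stmtPartner hG M K hM hK hK1 _ hXK hXp L hL hNL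
  -- every subgroup of prime order of `K` lies in `L_σ`
  have hall : ∀ X' : Subgroup G, X' ≤ K → (Nat.card X').Prime → X' ≤ sigmaCore L := by
    intro X' hX'K hX'p
    obtain ⟨L', hL', hNL'⟩ := hpartner X' hX'K hX'p
    have hLL' : L = L' := Cfsg.Agent.Lib.Helper90.BG147S.partner_eq_uncond hG hM hK hXK hXp
      hX'K hX'p hL hNL hL' hNL'
    subst hLL'
    exact ((h30 M hM K hK hK1).2.2 X' hX'K hX'p).2.2 L hL hNL'
  -- `K ≤ L_σ`
  have hKL : K ≤ L := le_sup_left.trans hZL
  have hKσ : K ≤ sigmaCore L := by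
    apply Cfsg.Agent.Lib.Helper23.BG1310.le_hall_of_normal (hH L hL)
      (Cfsg.Agent.Lib.Helper24.BG.le_normalizer_sigmaCore L) hKL
    intro r hr hrK
    haveI : Fact r.Prime := ⟨hr⟩
    obtain ⟨y, hy⟩ := exists_prime_orderOf_dvd_card' (G := K) r hrK
    have hyo : orderOf (y : G) = r := by rw [Subgroup.orderOf_coe]; exact hy
    have hYc : Nat.card (zpowers (y : G)) = r := by rw [Nat.card_zpowers]; exact hyo
    have hYK : zpowers (y : G) ≤ K := by rw [zpowers_le]; exact y.2
    have hYL := hall _ hYK (by rw [hYc]; exact hr)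
    exact (hH L hL).2.1 r hr (by rw [← hYc]; exact Subgroup.card_dvd_of_le hYL)
  -- `K = C_{L_σ}(K₁)`
  have hKeq : K = sigmaCore L ⊓ centralizer (K1 : Set G) := by
    apply le_antisymm _ hK1sK
    rw [hK1s]
    exact le_inf hKσ hK.1
  -- `K₁ = K*`
  have hc1 := card_sup_cent hH hM hK
  have hc2 := card_sup_cent hH hL hK1H
  rw [hZeq, hc2, ← hKeq] at hc1
  have hKpos : 0 < Nat.card K := Nat.card_pos
  have hcard : Nat.card K1 = Nat.card ↥(sigmaCore M ⊓ centralizer (K : Set G)) := by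
    have : Nat.card K * Nat.card K1 =
        Nat.card K * Nat.card ↥(sigmaCore M ⊓ centralizer (K : Set G)) := by
      rw [← hc1, mul_comm]
    exact Nat.eq_of_mul_eq_mul_left hKpos this
  have hKsEq : sigmaCore M ⊓ centralizer (K : Set G) = K1 :=
    Subgroup.eq_of_le_of_card_ge hKsK1 (by rw [hcard])
  have hKstH : IsPiHallOf (kappa L) (sigmaCore M ⊓ centralizer (K : Set G)) L := by
    rw [hKsEq]; exact hK1H
  have hKst : K = sigmaCore L ⊓
      centralizer ((sigmaCore M ⊓ centralizer (K : Set G) : Subgroup G) : Set G) := by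
    rw [hKsEq]; exact hKeq
  have P := mk_pair h30 hM hK hK1 hL hKst hKstH
  exact Ks_isCyclic hG P.symm hH h78 (h31 L hL _ P.hKs P.hKs1) (h31 M hM K hK hK1) h77 h33
    (stmt1429 hG) (stmtExc hG)

/-- **S1351.** -/
theorem s1351 (hG : IsMinSimpleOddOrder G) (M : Subgroup G) (hM : IsCoatom M) :
    (∃ K : Subgroup G, IsPiHallOf (kappa M) K M) ∧
      ∀ K : Subgroup G, IsPiHallOf (kappa M) K M → IsCyclic K :=
  ⟨Cfsg.Agent.Lib.Helper56.BG141.exists_hall hG hM (kappa M),
    fun K hK => hall_kappa_isCyclic hG hM hK⟩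

end Cfsg.Agent.Lib.Helper56.BG141K
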