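import Cfsg.Agent.Lib.Helper56.BG147b

set_option autoImplicit false
set_option linter.style.haveILetI false
set_option linter.unusedSectionVars false
set_option linter.unusedVariables false

/-!
# First half of S1369 (BG 14.7(f)): `M` and `M*` are not both of type `P₁`
-/

namespace Cfsg.Agent.Lib.Helper56.BG147

open Subgroup Cfsg Cfsg.Agent.Lib.Helper33 Cfsg.Agent.Lib.Helper56.BG143

universe u

variable {G : Type u} [Group G] [Finite G]

/-- a standard factorisation with `U = 1` gives `|M| = |M_σ| |K|` -/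
theorem card_of_decomp_bot {M K U : Subgroup G} (hS : IsPiHallOf (sigma M) (sigmaCore M) M)
    (hKU : IsSigmaDecomposition M K U) (hU : U = ⊥) :
    Nat.card M = Nat.card (sigmaCore M) * Nat.card K := by
  subst hU
  have hSn : M ≤ normalizer ((sigmaCore M : Subgroup G) : Set G) :=
    Cfsg.Agent.Lib.Helper24.BG.le_normalizer_sigmaCore M
  have hKS : K ≤ normalizer ((sigmaCore M : Subgroup G) : Set G) := hKU.hall.1.trans hSn
  have h1 : IsComplIn K (sigmaCore M) (K ⊔ sigmaCore M) := by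
    refine ⟨le_sup_left, le_sup_right, ?_, ?_⟩
    · apply Cfsg.Agent.Lib.Helper19.BG14.inf_eq_bot_of_primes
      intro p hp hpK hpS
      exact (hKU.hall.2.1 p hp hpK).2.2.1 (hS.2.1 p hp hpS)
    · intro m hm
      exact Cfsg.Agent.Lib.Helper19.BG14.mul_decomp hKS hm
  have h2 := Cfsg.Agent.Lib.Helper23.card_isComplIn h1
  have h3 := Cfsg.Agent.Lib.Helper23.card_isComplIn hKU.compl
  rw [Subgroup.card_bot, one_mul] at h3
  rw [← h3, ← h2, mul_comm]

/-- **first half of S1369** (BG 14.7(f)): `U ≠ 1` or `U* ≠ 1`. -/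
theorem s1369_first (hG : IsMinSimpleOddOrder G) (hH : StmtHall G) (h30 : Stmt1430 G)
    (h31 : Stmt1431 G) (h78 : Stmt1378 G) (h77 : Stmt1377 G) (h33 : Stmt1433 G)
    (M : Subgroup G) (hM : IsCoatom M) (K U : Subgroup G) (hKU : IsSigmaDecomposition M K U)
    (hK1 : K ≠ ⊥) (Mstar : Subgroup G) (hMstar : IsCoatom Mstar)
    (hKst : K = sigmaCore Mstar ⊓ centralizer ((sigmaCore M ⊓ centralizer (K : Set G)) : Set G))
    (hKstH : IsPiHallOf (kappa Mstar) (sigmaCore M ⊓ centralizer (K : Set G)) Mstar) :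
    U ≠ ⊥ ∨ ∀ Ustar : Subgroup G,
      IsSigmaDecomposition Mstar (sigmaCore M ⊓ centralizer (K : Set G)) Ustar → Ustar ≠ ⊥ := by
  have P := mk_pair h30 hM hKU.hall hK1 hMstar hKst hKstH
  by_contra hcon
  push Not at hcon
  obtain ⟨hU, Ustar, hdec, hUs⟩ := hcon
  exact not_both_P1 hG P hH h78 (h31 M hM K hKU.hall hK1) (h31 Mstar hMstar _ hKstH P.hKs1)
    h77 h33 (card_of_decomp_bot (hH M hM) hKU hU) (card_of_decomp_bot (hH Mstar hMstar) hdec hUs)

end Cfsg.Agent.Lib.Helper56.BG147
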