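import Cfsg.Agent.Lib.Helper56.BG147b

set_option autoImplicit false
set_option linter.style.haveILetI false
set_option linter.unusedSectionVars false
set_option linter.unusedVariables false

/-!
# S1434 and S1368 without the global cyclicity hypothesis (S1351)

`K*` is cyclic by the count of BG 14.7 (`Ks_isCyclic`).
-/

namespace Cfsg.Agent.Lib.Helper56.BG147

open Subgroup Cfsg Cfsg.Agent.Lib.Helper33 Cfsg.Agent.Lib.Helper56.BG143

universe u

variable {G : Type u} [Group G] [Finite G]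

/-- `K*` is cyclic in the situation of S1434 / S1367 / S1368 / S1369 -/
theorem kstar_isCyclic (hG : IsMinSimpleOddOrder G) (hH : StmtHall G) (h30 : Stmt1430 G)
    (h31 : Stmt1431 G) (h78 : Stmt1378 G) (h77 : Stmt1377 G) (h33 : Stmt1433 G)
    (h29 : Stmt1429 G) (hE : StmtExc G)
    (M : Subgroup G) (hM : IsCoatom M) (K : Subgroup G) (hK : IsPiHallOf (kappa M) K M)
    (hK1 : K ≠ ⊥) (Mstar : Subgroup G) (hMstar : IsCoatom Mstar)
    (hKst : K = sigmaCore Mstar ⊓ centralizer ((sigmaCore M ⊓ centralizer (K : Set G)) : Set G))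
    (hKstH : IsPiHallOf (kappa Mstar) (sigmaCore M ⊓ centralizer (K : Set G)) Mstar) :
    IsCyclic ↥(sigmaCore M ⊓ centralizer (K : Set G)) := by
  have P := mk_pair h30 hM hK hK1 hMstar hKst hKstH
  exact Ks_isCyclic hG P hH h78 (h31 M hM K hK hK1) (h31 Mstar hMstar _ hKstH P.hKs1)
    h77 h33 h29 hE

/-- **S1434** (BG 14.3 (b)–(e)). -/
theorem s1434' (hG : IsMinSimpleOddOrder G) (hH : StmtHall G) (h30 : Stmt1430 G)
    (h31 : Stmt1431 G) (h78 : Stmt1378 G) (h77 : Stmt1377 G) (h33 : Stmt1433 G)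
    (h29 : Stmt1429 G) (hE : StmtExc G)
    (M : Subgroup G) (hM : IsCoatom M) (K U : Subgroup G) (hKU : IsSigmaDecomposition M K U)
    (hK1 : K ≠ ⊥) (Mstar : Subgroup G) (hMstar : IsCoatom Mstar)
    (hKst : K = sigmaCore Mstar ⊓ centralizer ((sigmaCore M ⊓ centralizer (K : Set G)) : Set G))
    (hKstH : IsPiHallOf (kappa Mstar) (sigmaCore M ⊓ centralizer (K : Set G)) Mstar) :
    kappa M = tau1 M ∧ IsPiHallOf (sigma M) (sigmaCore M ⊓ centralizer (K : Set G)) Mstar ∧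
      (∀ x ∈ K, x ≠ 1 → ∀ y ∈ (sigmaCore M ⊓ centralizer (K : Set G)), y ≠ 1 →
        M ⊓ centralizer ({x} : Set G) = K ⊔ (sigmaCore M ⊓ centralizer (K : Set G)) ∧
        Mstar ⊓ centralizer ({y} : Set G) = K ⊔ (sigmaCore M ⊓ centralizer (K : Set G)) ∧
        centralizer ({x * y} : Set G) = K ⊔ (sigmaCore M ⊓ centralizer (K : Set G))) ∧
      (∀ g : G, g ∉ M → ∀ z ∈ ((↑(K ⊔ (sigmaCore M ⊓ centralizer (K : Set G))) : Set G) \
          ((K : Set G) ∪ ↑(sigmaCore M ⊓ centralizer (K : Set G)))),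
        z ∉ M.map (MulAut.conj g).toMonoidHom) ∧
      Nat.card K * Nat.card ↥(sigmaCore M ⊓ centralizer (K : Set G)) *
          Set.ncard {a : G | ∃ g : G, ∃ z ∈ ((↑(K ⊔ (sigmaCore M ⊓ centralizer (K : Set G))) :
            Set G) \ ((K : Set G) ∪ ↑(sigmaCore M ⊓ centralizer (K : Set G)))),
            a = g * z * g⁻¹} =
        (Nat.card K * Nat.card ↥(sigmaCore M ⊓ centralizer (K : Set G)) - Nat.card K -
          Nat.card ↥(sigmaCore M ⊓ centralizer (K : Set G)) + 1) * Nat.card G ∧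
      Nat.card G < 2 * Set.ncard {a : G | ∃ g : G, ∃ z ∈
        ((↑(K ⊔ (sigmaCore M ⊓ centralizer (K : Set G))) : Set G) \
          ((K : Set G) ∪ ↑(sigmaCore M ⊓ centralizer (K : Set G)))), a = g * z * g⁻¹} := by
  have P := mk_pair h30 hM hKU.hall hK1 hMstar hKst hKstH
  have C30 := h30 M hM K hKU.hall hK1
  have C31 := h31 M hM K hKU.hall hK1
  have C30s := h30 Mstar hMstar _ hKstH P.hKs1
  have hKab := comm_of_isCyclic hKU.cyclic
  have hKsab := comm_of_isCyclic (kstar_isCyclic hG hH h30 h31 h78 h77 h33 h29 hE M hM K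
    hKU.hall hK1 Mstar hMstar hKst hKstH)
  have hcount := P.count hG hH C31
  refine ⟨?_, P.hall_sigma hG hH h78 C31, ?_, ?_, hcount.1, hcount.2⟩
  · exact kappa_eq_tau1 (hH M hM) hKU hK1
      (Cfsg.Agent.Lib.Helper76.BGSigU.cent_U_K hKU (fun X hX hXp => (C30.2.2 X hX hXp).1))
  · intro x hx hx1 y hy hy1
    exact P.centralizers hH hKab hKsab C30 C30s C31 hx hx1 hy hy1
  · intro g hg z hz
    exact P.zhat_not_mem hH C31 hg hz

/-- **S1368** (BG 14.3: `M ∩ M* = K K*` is cyclic). -/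
theorem s1368' (hG : IsMinSimpleOddOrder G) (hH : StmtHall G) (h30 : Stmt1430 G)
    (h31 : Stmt1431 G) (h78 : Stmt1378 G) (h77 : Stmt1377 G) (h33 : Stmt1433 G)
    (h29 : Stmt1429 G) (hE : StmtExc G)
    (M : Subgroup G) (hM : IsCoatom M) (K U : Subgroup G) (hKU : IsSigmaDecomposition M K U)
    (hK1 : K ≠ ⊥) (Mstar : Subgroup G) (hMstar : IsCoatom Mstar)
    (hKst : K = sigmaCore Mstar ⊓ centralizer ((sigmaCore M ⊓ centralizer (K : Set G)) : Set G))
    (hKstH : IsPiHallOf (kappa Mstar) (sigmaCore M ⊓ centralizer (K : Set G)) Mstar) :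
    M ⊓ Mstar = K ⊔ (sigmaCore M ⊓ centralizer (K : Set G)) ∧
      IsCyclic ↥(K ⊔ (sigmaCore M ⊓ centralizer (K : Set G))) := by
  have P := mk_pair h30 hM hKU.hall hK1 hMstar hKst hKstH
  exact ⟨P.inf_eq hH h78 (h30 M hM K hKU.hall hK1),
    isCyclic_sup hKU.cyclic (kstar_isCyclic hG hH h30 h31 h78 h77 h33 h29 hE M hM K
      hKU.hall hK1 Mstar hMstar hKst hKstH) P.comm (P.coprime_card hH)⟩

end Cfsg.Agent.Lib.Helper56.BG147
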