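import Cfsg.Agent.Lib.Helper56.BG147d
import Cfsg.Agent.Lib.Helper56.BG147c
import Cfsg.Agent.Lib.Helper32.BG142Main
import Cfsg.Agent.S1378
import Cfsg.Agent.S1429
import Cfsg.Agent.Lib.Helper70.BG14Final
import Cfsg.Agent.Lib.Helper47.BG1312Main
import Cfsg.Agent.Lib.Helper23.BG1310F
import Cfsg.Agent.Lib.Helper96.BG142Pin

set_option autoImplicit false
set_option linter.style.haveILetI false
set_option linter.unusedSectionVars false
set_option linter.unusedVariables false

/-!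
# Discharging the hypotheses `StmtExc` (BG 13.11) and `Stmt1429` of `Ks_isCyclic`
-/

namespace Cfsg.Agent.Lib.Helper56.BG147

open Subgroup Cfsg Cfsg.Agent.Lib.Helper33 Cfsg.Agent.Lib.Helper56.BG143

universe u

variable {G : Type u} [Group G] [Finite G]

/-- BG 13.11: in the exceptional case a Hall `κ(M)`-subgroup is a complement of `M_σ` -/
theorem stmtExc (hG : IsMinSimpleOddOrder G) : StmtExc G := by
  intro M K hM hK hκ
  obtain ⟨E, hE, hKE⟩ := Cfsg.Agent.Lib.Helper32.BG142.exists_compl_ge_kappa' hG hM hK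
  obtain ⟨q, hqκ, hq1⟩ := Set.not_subset.mp hκ
  have hq3 : q ∈ tau3 M := by
    rcases Cfsg.Agent.Lib.Helper32.BG142.kappa_subset_tau13 hG hqκ with h | h
    · exact absurd h hq1
    · exact h
  obtain ⟨hne, -, -⟩ := Cfsg.Agent.Lib.Helper32.BG142.exc_structure hG
    (Cfsg.Agent.S1378.result hG).2
    (Cfsg.Agent.Lib.Helper70.BG14.stmtE32 hG)
    (Cfsg.Agent.Lib.Helper23.BG1310.stmt1310_of hG (Cfsg.Agent.Lib.Helper70.BG14.stmtE23 hG))
    (Cfsg.Agent.Lib.Helper32.BG142.stmtPin hG) hM hE hq3 hqκ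
  have hKE' := Cfsg.Agent.Lib.Helper32.BG142.eq_of_cent_ne_bot hG hM hE hK hKE hne
  rw [hKE']; exact hE

/-- the last clause of S1429 -/
theorem stmt1429 (hG : IsMinSimpleOddOrder G) : Stmt1429 G := by
  intro M hM hP1 p hp hpM hpn
  haveI : Fact p.Prime := ⟨hp⟩
  exact (Cfsg.Agent.S1429.result hG M hM hP1 p hpM hpn default).2.2

end Cfsg.Agent.Lib.Helper56.BG147
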