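import Cfsg.Agent.Lib.Helper33.Conj
import Cfsg.Agent.Lib.Helper63.BG13a
import Cfsg.Prelude.Def_OddOrderLocal

set_option autoImplicit false
set_option linter.style.haveILetI false
set_option linter.unusedSectionVars false
set_option linter.unusedVariables false

/-!
# Conjugation equivariance of `M_F` (`fittingHallOf`) and of `R(x)` (`supportR`)
-/

namespace Cfsg.Agent.Lib.Helper56.BG147

open Subgroup Cfsg Cfsg.Agent.Lib.Helper33

universe u

/-- `M_F` is transported by group isomorphisms -/
theorem fittingHall_map {A B : Type u} [Group A] [Group B] (e : A ≃* B) :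
    (fittingHall A).map e.toMonoidHom = fittingHall B := by
  unfold fittingHall
  apply le_antisymm
  · rw [Subgroup.map_le_iff_le_comap]
    apply sSup_le
    intro N hN
    obtain ⟨hn, hnil, hcop⟩ := hN
    rw [← Subgroup.map_le_iff_le_comap]
    apply le_sSup
    refine ⟨hn.map e.toMonoidHom e.surjective, ?_, ?_⟩
    · haveI := hnil
      exact Group.nilpotent_of_mulEquiv (N.equivMapOfInjective e.toMonoidHom e.injective)
    · rw [Subgroup.card_map_of_injective (f := e.toMonoidHom) e.injective]
      have : (N.map e.toMonoidHom).index = N.index :=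
        Subgroup.index_map_of_bijective (f := e.toMonoidHom) e.bijective N
      rw [this]; exact hcop
  · apply sSup_le
    intro N hN
    obtain ⟨hn, hnil, hcop⟩ := hN
    have h1 : (N.comap e.toMonoidHom).map e.toMonoidHom = N :=
      Subgroup.map_comap_eq_self_of_surjective e.surjective N
    have hmem : N.comap e.toMonoidHom ∈ {N : Subgroup A | N.Normal ∧ Group.IsNilpotent N ∧
        (Nat.card N).Coprime N.index} := by
      refine ⟨hn.comap e.toMonoidHom, ?_, ?_⟩
      · haveI := hnil
        have e2 : ↥((N.comap e.toMonoidHom).map e.toMonoidHom) ≃* ↥N := MulEquiv.subgroupCongr h1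
        have e1 := (N.comap e.toMonoidHom).equivMapOfInjective e.toMonoidHom e.injective
        exact Group.nilpotent_of_mulEquiv (e1.trans e2).symm
      · have hc : Nat.card (N.comap e.toMonoidHom) = Nat.card N := by
          rw [← Subgroup.card_map_of_injective (K := N.comap e.toMonoidHom) (f := e.toMonoidHom)
            e.injective, h1]
        have hi : (N.comap e.toMonoidHom).index = N.index := by
          have := Subgroup.index_map_of_bijective (f := e.toMonoidHom) e.bijective
            (N.comap e.toMonoidHom)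
          rw [← this]
          exact congrArg Subgroup.index h1
        rw [hc, hi]; exact hcop
    calc N = (N.comap e.toMonoidHom).map e.toMonoidHom := h1.symm
      _ ≤ _ := Subgroup.map_mono (le_sSup hmem)

variable {G : Type u} [Group G]

/-- `(gLg⁻¹)_F = g L_F g⁻¹` -/
theorem fittingHallOf_cj (g : G) (L : Subgroup G) :
    fittingHallOf (cj g L) = cj g (fittingHallOf L) := by
  have h0 := fittingHall_map (cjEquiv g L)
  show (fittingHall ↥(cj g L)).map (cj g L).subtype =
    ((fittingHall ↥L).map L.subtype).map (MulAut.conj g).toMonoidHom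
  rw [← h0, Subgroup.map_map, Subgroup.map_map]
  rfl

/-- `C_G(gxg⁻¹) = g C_G(x) g⁻¹` -/
theorem centralizer_singleton_cj (g x : G) :
    centralizer ({g * x * g⁻¹} : Set G) = cj g (centralizer ({x} : Set G)) := by
  ext y
  rw [mem_cj, Subgroup.mem_centralizer_singleton_iff, Subgroup.mem_centralizer_singleton_iff]
  constructor
  · intro h
    calc g⁻¹ * y * g * x = g⁻¹ * (y * (g * x * g⁻¹)) * g := by group
      _ = g⁻¹ * ((g * x * g⁻¹) * y) * g := by rw [h]
      _ = x * (g⁻¹ * y * g) := by group
  · intro h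
    calc y * (g * x * g⁻¹) = g * ((g⁻¹ * y * g) * x) * g⁻¹ := by group
      _ = g * (x * (g⁻¹ * y * g)) * g⁻¹ := by rw [h]
      _ = g * x * g⁻¹ * y := by group

open scoped Classical in
/-- `R(gxg⁻¹)` relative to `gMg⁻¹` is `g R(x) g⁻¹` -/
theorem supportR_cj [Finite G] (g : G) (M : Subgroup G) (x : G) :
    supportR (cj g M) (g * x * g⁻¹) = cj g (supportR M x) := by
  have hC := centralizer_singleton_cj g x
  have hle : ∀ L : Subgroup G, centralizer ({g * x * g⁻¹} : Set G) ≤ cj g L ↔
      centralizer ({x} : Set G) ≤ L := by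
    intro L
    rw [hC, cj_le_cj_iff]
  have hle' : ∀ L : Subgroup G, centralizer ({g * x * g⁻¹} : Set G) ≤ L ↔
      centralizer ({x} : Set G) ≤ cj g⁻¹ L := by
    intro L
    rw [hC, cj_le_iff]
  have hco : ∀ L : Subgroup G, IsCoatom (cj g L) ↔ IsCoatom L := by
    intro L
    constructor
    · intro h
      have := Cfsg.Agent.Lib.Helper63.BG13.isCoatom_cj h g⁻¹
      rwa [cj_inv_cj] at this
    · intro h
      exact Cfsg.Agent.Lib.Helper63.BG13.isCoatom_cj h g
  unfold supportR
  split_ifs with h1 h2 h2
  · -- both conditions hold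
    have s1 := Classical.choose_spec h1.2.exists
    have s2 := Classical.choose_spec h2.2.exists
    set L1 := Classical.choose h1.2.exists with hL1
    set L2 := Classical.choose h2.2.exists with hL2
    have h3 : L1 = cj g L2 := by
      apply h1.2.unique s1
      exact ⟨(hco L2).2 s2.1, (hle L2).2 s2.2⟩
    rw [h3, fittingHallOf_cj, hC, ← cj_inf]
  · exfalso
    apply h2
    refine ⟨fun h => h1.1 ((hle M).2 h), ?_⟩
    obtain ⟨L, hL, hu⟩ := h1.2
    refine ⟨cj g⁻¹ L, ⟨?_, (hle' L).1 hL.2⟩, ?_⟩
    · have := (hco (cj g⁻¹ L)).1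
      rw [cj_cj_inv] at this
      exact this hL.1
    · intro L' hL'
      have := hu (cj g L') ⟨(hco L').2 hL'.1, (hle L').2 hL'.2⟩
      rw [← this, cj_inv_cj]
  · exfalso
    apply h1
    refine ⟨fun h => h2.1 ((hle M).1 h), ?_⟩
    obtain ⟨L, hL, hu⟩ := h2.2
    refine ⟨cj g L, ⟨(hco L).2 hL.1, (hle L).2 hL.2⟩, ?_⟩
    intro L' hL'
    have h4 : IsCoatom (cj g⁻¹ L') := by
      have := (hco (cj g⁻¹ L')).1
      rw [cj_cj_inv] at this
      exact this hL'.1
    have := hu (cj g⁻¹ L') ⟨h4, (hle' L').1 hL'.2⟩
    rw [← this, cj_cj_inv]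
  · rw [cj_bot]

end Cfsg.Agent.Lib.Helper56.BG147
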