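import Cfsg.Agent.Lib.Helper56.BG143b
import Cfsg.Agent.Lib.Helper56.BG147a

set_option autoImplicit false
set_option linter.style.haveILetI false
set_option linter.unusedSectionVars false
set_option linter.unusedVariables false

/-!
# BG 14.7 (counting part) for a pair `(M, M*)`: not both of type `P₁`

For a `Pair M Ms K Ks` (BG 14.3) the three sets `Ã(M_σ#)`, `Ã(M*_σ#)` and the union of the conjugates
of `Ẑ = K K* ∖ (K ∪ K*)` are pairwise disjoint.  Counting them (S1377 for the first two, BG 14.3(e)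
for the third) shows that `M = M_σ K` and `M* = M*_σ K*` cannot both hold.
-/

namespace Cfsg.Agent.Lib.Helper56.BG147

open Subgroup Cfsg Cfsg.Agent.Lib.Helper33 Cfsg.Agent.Lib.Helper56.BG143

universe u

/-- the statement of S1377 as a hypothesis -/
def Stmt1377 (G : Type u) [Group G] : Prop :=
  ∀ M : Subgroup G, IsCoatom M →
    Set.ncard (tildeOf M ((sigmaCore M : Set G) \ {1})) =
      (Nat.card (sigmaCore M) - 1) * M.index

/-- the statement of S1433 as a hypothesis -/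
def Stmt1433 (G : Type u) [Group G] : Prop :=
  ∀ M N : Subgroup G, IsCoatom M → IsCoatom N → ∀ x y : G, x ∈ sigmaCore M → y ∈ sigmaCore N →
    x ≠ 1 → y ≠ 1 → x ≠ y → ∀ r ∈ supportR M x, ∀ s ∈ supportR N y, x * r ≠ y * s

/-- `O_π` is transported by group isomorphisms -/
theorem piCore_map {A B : Type u} [Group A] [Group B] (π : Set ℕ) (e : A ≃* B) :
    (piCore π A).map e.toMonoidHom = piCore π B := by
  unfold piCore
  apply le_antisymm
  · rw [Subgroup.map_le_iff_le_comap]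
    apply sSup_le
    intro N hN
    obtain ⟨hn, hπ⟩ := hN
    rw [← Subgroup.map_le_iff_le_comap]
    apply le_sSup
    refine ⟨hn.map e.toMonoidHom e.surjective, ?_⟩
    rw [Subgroup.card_map_of_injective (f := e.toMonoidHom) e.injective]
    exact hπ
  · apply sSup_le
    intro N hN
    obtain ⟨hn, hπ⟩ := hN
    have h1 : (N.comap e.toMonoidHom).map e.toMonoidHom = N :=
      Subgroup.map_comap_eq_self_of_surjective e.surjective N
    have hmem : N.comap e.toMonoidHom ∈ {N : Subgroup A | N.Normal ∧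
        ∀ p : ℕ, p.Prime → p ∣ Nat.card N → p ∈ π} := by
      refine ⟨hn.comap e.toMonoidHom, ?_⟩
      have hc : Nat.card (N.comap e.toMonoidHom) = Nat.card N := by
        rw [← Subgroup.card_map_of_injective (K := N.comap e.toMonoidHom) (f := e.toMonoidHom)
          e.injective, h1]
      rw [hc]; exact hπ
    calc N = (N.comap e.toMonoidHom).map e.toMonoidHom := h1.symm
      _ ≤ _ := Subgroup.map_mono (le_sSup hmem)

variable {G : Type u} [Group G]

/-- `R(x) ≤ C_G(x)` -/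
theorem supportR_le_centralizer (M : Subgroup G) (x : G) :
    supportR M x ≤ centralizer ({x} : Set G) := by
  unfold supportR
  split_ifs with h
  · exact inf_le_right
  · exact bot_le

/-- `R(x) = 1` when `C_G(x) ≤ M` -/
theorem supportR_eq_bot_of_le {M : Subgroup G} {x : G} (h : centralizer ({x} : Set G) ≤ M) :
    supportR M x = ⊥ := by
  unfold supportR
  rw [dif_neg]
  intro h'
  exact h'.1 h

variable [Finite G]

/-- `σ(gMg⁻¹) = σ(M)` -/
theorem sigma_cj_eq (g : G) (M : Subgroup G) : sigma (cj g M) = sigma M := by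
  ext p
  constructor
  · intro hp
    have := Cfsg.Agent.Lib.Helper63.BG13.sigma_cj g⁻¹ hp
    rwa [cj_inv_cj] at this
  · exact Cfsg.Agent.Lib.Helper63.BG13.sigma_cj g

/-- `(gMg⁻¹)_σ = g M_σ g⁻¹` -/
theorem sigmaCore_cj (g : G) (M : Subgroup G) : sigmaCore (cj g M) = cj g (sigmaCore M) := by
  have h0 := piCore_map (sigma M) (cjEquiv g M)
  unfold sigmaCore
  rw [sigma_cj_eq]
  show (piCore (sigma M) ↥(cj g M)).map (cj g M).subtype =
    ((piCore (sigma M) ↥M).map M.subtype).map (MulAut.conj g).toMonoidHom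
  rw [← h0, Subgroup.map_map, Subgroup.map_map]
  rfl


/-! ### the three sets are pairwise disjoint -/

section Pair

variable {M Ms K Ks : Subgroup G}

/-- `|M_σ|` and `|K|` are coprime -/
theorem coprime_sigma_K (h : Pair M Ms K Ks) (hH : StmtHall G) :
    (Nat.card (sigmaCore M)).Coprime (Nat.card K) :=
  Nat.coprime_of_dvd (fun q hq h1 h2 => h.not_sigma_of_dvd_K hq h2 ((hH M h.hM).2.1 q hq h1))

/-- `|M_σ|` and `|M*_σ|` are coprime -/
theorem coprime_sigma (h : Pair M Ms K Ks) (hH : StmtHall G) (h78 : Stmt1378 G) :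
    (Nat.card (sigmaCore M)).Coprime (Nat.card (sigmaCore Ms)) :=
  Nat.coprime_of_dvd (fun q hq h1 h2 => by
    obtain ⟨g, hg⟩ := h78 M Ms h.hM h.hMs
      ⟨q, (hH M h.hM).2.1 q hq h1, (hH Ms h.hMs).2.1 q hq h2⟩
    exact h.not_conj hH g hg)

/-- `C_G(z) ≤ K K*` for `z ∈ Ẑ` -/
theorem cent_zhat_le (h : Pair M Ms K Ks) (hH : StmtHall G) (h31 : C1431 M K) {z : G}
    (hz : z ∈ (↑(K ⊔ Ks) : Set G) \ ((K : Set G) ∪ ↑Ks)) :
    centralizer ({z} : Set G) ≤ K ⊔ Ks := by
  intro g hg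
  have h1 : z * g = g * z := (Subgroup.mem_centralizer_iff.1 hg) z rfl
  have h2 : g * z * g⁻¹ = z := by rw [← h1]; group
  exact h.zhat_key hH h31 hz (by rw [h2]; exact hz)

/-- a `σ(M)`-element of `K K*` lies in `K*` -/
theorem mem_Ks_of_pow (h : Pair M Ms K Ks) (hH : StmtHall G) {d : G} (hd : d ∈ K ⊔ Ks)
    (hdw : d ^ Nat.card (sigmaCore M) = 1) : d ∈ Ks := by
  obtain ⟨a1, a2, a3, a4⟩ :=
    Cfsg.Agent.Lib.Helper19.BG14.pow_facts h.comm (h.coprime_card hH) hd
  by_contra hdK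
  have h1 := a4 hdK
  have h2 : (d ^ Nat.card Ks) ^ Nat.card (sigmaCore M) = 1 := by
    rw [← pow_mul, mul_comm, pow_mul, hdw, one_pow]
  exact pow_ne_one_of_coprime a2 h1 (coprime_sigma_K h hH) h2

/-- an element `a r` (`a ∈ M_σ#`, `r ∈ R(a)`) is not conjugate to an element of `Ẑ` -/
theorem tilde_ne_zconj (h : Pair M Ms K Ks) (hH : StmtHall G) (h31 : C1431 M K) {a r c z : G}
    (ha : a ∈ sigmaCore M) (ha1 : a ≠ 1) (hr : r ∈ supportR M a)
    (hz : z ∈ (↑(K ⊔ Ks) : Set G) \ ((K : Set G) ∪ ↑Ks)) : a * r ≠ c * z * c⁻¹ := by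
  intro heq
  have haw : a ^ Nat.card (sigmaCore M) = 1 := pow_card_eq_one_of_mem ha
  have haM : a ∈ M := sigmaCore_le' M ha
  by_cases hC : centralizer ({a} : Set G) ≤ M
  · -- `r = 1`
    rw [supportR_eq_bot_of_le hC, Subgroup.mem_bot] at hr
    rw [hr, mul_one] at heq
    have hz' : z = c⁻¹ * a * c := by rw [heq]; group
    have hzw : z ^ Nat.card (sigmaCore M) = 1 := by
      rw [hz']
      have : (c⁻¹ * a * c) ^ Nat.card (sigmaCore M) = c⁻¹ * a ^ Nat.card (sigmaCore M) * c := by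
        have := conj_pow (a := c⁻¹) (i := Nat.card (sigmaCore M)) (b := a)
        simpa using this
      rw [this, haw]; group
    exact hz.2 (Or.inr (mem_Ks_of_pow h hH hz.1 hzw))
  · -- `r` commutes with `a`
    have hra : a * r = r * a :=
      (Subgroup.mem_centralizer_iff.1 (supportR_le_centralizer M a hr)) a rfl
    set d : G := c⁻¹ * a * c with hd
    have hdz : z * d = d * z := by
      have hz' : z = c⁻¹ * (a * r) * c := by rw [heq]; group
      rw [hd, hz']
      have e1 : c⁻¹ * (a * r) * c * (c⁻¹ * a * c) = c⁻¹ * ((a * r) * a) * c := by group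
      have e2 : c⁻¹ * a * c * (c⁻¹ * (a * r) * c) = c⁻¹ * (a * (a * r)) * c := by group
      have e3 : a * r * a = a * (a * r) := by rw [mul_assoc, ← hra]
      rw [e1, e2, e3]
    have hdC : d ∈ centralizer ({z} : Set G) := by
      rw [Subgroup.mem_centralizer_iff]
      intro y hy
      rw [Set.mem_singleton_iff] at hy
      rw [hy]; exact hdz
    have hdZ : d ∈ K ⊔ Ks := cent_zhat_le h hH h31 hz hdC
    have hdw : d ^ Nat.card (sigmaCore M) = 1 := by
      have : (c⁻¹ * a * c) ^ Nat.card (sigmaCore M) = c⁻¹ * a ^ Nat.card (sigmaCore M) * c := by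
        have := conj_pow (a := c⁻¹) (i := Nat.card (sigmaCore M)) (b := a)
        simpa using this
      rw [hd, this, haw]; group
    have hdKs : d ∈ Ks := mem_Ks_of_pow h hH hdZ hdw
    have hd1 : d ≠ 1 := by
      intro h0
      apply ha1
      have : a = c * d * c⁻¹ := by rw [hd]; group
      rw [this, h0]; group
    -- `c ∈ M`
    have hcM : c ∈ M := by
      by_contra hc
      have hc' : c⁻¹ ∉ M := fun h0 => hc (by simpa using M.inv_mem h0)
      have h1 := h31.1 c⁻¹ hc'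
      rw [← h.hKsdef] at h1
      have h2 : d ∈ Ks ⊓ M.map (MulAut.conj c⁻¹).toMonoidHom := by
        refine Subgroup.mem_inf.2 ⟨hdKs, a, haM, ?_⟩
        change (MulAut.conj c⁻¹) a = d
        rw [MulAut.conj_apply, hd, inv_inv]
      rw [h1, Subgroup.mem_bot] at h2
      exact hd1 h2
    apply hC
    intro y hy
    have hya : a * y = y * a := (Subgroup.mem_centralizer_iff.1 hy) a rfl
    have h3 : d * (c⁻¹ * y * c) = (c⁻¹ * y * c) * d := by
      rw [hd]
      have e1 : c⁻¹ * a * c * (c⁻¹ * y * c) = c⁻¹ * (a * y) * c := by group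
      have e2 : c⁻¹ * y * c * (c⁻¹ * a * c) = c⁻¹ * (y * a) * c := by group
      rw [e1, e2, hya]
    have h4 : c⁻¹ * y * c ∈ M := h.mem_of_commute h31 hdKs hd1 h3
    have h5 : y = c * (c⁻¹ * y * c) * c⁻¹ := by group
    rw [h5]
    exact M.mul_mem (M.mul_mem hcM h4) (M.inv_mem hcM)

/-- elements `a r` and `a' r'` of the two `Ã`-sets are not conjugate -/
theorem tilde_ne_tilde (h : Pair M Ms K Ks) (hH : StmtHall G) (h78 : Stmt1378 G)
    (h33 : Stmt1433 G) {a r a' r' c : G}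
    (ha : a ∈ sigmaCore M) (ha1 : a ≠ 1) (hr : r ∈ supportR M a)
    (ha' : a' ∈ sigmaCore Ms) (ha'1 : a' ≠ 1) (hr' : r' ∈ supportR Ms a') :
    a * r ≠ c * (a' * r') * c⁻¹ := by
  intro heq
  have hN : IsCoatom (cj c Ms) := Cfsg.Agent.Lib.Helper63.BG13.isCoatom_cj h.hMs c
  have hy : c * a' * c⁻¹ ∈ sigmaCore (cj c Ms) := by
    rw [sigmaCore_cj]; exact conj_mem_cj ha'
  have hs : c * r' * c⁻¹ ∈ supportR (cj c Ms) (c * a' * c⁻¹) := by
    rw [supportR_cj]; exact conj_mem_cj hr'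
  have hy1 : c * a' * c⁻¹ ≠ 1 := by
    intro h0
    apply ha'1
    have : a' = c⁻¹ * (c * a' * c⁻¹) * c := by group
    rw [this, h0]; group
  have hay : a ≠ c * a' * c⁻¹ := by
    intro h0
    have h1 : orderOf a ∣ Nat.card (sigmaCore M) := Subgroup.orderOf_dvd_natCard _ ha
    have h2 : orderOf a ∣ Nat.card (sigmaCore Ms) := by
      rw [h0, ← card_cj c (sigmaCore Ms)]
      exact Subgroup.orderOf_dvd_natCard _ (conj_mem_cj ha')
    have h3 : orderOf a = 1 := Nat.eq_one_of_dvd_coprimes (coprime_sigma h hH h78) h1 h2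
    exact ha1 (orderOf_eq_one_iff.1 h3)
  apply h33 M (cj c Ms) h.hM hN a (c * a' * c⁻¹) ha hy ha1 hy1 hay r hr (c * r' * c⁻¹) hs
  rw [heq]; group

end Pair

/-! ### the count -/

/-- the arithmetic of the count -/
theorem arith_count (n w v k ks I J a b c m m' : ℕ) (hn : 0 < n)
    (hk : 2 ≤ k) (hks : 2 ≤ ks) (h1 : n = w * k * I) (h2 : n = v * ks * J)
    (ha : a = (w - 1) * I) (hb : b = (v - 1) * J)
    (hc : k * ks * c = (k * ks - k - ks + 1) * n) (hwm : w = ks * m) (hvm : v = k * m')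
    (hm : 3 ≤ m) (hm' : 3 ≤ m') (hsum : a + b + c ≤ n) : False := by
  obtain ⟨k', rfl⟩ : ∃ k', k = k' + 1 := ⟨k - 1, by omega⟩
  obtain ⟨ks', rfl⟩ : ∃ ks', ks = ks' + 1 := ⟨ks - 1, by omega⟩
  have hw1 : 1 ≤ w := by
    rw [hwm]; exact Nat.mul_pos (by omega) (by omega)
  have hv1 : 1 ≤ v := by
    rw [hvm]; exact Nat.mul_pos (by omega) (by omega)
  obtain ⟨w', rfl⟩ : ∃ w', w = w' + 1 := ⟨w - 1, by omega⟩
  obtain ⟨v', rfl⟩ : ∃ v', v = v' + 1 := ⟨v - 1, by omega⟩
  have e1 : w' + 1 - 1 = w' := by omega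
  have e2 : v' + 1 - 1 = v' := by omega
  rw [e1] at ha
  rw [e2] at hb
  have e3 : (k' + 1) * (ks' + 1) - (k' + 1) - (ks' + 1) + 1 = k' * ks' := by
    have h5 : (k' + 1) * (ks' + 1) = k' * ks' + k' + ks' + 1 := by ring
    have h6 : 1 ≤ k' * ks' := Nat.mul_pos (by omega) (by omega)
    rw [h5]; omega
  rw [e3] at hc
  -- the products
  set X := (k' + 1) * (ks' + 1) * I with hX
  set Y := (k' + 1) * (ks' + 1) * J with hY
  have hP : (k' + 1) * (ks' + 1) * a + X = (ks' + 1) * n := by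
    rw [ha, hX, h1]; ring
  have hQ : (k' + 1) * (ks' + 1) * b + Y = (k' + 1) * n := by
    rw [hb, hY, h2]; ring
  have hT : (k' + 1) * (ks' + 1) * (a + b + c) ≤ (k' + 1) * (ks' + 1) * n :=
    Nat.mul_le_mul_left _ hsum
  have hT' : (k' + 1) * (ks' + 1) * (a + b + c) =
      (k' + 1) * (ks' + 1) * a + (k' + 1) * (ks' + 1) * b + (k' + 1) * (ks' + 1) * c := by ring
  have hT'' : (k' + 1) * (ks' + 1) * n = k' * ks' * n + k' * n + ks' * n + n := by ring
  have hnX : 3 * X ≤ n := by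
    have : n = m * X := by rw [hX, h1, hwm]; ring
    rw [this]; exact Nat.mul_le_mul_right _ hm
  have hnY : 3 * Y ≤ n := by
    have : n = m' * Y := by rw [hY, h2, hvm]; ring
    rw [this]; exact Nat.mul_le_mul_right _ hm'
  have hu : (ks' + 1) * n = ks' * n + n := by ring
  have hu' : (k' + 1) * n = k' * n + n := by ring
  rw [hT', hT'', hc] at hT
  rw [hu] at hP
  rw [hu'] at hQ
  generalize (k' + 1) * (ks' + 1) * a = P at *
  generalize (k' + 1) * (ks' + 1) * b = Q at *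
  generalize k' * ks' * n = R at *
  generalize k' * n = u at *
  generalize ks' * n = u' at *
  omega

section Pair

variable {M Ms K Ks : Subgroup G}

/-- `K*` is a proper subgroup of `M_σ` of index at least `3` -/
theorem exists_index_Ks (hG : IsMinSimpleOddOrder G) (h : Pair M Ms K Ks) (h31 : C1431 M K) :
    ∃ m : ℕ, Nat.card (sigmaCore M) = Nat.card Ks * m ∧ 3 ≤ m := by
  obtain ⟨m, hm⟩ := Subgroup.card_dvd_of_le h.Ks_le
  refine ⟨m, hm, ?_⟩
  have hodd : Odd (Nat.card (sigmaCore M)) :=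
    Cfsg.Agent.Lib.Helper23.odd_card_subgroup hG (sigmaCore M)
  have hpos : 0 < Nat.card (sigmaCore M) := Nat.card_pos
  have hm1 : m ≠ 1 := by
    intro h1
    rw [h1, mul_one] at hm
    -- `K* = M_σ`
    have heq : Ks = sigmaCore M := by
      apply Subgroup.eq_of_le_of_card_ge h.Ks_le
      rw [hm]
    have hcard : Nat.card Ks ≠ 1 := fun h0 => h.hKs1 ((Subgroup.card_eq_one).1 h0)
    obtain ⟨p, hp, hpd⟩ := Nat.exists_prime_and_dvd hcard
    have h3 := h31.2.2.1 p hp (by rw [← h.hKsdef]; exact hpd) default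
    apply h3.2.2
    rw [← h.hKsdef, heq]
    exact Subgroup.map_subtype_le _
  have hmodd : Odd m := by
    rw [hm] at hodd
    exact (Nat.odd_mul.1 hodd).2
  rcases hmodd with ⟨t, ht⟩
  rcases Nat.eq_zero_or_pos t with h0 | h0
  · rw [h0] at ht; omega
  · omega

/-- **BG 14.7 (count)**: `M = M_σ K` and `M* = M*_σ K*` cannot both hold. -/
theorem not_both_P1 (hG : IsMinSimpleOddOrder G) (h : Pair M Ms K Ks) (hH : StmtHall G)
    (h78 : Stmt1378 G) (h31 : C1431 M K) (h31s : C1431 Ms Ks) (h77 : Stmt1377 G)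
    (h33 : Stmt1433 G)
    (hP1 : Nat.card M = Nat.card (sigmaCore M) * Nat.card K)
    (hP1s : Nat.card Ms = Nat.card (sigmaCore Ms) * Nat.card Ks) : False := by
  classical
  set A : Set G := tildeOf M ((sigmaCore M : Set G) \ {1}) with hA
  set B : Set G := tildeOf Ms ((sigmaCore Ms : Set G) \ {1}) with hB
  set Z' : Set G := {a : G | ∃ g : G, ∃ z ∈ ((↑(K ⊔ Ks) : Set G) \ ((K : Set G) ∪ ↑Ks)),
    a = g * z * g⁻¹} with hZ'
  have hsymm : (↑(Ks ⊔ K) : Set G) \ ((Ks : Set G) ∪ ↑K) =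
      (↑(K ⊔ Ks) : Set G) \ ((K : Set G) ∪ ↑Ks) := by
    rw [sup_comm, Set.union_comm]
  -- disjointness
  have hAB : Disjoint A B := by
    rw [Set.disjoint_left]
    rintro x ⟨a, ha, r, hr, y, hxy⟩ ⟨a', ha', r', hr', y', hxy'⟩
    refine tilde_ne_tilde h hH h78 h33 (c := y⁻¹ * y') ha.1 (fun h0 => ha.2 h0) hr ha'.1
      (fun h0 => ha'.2 h0) hr' ?_
    have e1 : a * r = y⁻¹ * x * y := by rw [hxy]; group
    rw [e1, hxy']; group
  have hAZ : Disjoint A Z' := by
    rw [Set.disjoint_left]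
    rintro x ⟨a, ha, r, hr, y, hxy⟩ ⟨g, z, hz, hxz⟩
    refine tilde_ne_zconj h hH h31 (c := y⁻¹ * g) ha.1 (fun h0 => ha.2 h0) hr hz ?_
    have e1 : a * r = y⁻¹ * x * y := by rw [hxy]; group
    rw [e1, hxz]; group
  have hBZ : Disjoint B Z' := by
    rw [Set.disjoint_left]
    rintro x ⟨a, ha, r, hr, y, hxy⟩ ⟨g, z, hz, hxz⟩
    refine tilde_ne_zconj h.symm hH h31s (c := y⁻¹ * g) ha.1 (fun h0 => ha.2 h0) hr
      (by rw [hsymm]; exact hz) ?_
    have e1 : a * r = y⁻¹ * x * y := by rw [hxy]; group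
    rw [e1, hxz]; group
  -- cardinalities
  have hcA : A.ncard = (Nat.card (sigmaCore M) - 1) * M.index := h77 M h.hM
  have hcB : B.ncard = (Nat.card (sigmaCore Ms) - 1) * Ms.index := h77 Ms h.hMs
  have hcZ := (h.count hG hH h31).1
  have hsum : A.ncard + B.ncard + Z'.ncard ≤ Nat.card G := by
    have h1 : (A ∪ B ∪ Z').ncard = A.ncard + B.ncard + Z'.ncard := by
      rw [Set.ncard_union_eq (Set.disjoint_union_left.2 ⟨hAZ, hBZ⟩), Set.ncard_union_eq hAB]
    rw [← h1]
    exact Set.ncard_le_card _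
  obtain ⟨m, hm, hm3⟩ := exists_index_Ks hG h h31
  obtain ⟨m', hm', hm'3⟩ := exists_index_Ks hG h.symm h31s
  have hn1 : Nat.card G = Nat.card (sigmaCore M) * Nat.card K * M.index := by
    rw [← hP1]; exact (Subgroup.card_mul_index M).symm
  have hn2 : Nat.card G = Nat.card (sigmaCore Ms) * Nat.card Ks * Ms.index := by
    rw [← hP1s]; exact (Subgroup.card_mul_index Ms).symm
  exact arith_count (Nat.card G) (Nat.card (sigmaCore M)) (Nat.card (sigmaCore Ms)) (Nat.card K)
    (Nat.card Ks) M.index Ms.index A.ncard B.ncard Z'.ncard m m' Nat.card_pos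
    (by have := three_le_card hG h.hK1; omega) (by have := three_le_card hG h.hKs1; omega)
    hn1 hn2 hcA hcB hcZ hm hm' hm3 hm'3 hsum

end Pair

end Cfsg.Agent.Lib.Helper56.BG147
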