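import Cfsg.Agent.Lib.Helper56.BG147
import Cfsg.Agent.Lib.Helper19.BG14B
import Cfsg.Agent.Lib.Helper24.BG121
import Cfsg.Agent.Lib.Helper23.TypeP

set_option autoImplicit false
set_option linter.style.haveILetI false
set_option linter.unusedSectionVars false
set_option linter.unusedVariables false

/-!
# `K*` is cyclic (BG 14.3 / 14.7) for a pair `(M, M*)`

If `K*` were not cyclic, then `M_σ ≥ K*` is not nilpotent, so `M = M_σ K` (S1429), and
`κ(M*) ⊄ τ₁(M*)`, so `M* = M*_σ K*` (BG 13.11); this contradicts the count `not_both_P1`.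
-/

namespace Cfsg.Agent.Lib.Helper56.BG147

open Subgroup Cfsg Cfsg.Agent.Lib.Helper33 Cfsg.Agent.Lib.Helper56.BG143
open scoped Pointwise commutatorElement

universe u

variable {G : Type u} [Group G] [Finite G]

/-- the last clause of S1429 as a hypothesis -/
def Stmt1429 (G : Type u) [Group G] : Prop :=
  ∀ M : Subgroup G, IsCoatom M →
    (¬ ∀ q : ℕ, q.Prime → q ∣ Nat.card M → q ∉ sigma M → q ∈ kappa M) →
    ∀ p : ℕ, p.Prime → p ∣ Nat.card M → p ∉ sigma M ∪ kappa M →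
      Group.IsNilpotent (sigmaCore M)

/-- BG 13.11 (the exceptional case): if `κ(M) ⊄ τ₁(M)` then a Hall `κ(M)`-subgroup is a complement
of `M_σ` in `M` -/
def StmtExc (G : Type u) [Group G] : Prop :=
  ∀ M K : Subgroup G, IsCoatom M → IsPiHallOf (kappa M) K M → ¬ kappa M ⊆ tau1 M →
    IsComplIn K (sigmaCore M) M

/-- all Sylow subgroups of a `κ(M)`-subgroup of `M` are cyclic -/
theorem isZGroup_of_kappa {M K : Subgroup G} (hKM : K ≤ M)
    (hKκ : ∀ p : ℕ, p.Prime → p ∣ Nat.card K → p ∈ kappa M) : IsZGroup ↥K := by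
  classical
  refine ⟨fun p hp P => ?_⟩
  haveI : Fact p.Prime := ⟨hp⟩
  by_cases hpd : p ∣ Nat.card K
  · have hκ := hKκ p hp hpd
    let f : ↥K →* ↥M := Subgroup.inclusion hKM
    have hf : Function.Injective f := Subgroup.inclusion_injective hKM
    have hPp : IsPGroup p ((P : Subgroup ↥K).map f) := P.2.map f
    obtain ⟨Q, hPQ⟩ := hPp.exists_le_sylow
    have hQc : IsCyclic Q := (hκ.2.2.2 Q).1
    have e1 : ↥(P : Subgroup ↥K) ≃* ↥((P : Subgroup ↥K).map f) :=
      (P : Subgroup ↥K).equivMapOfInjective f hf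
    have hc2 : IsCyclic ↥(((P : Subgroup ↥K).map f).subgroupOf Q) := Subgroup.isCyclic _
    have e2 := (Subgroup.subgroupOfEquivOfLe hPQ)
    have hc3 : IsCyclic ↥((P : Subgroup ↥K).map f) :=
      isCyclic_of_surjective e2.toMonoidHom e2.surjective
    exact isCyclic_of_surjective e1.symm.toMonoidHom e1.symm.surjective
  · have h1 : Nat.card (P : Subgroup ↥K) = 1 := by
      obtain ⟨n, hn⟩ := IsPGroup.iff_card.1 P.2
      rcases Nat.eq_zero_or_pos n with h0 | h0
      · rw [hn, h0, pow_zero]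
      · exfalso
        apply hpd
        have : p ∣ Nat.card (P : Subgroup ↥K) := by rw [hn]; exact dvd_pow_self p h0.ne'
        exact this.trans (Subgroup.card_subgroup_dvd_card _)
    haveI : Subsingleton ↥(P : Subgroup ↥K) := (Nat.card_eq_one_iff_unique.1 h1).1
    exact isCyclic_of_subsingleton

/-- if `κ(M) ⊆ τ₁(M)` then every Hall `κ(M)`-subgroup of `M` is cyclic -/
theorem isCyclic_of_kappa_subset_tau1 {M K : Subgroup G} (hK : IsPiHallOf (kappa M) K M)
    (hκ : kappa M ⊆ tau1 M) : IsCyclic K := by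
  classical
  obtain ⟨hKM, hKκ, -⟩ := hK
  have hinf : K ⊓ ⁅M, M⁆ = ⊥ := by
    rw [← Subgroup.card_eq_one]
    by_contra hne
    obtain ⟨p, hp, hpd⟩ := Nat.exists_prime_and_dvd hne
    have h1 : p ∣ Nat.card K := hpd.trans (Subgroup.card_dvd_of_le inf_le_left)
    have h2 : p ∣ Nat.card ↥⁅M, M⁆ := hpd.trans (Subgroup.card_dvd_of_le inf_le_right)
    exact (hκ (hKκ p hp h1)).2.2.2.1 h2
  have hcomm : ∀ a ∈ K, ∀ b ∈ K, a * b = b * a := by
    intro a ha b hb
    have h1 : ⁅a, b⁆ ∈ K ⊓ ⁅M, M⁆ :=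
      ⟨K.mul_mem (K.mul_mem (K.mul_mem ha hb) (K.inv_mem ha)) (K.inv_mem hb),
        Subgroup.commutator_mem_commutator (hKM ha) (hKM hb)⟩
    rw [hinf, Subgroup.mem_bot] at h1
    exact (commutatorElement_eq_one_iff_mul_comm.1 h1)
  letI : CommGroup ↥K :=
    { (inferInstance : Group ↥K) with
      mul_comm := fun a b => Subtype.ext (hcomm a.1 a.2 b.1 b.2) }
  haveI : Group.IsNilpotent ↥K := CommGroup.isNilpotent
  haveI : IsZGroup ↥K := isZGroup_of_kappa hKM hKκ
  infer_instance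

/-- if every prime of `M` outside `σ(M)` lies in `κ(M)` then a Hall `κ(M)`-subgroup is a complement
of `M_σ` -/
theorem isComplIn_of_P1 {M K : Subgroup G} (hS : IsPiHallOf (sigma M) (sigmaCore M) M)
    (hP1 : ∀ q : ℕ, q.Prime → q ∣ Nat.card M → q ∉ sigma M → q ∈ kappa M)
    (hK : IsPiHallOf (kappa M) K M) : IsComplIn K (sigmaCore M) M := by
  have hSn : M ≤ normalizer ((sigmaCore M : Subgroup G) : Set G) :=
    Cfsg.Agent.Lib.Helper24.BG.le_normalizer_sigmaCore M
  have hKM := hK.1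
  have hSM := hS.1
  have hKS : K ≤ normalizer ((sigmaCore M : Subgroup G) : Set G) := hKM.trans hSn
  have hMH : M ≤ K ⊔ sigmaCore M := by
    rw [← relIndex_eq_one]
    by_contra h1
    obtain ⟨p, hp, hpd⟩ := Nat.exists_prime_and_dvd h1
    have hpM : p ∣ Nat.card M := by
      have h2 : (K ⊔ sigmaCore M).relIndex M ∣ Nat.card M := by
        have := Subgroup.index_dvd_card ((K ⊔ sigmaCore M).subgroupOf M)
        exact this
      exact hpd.trans h2
    by_cases hpσ : p ∈ sigma M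
    · exact hS.2.2 p hp hpσ (hpd.trans (relIndex_dvd_of_le_left M le_sup_right))
    · exact hK.2.2 p hp (hP1 p hp hpM hpσ)
        (hpd.trans (relIndex_dvd_of_le_left M le_sup_left))
  refine ⟨hKM, hSM, ?_, ?_⟩
  · apply Cfsg.Agent.Lib.Helper19.BG14.inf_eq_bot_of_primes
    intro p hp hpK hpS
    exact (hK.2.1 p hp hpK).2.2.1 (hS.2.1 p hp hpS)
  · intro m hm
    exact Cfsg.Agent.Lib.Helper19.BG14.mul_decomp hKS (hMH hm)

section Pair

variable {M Ms K Ks : Subgroup G}

/-- **`K*` is cyclic.** -/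
theorem Ks_isCyclic (hG : IsMinSimpleOddOrder G) (h : Pair M Ms K Ks) (hH : StmtHall G)
    (h78 : Stmt1378 G) (h31 : C1431 M K) (h31s : C1431 Ms Ks) (h77 : Stmt1377 G)
    (h33 : Stmt1433 G) (h29 : Stmt1429 G) (hE : StmtExc G) : IsCyclic Ks := by
  classical
  by_contra hnc
  haveI hZ : IsZGroup ↥Ks := isZGroup_of_kappa h.hKs.1 h.hKs.2.1
  -- `M_σ` is not nilpotent
  have hnil : ¬ Group.IsNilpotent (sigmaCore M) := by
    intro hn
    haveI := hn
    haveI : Group.IsNilpotent ↥(Ks.subgroupOf (sigmaCore M)) := inferInstance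
    haveI : Group.IsNilpotent ↥Ks :=
      Group.nilpotent_of_mulEquiv (Subgroup.subgroupOfEquivOfLe h.Ks_le)
    exact hnc inferInstance
  -- `M = M_σ K`
  have hP1 : ∀ q : ℕ, q.Prime → q ∣ Nat.card M → q ∉ sigma M → q ∈ kappa M := by
    by_contra hcon
    have hcon' := hcon
    push Not at hcon'
    obtain ⟨p, hp, hpM, hpσ, hpκ⟩ := hcon'
    exact hnil (h29 M h.hM hcon p hp hpM (fun h0 => h0.elim hpσ hpκ))
  have hc1 := Cfsg.Agent.Lib.Helper23.card_isComplIn (isComplIn_of_P1 (hH M h.hM) hP1 h.hK)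
  -- `M* = M*_σ K*`
  have hκ : ¬ kappa Ms ⊆ tau1 Ms := fun h0 => hnc (isCyclic_of_kappa_subset_tau1 h.hKs h0)
  have hc2 := Cfsg.Agent.Lib.Helper23.card_isComplIn (hE Ms Ks h.hMs h.hKs hκ)
  exact not_both_P1 hG h hH h78 h31 h31s h77 h33 (by rw [← hc1, mul_comm])
    (by rw [← hc2, mul_comm])

end Pair

end Cfsg.Agent.Lib.Helper56.BG147
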