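import Cfsg.Agent.Lib.Helper56.BG1363w
import Cfsg.Agent.S1366

set_option autoImplicit false

/-!
# S1363 from clause 4 of S1435 (uses the real S1366 for the partner `M*`)
-/

namespace Cfsg.Agent.Lib.Helper56.BG1363w

open Subgroup Cfsg

universe u

variable {G : Type u} [Group G] [Finite G]

theorem partner (hG : IsMinSimpleOddOrder G) : Partner G :=
  fun M hM K U hKU hK1 => (Cfsg.Agent.S1366.result hG M hM K U hKU hK1).exists

/-- **S1363 from clause 4 of S1435.** -/
theorem s1363_of_clause4 (hG : IsMinSimpleOddOrder G) (h4 : Clause4 G)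
    (M : Subgroup G) (hM : IsCoatom M) (K U : Subgroup G) (hKU : IsSigmaDecomposition M K U)
    (hK1 : K ≠ ⊥) :
    IsMulCommutative U ∧ ¬ Subgroup.normalizer (U : Set G) ≤ M :=
  w3_s1363_of hG h4 (partner hG) M hM K U hKU hK1

end Cfsg.Agent.Lib.Helper56.BG1363w
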