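import Cfsg.Agent.S1430
import Cfsg.Agent.Lib.Helper76.BGSigU
import Cfsg.Agent.Lib.Helper68.BG1215b
import Cfsg.Agent.Lib.Helper47.BG147P
import Cfsg.Agent.Lib.Helper23.FitUniqueB

set_option autoImplicit false
set_option linter.style.haveILetI false
set_option linter.unusedSectionVars false
set_option linter.unusedVariables false

/-!
# Wrapper pieces for S1363 / S1435 (helper23's split #3747)

* `w1_isMulCommutative_U` : for a standard factorisation `M = K U M_σ` with `K ≠ 1`, `U` is abelian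
  (Hall conjugacy to the abelian Hall subgroup of S1430(2)).
* `w2_exists_sylow_coatom` : for `1 ≠ U ≤ M`, there are a prime `r ∣ |U|`, a Sylow `r`-subgroup `R`
  of `U` and a maximal subgroup `H` of `G` containing `N_G(R)`.
-/

namespace Cfsg.Agent.Lib.Helper56.BG1363w

open Subgroup Cfsg Cfsg.Agent.Lib.Helper33

universe u

variable {G : Type u} [Group G] [Finite G]

/-- every prime divisor of `|U|` lies outside `σ(M)` -/
theorem w1_not_sigma (hG : IsMinSimpleOddOrder G) {M K U : Subgroup G} (hM : IsCoatom M)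
    (hKU : IsSigmaDecomposition M K U) {r : ℕ} (hr : r.Prime) (hrU : r ∣ Nat.card U) :
    r ∉ sigma M := by
  haveI : Fact r.Prime := ⟨hr⟩
  obtain ⟨x, hx⟩ := exists_prime_orderOf_dvd_card' r hrU
  have hx1 : (x : G) ≠ 1 := by
    intro h
    have : x = 1 := Subtype.ext h
    rw [this, orderOf_one] at hx
    exact hr.one_lt.ne hx
  have hxr : (x : G) ^ r = 1 := by
    have := pow_orderOf_eq_one x
    rw [hx] at this
    exact_mod_cast congrArg Subtype.val this
  exact Cfsg.Agent.Lib.Helper76.BGSigU.not_sigma_of_mem_U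
    (Cfsg.Agent.Lib.Helper47.BG11.sigmaHallIn_of_coatom hG hM) hKU x.2 hx1 hxr

/-- **(w1)** `U` is abelian when `K ≠ 1`. -/
theorem w1_isMulCommutative_U (hG : IsMinSimpleOddOrder G) {M K U : Subgroup G} (hM : IsCoatom M)
    (hKU : IsSigmaDecomposition M K U) (hK1 : K ≠ ⊥) : IsMulCommutative U := by
  classical
  obtain ⟨U', hU'ab, hU'hall, -, -⟩ := (Cfsg.Agent.S1430.result hG M hM K hKU.hall hK1).2.1
  haveI : Group.IsSolvable ↥M := Cfsg.Agent.Lib.Helper23.isSolvable_of_ne_top hG hM.1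
  have hUM : U ≤ M := hKU.compl.1
  have hUπ : ∀ p : ℕ, p.Prime → p ∣ Nat.card U →
      p ∈ {q : ℕ | q.Prime ∧ q ∉ kappa M ∧ q ∉ sigma M} := by
    intro p hp hpU
    exact ⟨hp, Cfsg.Agent.Lib.Helper76.BGSigU.not_kappa_of_dvd_card_U hKU hp hpU,
      w1_not_sigma hG hM hKU hp hpU⟩
  obtain ⟨g, -, hg⟩ := Cfsg.Agent.Lib.Helper68.BG1215.hall_pi_conj_le
    {q : ℕ | q.Prime ∧ q ∉ kappa M ∧ q ∉ sigma M} hU'hall.1 hU'hall.2.1 hU'hall.2.2 hUM hUπ
  refine ⟨⟨fun a b => ?_⟩⟩
  have ha : g * (a : G) * g⁻¹ ∈ U' := hg (mem_cj'.mpr ⟨a, a.2, rfl⟩)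
  have hb : g * (b : G) * g⁻¹ ∈ U' := hg (mem_cj'.mpr ⟨b, b.2, rfl⟩)
  have hc := hU'ab.is_comm.comm (⟨_, ha⟩ : U') ⟨_, hb⟩
  have hc' : g * (a : G) * g⁻¹ * (g * (b : G) * g⁻¹) = g * (b : G) * g⁻¹ * (g * (a : G) * g⁻¹) :=
    congrArg Subtype.val hc
  apply Subtype.ext
  have h1 : g * ((a : G) * (b : G)) * g⁻¹ = g * ((b : G) * (a : G)) * g⁻¹ := by
    calc g * ((a : G) * (b : G)) * g⁻¹ = g * (a : G) * g⁻¹ * (g * (b : G) * g⁻¹) := by group
      _ = g * (b : G) * g⁻¹ * (g * (a : G) * g⁻¹) := hc'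
      _ = g * ((b : G) * (a : G)) * g⁻¹ := by group
  have h2 : g * ((a : G) * (b : G)) = g * ((b : G) * (a : G)) := mul_right_cancel h1
  exact mul_left_cancel h2

/-- **(w2)** for `1 ≠ U ≤ M` (`M` maximal): a prime `r ∣ |U|`, a Sylow `r`-subgroup `R` of `U` and a
maximal subgroup `H ≥ N_G(R)`; stated with the binders of S1435. -/
theorem w2_exists_sylow_coatom (hG : IsMinSimpleOddOrder G) {M U : Subgroup G} (hM : IsCoatom M)
    (hUM : U ≤ M) (hU1 : U ≠ ⊥) :
    ∃ (r : ℕ) (_ : Fact r.Prime) (_ : r ∣ Nat.card U) (R : Sylow r U) (H : Subgroup G),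
      IsCoatom H ∧
        Subgroup.normalizer (((R : Subgroup U).map U.subtype : Subgroup G) : Set G) ≤ H := by
  classical
  have hcard : Nat.card U ≠ 1 := by
    intro h
    exact hU1 (Subgroup.card_eq_one.mp h)
  obtain ⟨r, hr, hrU⟩ := Nat.exists_prime_and_dvd hcard
  haveI hrf : Fact r.Prime := ⟨hr⟩
  let R : Sylow r U := default
  refine ⟨r, hrf, hrU, R, ?_⟩
  set R' : Subgroup G := (R : Subgroup U).map U.subtype with hR'
  have hR'1 : R' ≠ ⊥ := by
    intro h
    have h1 : (R : Subgroup U) = ⊥ := by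
      rw [hR'] at h
      exact (Subgroup.map_eq_bot_iff_of_injective _ U.subtype_injective).mp h
    have h2 : Nat.card (R : Subgroup U) = 1 := by rw [h1]; exact Subgroup.card_bot
    have h3 := Sylow.card_eq_multiplicity R
    rw [h2] at h3
    have h4 : (Nat.card U).factorization r = 0 := by
      by_contra h0
      have : 1 < r ^ (Nat.card U).factorization r :=
        Nat.one_lt_pow h0 hr.one_lt
      omega
    have h5 : 0 < (Nat.card U).factorization r :=
      hr.factorization_pos_of_dvd Nat.card_pos.ne' hrU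
    omega
  have hR'M : R' ≤ M := (Subgroup.map_subtype_le _).trans hUM
  have hNtop : Subgroup.normalizer (R' : Set G) ≠ ⊤ := by
    intro h
    have hn : R'.Normal := Subgroup.normalizer_eq_top_iff.mp h
    haveI := hG.2.1
    rcases hn.eq_bot_or_eq_top with h0 | h0
    · exact hR'1 h0
    · exact hM.1 (top_le_iff.mp (h0 ▸ hR'M))
  obtain ⟨H, hH, hle⟩ := (eq_top_or_exists_le_coatom (Subgroup.normalizer (R' : Set G))).resolve_left hNtop
  exact ⟨H, hH, hle⟩

end Cfsg.Agent.Lib.Helper56.BG1363w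

namespace Cfsg.Agent.Lib.Helper56.BG1363w

open Subgroup Cfsg Cfsg.Agent.Lib.Helper33

universe u

variable {G : Type u} [Group G] [Finite G]

/-- clause 4 of S1435 (`H ∩ N_G(U) ⊄ M`), with the binders of S1435, as a hypothesis -/
def Clause4 (G : Type u) [Group G] : Prop :=
  ∀ (M : Subgroup G) (_ : IsCoatom M) (K U : Subgroup G) (_ : IsSigmaDecomposition M K U)
    (_ : K ≠ ⊥) (_ : U ≠ ⊥) (Mstar : Subgroup G) (_ : IsCoatom Mstar)
    (_ : K = sigmaCore Mstar ⊓
      Subgroup.centralizer ((sigmaCore M ⊓ Subgroup.centralizer (K : Set G)) : Set G))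
    (_ : IsPiHallOf (kappa Mstar) (sigmaCore M ⊓ Subgroup.centralizer (K : Set G)) Mstar)
    (r : ℕ) [Fact r.Prime] (_ : r ∣ Nat.card U) (R : Sylow r U) (H : Subgroup G) (_ : IsCoatom H)
    (_ : Subgroup.normalizer (((R : Subgroup U).map U.subtype : Subgroup G) : Set G) ≤ H),
    ¬ H ⊓ Subgroup.normalizer (U : Set G) ≤ M

/-- the existence part of S1366 as a hypothesis -/
def Partner (G : Type u) [Group G] : Prop :=
  ∀ (M : Subgroup G) (_ : IsCoatom M) (K U : Subgroup G) (_ : IsSigmaDecomposition M K U)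
    (_ : K ≠ ⊥), ∃ Mstar : Subgroup G, IsCoatom Mstar ∧
      K = sigmaCore Mstar ⊓
        Subgroup.centralizer ((sigmaCore M ⊓ Subgroup.centralizer (K : Set G)) : Set G) ∧
      IsPiHallOf (kappa Mstar) (sigmaCore M ⊓ Subgroup.centralizer (K : Set G)) Mstar

/-- **(w3)** S1363 from clause 4 of S1435 and the partner of S1366. -/
theorem w3_s1363_of (hG : IsMinSimpleOddOrder G) (h4 : Clause4 G) (hP : Partner G)
    (M : Subgroup G) (hM : IsCoatom M) (K U : Subgroup G) (hKU : IsSigmaDecomposition M K U)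
    (hK1 : K ≠ ⊥) :
    IsMulCommutative U ∧ ¬ Subgroup.normalizer (U : Set G) ≤ M := by
  refine ⟨w1_isMulCommutative_U hG hM hKU hK1, ?_⟩
  by_cases hU1 : U = ⊥
  · intro hle
    apply hM.1
    rw [eq_top_iff]
    intro x _
    apply hle
    rw [hU1, Subgroup.mem_normalizer_iff]
    intro h
    simp only [Subgroup.mem_bot]
    constructor
    · rintro rfl; simp
    · intro h1
      have : x * h = x := by
        have h2 := congrArg (fun y => y * x) h1
        simpa using h2
      exact mul_left_cancel (this.trans (mul_one x).symm)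
  · obtain ⟨Mstar, hMs, hKst, hKstH⟩ := hP M hM K U hKU hK1
    obtain ⟨r, hrf, hrU, R, H, hH, hNR⟩ := w2_exists_sylow_coatom hG hM hKU.compl.1 hU1
    intro hle
    exact h4 M hM K U hKU hK1 hU1 Mstar hMs hKst hKstH r hrU R H hH hNR
      (inf_le_right.trans hle)

end Cfsg.Agent.Lib.Helper56.BG1363w
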