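import Mathlib

/-!
# S2733 hive (helper37): leaf MB-SZ `odd_part` (pure group theory)
-/

set_option autoImplicit false

namespace Cfsg.Agent.Lib.Helper37.MBal

/-- trivial case: all `n`-th powers are `1`. -/
theorem sz_trivial {G : Type*} [Group G] (M : Subgroup G) (z : G) (n : ℕ)
    (h1 : ∀ k ∈ M, k ^ n = 1) :
    ∃ X : Subgroup G, X ≤ M ∧ (∀ k ∈ M, k ∈ X ∨ z * k ∈ X) ∧ (∀ k ∈ X, k ^ n = 1) ∧
      (∀ k ∈ M, k ^ n = 1 → k ∈ X) :=
  ⟨M, le_rfl, fun k hk => Or.inl hk, h1, fun k hk _ => hk⟩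

theorem sz_pow_odd {G : Type*} [Group G] (z : G) (hz2 : z * z = 1) (n : ℕ) (hn : Odd n) :
    z ^ n = z := by
  obtain ⟨m, rfl⟩ := hn
  rw [pow_succ, pow_mul, pow_two, hz2, one_pow, one_mul]

/-- (MB-SZ, pure group theory). -/
theorem odd_part {G : Type*} [Group G] (M : Subgroup G) [Finite ↥M] (z : G) (hz2 : z * z = 1)
    (hzc : ∀ k : G, z * k = k * z) (n : ℕ) (hn : Odd n)
    (hpow : ∀ k ∈ M, k ^ n = 1 ∨ k ^ n = z) :
    ∃ X : Subgroup G, X ≤ M ∧ (∀ k ∈ M, k ∈ X ∨ z * k ∈ X) ∧ (∀ k ∈ X, k ^ n = 1) ∧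
      (∀ k ∈ M, k ^ n = 1 → k ∈ X) := by
  classical
  by_cases hz1 : z = 1
  · exact sz_trivial M z n (fun k hk => by
      rcases hpow k hk with h | h
      · exact h
      · rw [h, hz1])
  by_cases hzM : z ∈ M
  swap
  · exact sz_trivial M z n (fun k hk => by
      rcases hpow k hk with h | h
      · exact h
      · exact absurd (h ▸ M.pow_mem hk n) hzM)
  -- main case
  set zM : ↥M := ⟨z, hzM⟩ with hzMdef
  have hzM2 : zM * zM = 1 := Subtype.ext hz2
  have hzM1 : zM ≠ 1 := fun h => hz1 (congrArg Subtype.val h)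
  have hzMc : ∀ k : ↥M, zM * k = k * zM := fun k => Subtype.ext (hzc k)
  have hpowM : ∀ k : ↥M, k ^ n = 1 ∨ k ^ n = zM := by
    intro k
    rcases hpow k k.2 with h | h
    · exact Or.inl (Subtype.ext h)
    · exact Or.inr (Subtype.ext h)
  set Z : Subgroup ↥M := Subgroup.zpowers zM with hZdef
  have hZmem : ∀ x : ↥M, x ∈ Z ↔ x = 1 ∨ x = zM := by
    intro x
    constructor
    · intro hx
      obtain ⟨i, rfl⟩ := Subgroup.mem_zpowers_iff.mp hx
      rcases Int.even_or_odd i with ⟨j, rfl⟩ | ⟨j, rfl⟩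
      · left
        rw [← two_mul, zpow_mul, zpow_two, hzM2, one_zpow]
      · right
        rw [zpow_add, zpow_mul, zpow_two, hzM2, one_zpow, one_mul, zpow_one]
    · rintro (rfl | rfl)
      · exact Z.one_mem
      · exact Subgroup.mem_zpowers zM
  have hZnormal : Z.Normal := by
    refine ⟨fun x hx g => ?_⟩
    rcases (hZmem x).mp hx with rfl | rfl
    · simp [Z.one_mem]
    · rw [← hzMc g, mul_inv_cancel_right]
      exact hx
  have hZcard : Nat.card Z = 2 := by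
    rw [hZdef, Nat.card_zpowers]
    exact orderOf_eq_prime (by rw [pow_two]; exact hzM2) hzM1
  -- the index of Z is odd
  have hidx : Nat.Coprime (Nat.card Z) Z.index := by
    rw [hZcard]
    rw [Nat.coprime_two_left, ← Nat.not_even_iff_odd]
    intro heven
    have h2 : 2 ∣ Nat.card (↥M ⧸ Z) := by
      rw [← Subgroup.index_eq_card]; exact even_iff_two_dvd.mp heven
    haveI : Fact (Nat.Prime 2) := ⟨Nat.prime_two⟩
    obtain ⟨q, hq⟩ := exists_prime_orderOf_dvd_card' 2 h2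
    obtain ⟨k, rfl⟩ := QuotientGroup.mk_surjective q
    have hqn : ((k : ↥M ⧸ Z)) ^ n = 1 := by
      rw [← QuotientGroup.mk_pow]
      rw [QuotientGroup.eq_one_iff, hZmem]
      exact hpowM k
    have hdvd : orderOf (k : ↥M ⧸ Z) ∣ n := orderOf_dvd_of_pow_eq_one hqn
    rw [hq] at hdvd
    exact (Nat.not_even_iff_odd.mpr hn) (even_iff_two_dvd.mpr hdvd)
  obtain ⟨H, hH⟩ := Subgroup.exists_right_complement'_of_coprime hidx
  have hdisj : Disjoint Z H := hH.disjoint
  have hHpow : ∀ h ∈ H, h ^ n = 1 := by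
    intro h hh
    rcases hpowM h with h1 | h1
    · exact h1
    · exfalso
      have hzH : zM ∈ H := h1 ▸ H.pow_mem hh n
      have : zM ∈ Z ⊓ H := ⟨Subgroup.mem_zpowers zM, hzH⟩
      rw [hdisj.eq_bot, Subgroup.mem_bot] at this
      exact hzM1 this
  have hdecomp : ∀ k : ↥M, k ∈ H ∨ zM * k ∈ H := by
    intro k
    obtain ⟨⟨⟨a, ha⟩, ⟨b, hb⟩⟩, hab⟩ := hH.existsUnique k |>.exists
    simp only at hab
    rcases (hZmem a).mp ha with rfl | rfl
    · left
      rw [← hab, one_mul]; exact hb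
    · right
      rw [← hab, ← mul_assoc, hzM2, one_mul]; exact hb
  refine ⟨H.map M.subtype, Subgroup.map_subtype_le H, ?_, ?_, ?_⟩
  · intro k hk
    rcases hdecomp ⟨k, hk⟩ with h | h
    · left
      exact ⟨⟨k, hk⟩, h, rfl⟩
    · right
      exact ⟨zM * ⟨k, hk⟩, h, rfl⟩
  · rintro _ ⟨h, hh, rfl⟩
    have := hHpow h hh
    have h2 := congrArg Subtype.val this
    simpa using h2
  · intro k hk hkn
    rcases hdecomp ⟨k, hk⟩ with h | h
    · exact ⟨⟨k, hk⟩, h, rfl⟩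
    · exfalso
      have h1 := hHpow _ h
      have h2 : (zM * ⟨k, hk⟩ : ↥M) ^ n = zM := by
        have hcomm : Commute zM (⟨k, hk⟩ : ↥M) := hzMc _
        rw [hcomm.mul_pow, sz_pow_odd zM hzM2 n hn]
        have : (⟨k, hk⟩ : ↥M) ^ n = 1 := Subtype.ext hkn
        rw [this, mul_one]
      rw [h2] at h1
      exact hzM1 h1

end Cfsg.Agent.Lib.Helper37.MBal
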