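import Cfsg.Agent.Lib.Helper77.Fourier

set_option autoImplicit false

/-! Shared definition for the S4427 hive (architect helper56). -/

namespace Cfsg.Agent.Lib.P3

open Cfsg

universe u

variable {G : Type u} [Group G]

/-- Coefficient function of the idempotent `e_Q = |Q|⁻¹ ∑_{y ∈ Q} y` of the group algebra. -/
noncomputable def avgCoeff (Q : Subgroup G) : G → ℂ :=
  fun g => by classical exact if g ∈ Q then (Nat.card Q : ℂ)⁻¹ else 0

end Cfsg.Agent.Lib.P3
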