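import Cfsg.Agent.Lib.Helper47.BG11a
import Cfsg.Agent.Lib.Helper24.Coprime
import Cfsg.Agent.Lib.Helper24.Glauberman

set_option autoImplicit false
set_option linter.style.haveILetI false
set_option linter.unusedSectionVars false

/-!
# Bender–Glauberman Theorem 12.5 (assembly)

Theorem 12.5 from Lemma 12.4 (statement S1416), Lemma 10.5 (statement S1408) and the results of
§11 on exceptional maximal subgroups, packaged as the structure `Sec11`.
-/

namespace Cfsg.Agent.Lib.Helper56.BG125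

open Subgroup Cfsg Cfsg.Agent.Lib.Helper47.BG11

universe u

variable {G : Type u} [Group G] [Finite G]

/-- The statement of S1416 (B&G Lemma 12.4). -/
def Stmt1416 (G : Type u) [Group G] : Prop :=
  ∀ (M : Subgroup G), IsCoatom M → ∀ (p : ℕ) [Fact p.Prime] (A : Subgroup G),
    (A ≤ M ∧ Cfsg.IsElementaryAbelian p A ∧ Nat.card A = p ^ 2) →
    centralizer (A : Set G) ≤ M ∧
      ((∀ A₀ : Subgroup G, A₀ ≤ A → Nat.card A₀ = p →
          ¬ (normalizer (A₀ : Set G) ≤ M ∧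
            ∀ L : Subgroup G, IsCoatom L → normalizer (A₀ : Set G) ≤ L → L = M)) →
        p ∈ Cfsg.sigma M ∧ Cfsg.alphaCore M = ⊥ ∧ Group.IsNilpotent (Cfsg.sigmaCore M))

/-- The second part of the statement of S1408 (B&G Lemma 10.5). -/
def StmtMaxA (G : Type u) [Group G] : Prop :=
  ∀ (M : Subgroup G), IsCoatom M → ∀ (p : ℕ) [Fact p.Prime], p ∉ Cfsg.sigma M →
    Cfsg.PRankLE p 2 M → ¬ Cfsg.PRankLE p 1 M →
    ∀ A : Subgroup G, A ≤ M → Cfsg.IsElementaryAbelian p A → Nat.card A = p ^ 2 →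
      ∀ B : Subgroup G, Cfsg.IsElementaryAbelian p B → A ≤ B → B = A

/-- The results of B&G §11, for all exceptional data `(M, p, A₀, A)`. -/
structure Sec11 (G : Type u) [Group G] : Prop where
  /-- 11.3 -/
  nil : ∀ {M A₀ A : Subgroup G} {p : ℕ} [Fact p.Prime], Exc M p A₀ A →
    Group.IsNilpotent (Cfsg.sigmaCore M)
  /-- 11.4 -/
  uniq : ∀ {M A₀ A : Subgroup G} {p : ℕ} [Fact p.Prime], Exc M p A₀ A →
    ∀ H : Subgroup G, IsCoatom H → A ≤ H → Cfsg.sigmaCore H ⊓ Cfsg.sigmaCore M ≠ ⊥ → H = M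
  /-- 11.5 and 11.6 (a) -/
  syl : ∀ {M A₀ A : Subgroup G} {p : ℕ} [Fact p.Prime], Exc M p A₀ A →
    ∀ P : Sylow p M, IsMulCommutative (P : Subgroup M) ∧
      (A ≤ (P : Subgroup M).map M.subtype →
        (∀ x ∈ (P : Subgroup M).map M.subtype, x ^ p = 1 ↔ x ∈ A) ∧
        ¬ normalizer ((((P : Subgroup M).map M.subtype : Subgroup G)) : Set G) ≤ M)
  /-- 11.6 (b) -/
  cent : ∀ {M A₀ A : Subgroup G} {p : ℕ} [Fact p.Prime], Exc M p A₀ A →
    Cfsg.sigmaCore M ⊓ centralizer (A : Set G) = ⊥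
  /-- 11.6 (c) -/
  reg : ∀ {M A₀ A : Subgroup G} {p : ℕ} [Fact p.Prime], Exc M p A₀ A →
    ∃ A₁ : Subgroup G, A₁ ≤ A ∧ Nat.card A₁ = p ∧
      Cfsg.sigmaCore M ⊓ centralizer (A₁ : Set G) = ⊥
  /-- 11.7 -/
  norm : ∀ {M A₀ A : Subgroup G} {p : ℕ} [Fact p.Prime], Exc M p A₀ A →
    M ≤ normalizer ((Cfsg.sigmaCore M ⊔ A : Subgroup G) : Set G)

/-- An element of a finite group whose order is coprime to the index of a normal subgroup lies
in that subgroup. -/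
theorem mem_of_coprime_index {K : Type*} [Group K] [Finite K] (N : Subgroup K) [N.Normal]
    {x : K} (h : (orderOf x).Coprime N.index) : x ∈ N := by
  have h1 : orderOf (QuotientGroup.mk' N x) ∣ orderOf x := orderOf_map_dvd _ x
  have h2 : orderOf (QuotientGroup.mk' N x) ∣ N.index := by
    rw [Subgroup.index_eq_card]
    exact orderOf_dvd_natCard _
  have h3 : orderOf (QuotientGroup.mk' N x) = 1 := Nat.eq_one_of_dvd_coprimes h h1 h2
  rw [orderOf_eq_one_iff] at h3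
  exact (QuotientGroup.eq_one_iff x).mp h3

/-- A subgroup `D` of `N ⊔ A` (`A` normalizing `N`, `A ⊓ N = ⊥`) of order coprime to `|A|` lies
in `N`. -/
theorem le_of_le_sup_of_coprime {N A D : Subgroup G} (hAN : A ≤ normalizer (N : Set G))
    (h0 : A ⊓ N = ⊥) (hD : D ≤ A ⊔ N) (hcop : (Nat.card D).Coprime (Nat.card A)) : D ≤ N := by
  intro x hx
  haveI : (N.subgroupOf (A ⊔ N)).Normal := Subgroup.normal_subgroupOf_sup_of_le_normalizer hAN
  have hidx : (N.subgroupOf (A ⊔ N)).index = Nat.card A :=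
    Cfsg.Agent.Lib.Helper24.relIndex_sup_eq_card A N hAN h0
  have hxo : (orderOf (⟨x, hD hx⟩ : ↥(A ⊔ N))).Coprime (N.subgroupOf (A ⊔ N)).index := by
    rw [hidx]
    have h1 : orderOf (⟨x, hD hx⟩ : ↥(A ⊔ N)) = orderOf (⟨x, hx⟩ : ↥D) := by
      rw [← Subgroup.orderOf_coe, ← Subgroup.orderOf_coe]
    rw [h1]
    exact Nat.Coprime.coprime_dvd_left (orderOf_dvd_natCard _) hcop
  have := mem_of_coprime_index (N.subgroupOf (A ⊔ N)) hxo
  exact mem_subgroupOf.mp this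

/-- From Lemma 12.4: if `p ∉ σ(M)` then `(M, p, A₀, A)` is exceptional for some `A₀`. -/
theorem exists_exc (h16 : Stmt1416 G) {M A : Subgroup G} (hM : IsCoatom M) {p : ℕ} [Fact p.Prime]
    (hp : p ∉ Cfsg.sigma M) (hAM : A ≤ M) (hAe : Cfsg.IsElementaryAbelian p A)
    (hAc : Nat.card A = p ^ 2)
    (hmaxA : ∀ B : Subgroup G, Cfsg.IsElementaryAbelian p B → A ≤ B → B = A) :
    ∃ A₀ : Subgroup G, Exc M p A₀ A := by
  obtain ⟨_, h2⟩ := h16 M hM p A ⟨hAM, hAe, hAc⟩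
  by_contra hne
  apply hp
  refine (h2 ?_).1
  intro A₀ hA₀ hc hN
  exact hne ⟨A₀, ⟨hM, hp, hAM, hAe, hAc, hA₀, hc, hN.1, hmaxA⟩⟩

/-- **B&G Theorem 12.5**, from Lemma 12.4, Lemma 10.5 and §11. -/
theorem thm_12_5 (hG : Cfsg.IsMinSimpleOddOrder G) (h16 : Stmt1416 G) (hmax : StmtMaxA G)
    (hσ : ∀ M : Subgroup G, IsCoatom M → SigmaHallIn M) (pk : Sec11 G)
    (M : Subgroup G) (hM : IsCoatom M) (p : ℕ) [Fact p.Prime] (hp : p ∈ Cfsg.tau2 M)
    (A : Subgroup G) (hA : A ≤ M ∧ Cfsg.IsElementaryAbelian p A ∧ Nat.card A = p ^ 2) :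
    Group.IsNilpotent (Cfsg.sigmaCore M) ∧
      (∀ P : Sylow p M, IsMulCommutative (P : Subgroup M) ∧
        (A ≤ (P : Subgroup M).map M.subtype →
          (∀ x ∈ (P : Subgroup M).map M.subtype, x ^ p = 1 ↔ x ∈ A) ∧
          ¬ Subgroup.normalizer ((((P : Subgroup M).map M.subtype : Subgroup G)) : Set G) ≤ M)) ∧
      M ≤ Subgroup.normalizer ((Cfsg.sigmaCore M ⊔ A : Subgroup G) : Set G) ∧
      Cfsg.sigmaCore M ⊓ Subgroup.centralizer (A : Set G) = ⊥ ∧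
      (∀ Mstar : Subgroup G, IsCoatom Mstar → Mstar ≠ M → A ≤ Mstar →
        Cfsg.sigmaCore M ⊓ Mstar = ⊥) ∧
      ∃ A₁ : Subgroup G, A₁ ≤ A ∧ Nat.card A₁ = p ∧
        Cfsg.sigmaCore M ⊓ Subgroup.centralizer (A₁ : Set G) = ⊥ := by
  obtain ⟨_, hpσ, hr2, hr1⟩ := hp
  obtain ⟨hAM, hAe, hAc⟩ := hA
  have hmaxA := hmax M hM p hpσ hr2 hr1 A hAM hAe hAc
  obtain ⟨A₀, e⟩ := exists_exc h16 hM hpσ hAM hAe hAc hmaxA
  refine ⟨pk.nil e, pk.syl e, pk.norm e, pk.cent e, ?_, pk.reg e⟩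
  intro Ms hMs hne hAMs
  by_contra hD
  have hDσ : Cfsg.sigmaCore M ⊓ Ms ≤ Cfsg.sigmaCore M := inf_le_left
  have hAD : A ≤ normalizer ((Cfsg.sigmaCore M ⊓ Ms : Subgroup G) : Set G) :=
    le_normalizer_inf e.le_normalizer_sigmaCore (hAMs.trans le_normalizer)
  have hcop : (Nat.card A).Coprime (Nat.card ↥(Cfsg.sigmaCore M ⊓ Ms : Subgroup G)) :=
    e.coprime_card hDσ
  have hdec := Cfsg.Agent.Lib.Helper24.commutator_sup_centralizer_eq A (Cfsg.sigmaCore M ⊓ Ms)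
    hAD hcop (Or.inl (e.solvable hG))
  have hC : (Cfsg.sigmaCore M ⊓ Ms) ⊓ centralizer (A : Set G) = ⊥ := by
    rw [eq_bot_iff, ← pk.cent e]
    exact inf_le_inf_right _ hDσ
  rw [hC, sup_bot_eq] at hdec
  -- the key: `D ≤ (M*)_σ`
  have hDle : Cfsg.sigmaCore M ⊓ Ms ≤ Cfsg.sigmaCore Ms := by
    by_cases hpσ' : p ∈ Cfsg.sigma Ms
    · have hAσ : A ≤ Cfsg.sigmaCore Ms :=
        le_sigmaCore_of_sigma (hσ Ms hMs) hpσ' hAMs e.isPGroup
      rw [← hdec, Subgroup.commutator_le]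
      intro d hd a ha
      have hdn : d ∈ normalizer ((Cfsg.sigmaCore Ms : Subgroup G) : Set G) :=
        Cfsg.Agent.Lib.Helper24.BG.le_normalizer_sigmaCore Ms
          ((inf_le_right : Cfsg.sigmaCore M ⊓ Ms ≤ Ms) hd)
      have h1 : d * a * d⁻¹ ∈ Cfsg.sigmaCore Ms := (mem_normalizer_iff.mp hdn a).mp (hAσ ha)
      rw [commutatorElement_def]
      exact (Cfsg.sigmaCore Ms).mul_mem h1 ((Cfsg.sigmaCore Ms).inv_mem (hAσ ha))
    · obtain ⟨A₀', e'⟩ := exists_exc h16 hMs hpσ' hAMs hAe hAc hmaxA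
      have hn := pk.norm e'
      have h1 : Cfsg.sigmaCore M ⊓ Ms ≤ A ⊔ Cfsg.sigmaCore Ms := by
        rw [← hdec, Subgroup.commutator_le]
        intro d hd a ha
        have hdn := hn ((inf_le_right : Cfsg.sigmaCore M ⊓ Ms ≤ Ms) hd)
        have haL : a ∈ Cfsg.sigmaCore Ms ⊔ A :=
          (le_sup_right : A ≤ Cfsg.sigmaCore Ms ⊔ A) ha
        have h1 : d * a * d⁻¹ ∈ Cfsg.sigmaCore Ms ⊔ A :=
          (mem_normalizer_iff.mp hdn a).mp haL
        rw [commutatorElement_def, sup_comm]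
        exact Subgroup.mul_mem _ h1 (Subgroup.inv_mem _ haL)
      have h0 : A ⊓ Cfsg.sigmaCore Ms = ⊥ :=
        Subgroup.inf_eq_bot_of_coprime (e'.coprime_card le_rfl)
      exact le_of_le_sup_of_coprime e'.le_normalizer_sigmaCore h0 h1 hcop.symm
  apply hne
  refine pk.uniq e Ms hMs hAMs ?_
  intro hbot
  apply hD
  rw [eq_bot_iff, ← hbot]
  exact le_inf hDle hDσ

end Cfsg.Agent.Lib.Helper56.BG125
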