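import Cfsg.Agent.Lib.Helper22.BG144d
import Cfsg.Agent.Lib.Helper70.BG14Final
import Cfsg.Agent.Lib.Helper55.Cores
import Cfsg.Agent.Lib.Helper76.BGSigU
import Cfsg.Agent.S1408
import Cfsg.Agent.S1414
import Cfsg.Agent.S1417
import Cfsg.Agent.S1429
import Cfsg.Agent.S1423
import Cfsg.Agent.S1425
import Cfsg.Agent.Lib.Helper63.BG13d
import Cfsg.Agent.Lib.Helper56.BG147

set_option autoImplicit false
set_option linter.style.haveILetI false
set_option linter.unusedSectionVars false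
set_option linter.unusedVariables false

/-!
# LEMMA D (B&G 14.4(d), Coq form): in a 14.4-configuration `(M, x, N)`, every prime of
`σ(N)` dividing `|M|` lies in `β(N)`  (helper70's paper proof, board #3947)
-/

namespace Cfsg.Agent.Lib.Helper56.BG144D

open Subgroup Cfsg Cfsg.Agent.Lib.Helper33

universe u

variable {G : Type u} [Group G] [Finite G]

/-- the `p`-part of a nilpotent subgroup `W`: a `p`-subgroup of `W` containing every `p`-element
of `W` -/
theorem exists_pPart {W : Subgroup G} (hW : Group.IsNilpotent W) (p : ℕ) [hp : Fact p.Prime] :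
    ∃ Pst : Subgroup G, Pst ≤ W ∧ IsPGroup p Pst ∧
      (∀ y ∈ W, (∃ k : ℕ, y ^ p ^ k = 1) → y ∈ Pst) ∧ (p ∣ Nat.card W → Pst ≠ ⊥) := by
  classical
  let P : Sylow p W := default
  have htfae := (isNilpotent_of_finite_tfae (G := W)).out 0 3
  have hn : (P : Subgroup W).Normal := htfae.mp hW p hp P
  refine ⟨(P : Subgroup W).map W.subtype, Subgroup.map_subtype_le _, P.2.map _, ?_, ?_⟩
  · intro y hy ⟨k, hk⟩
    have hpg : IsPGroup p (Subgroup.zpowers (⟨y, hy⟩ : W)) := by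
      rintro ⟨_, ⟨m, rfl⟩⟩
      refine ⟨k, Subtype.ext ?_⟩
      apply Subtype.ext
      simp only [Subgroup.coe_pow, Subgroup.coe_zpow, Subgroup.coe_one]
      rw [← zpow_natCast, ← zpow_mul, mul_comm, zpow_mul, zpow_natCast, hk, one_zpow]
    obtain ⟨Q, hQ⟩ := hpg.exists_le_sylow
    haveI := Sylow.unique_of_normal P hn
    have hQP : Q = P := Subsingleton.elim _ _
    have : (⟨y, hy⟩ : W) ∈ (P : Subgroup W) := hQP ▸ hQ (Subgroup.mem_zpowers _)
    exact ⟨⟨y, hy⟩, this, rfl⟩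
  · intro hpd h
    have h1 : (P : Subgroup W) = ⊥ :=
      (Subgroup.map_eq_bot_iff_of_injective _ W.subtype_injective).mp h
    have h3 := Sylow.card_eq_multiplicity P
    rw [h1, Subgroup.card_bot] at h3
    have h5 : 0 < (Nat.card W).factorization p :=
      hp.out.factorization_pos_of_dvd Nat.card_pos.ne' hpd
    have : 1 < p ^ (Nat.card W).factorization p := Nat.one_lt_pow h5.ne' hp.out.one_lt
    omega

/-- an element of prime order `r` lies in every normal subgroup whose index is prime to `r` -/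
theorem mem_of_not_dvd_index {X : Type*} [Group X] [Finite X] (O : Subgroup X) [O.Normal] {r : ℕ}
    (hr : r.Prime) (hnd : ¬ r ∣ O.index) {y : X} (hy : y ^ r = 1) : y ∈ O := by
  rw [← QuotientGroup.eq_one_iff]
  have h1 : orderOf (y : X ⧸ O) ∣ r := by
    apply orderOf_dvd_of_pow_eq_one
    rw [← QuotientGroup.mk_pow, hy, QuotientGroup.mk_one]
  have h2 : orderOf (y : X ⧸ O) ∣ O.index := by
    rw [Subgroup.index_eq_card]
    exact orderOf_dvd_natCard _
  rcases (Nat.dvd_prime hr).mp h1 with h | h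
  · exact orderOf_eq_one_iff.mp h
  · exact absurd (h ▸ h2) hnd

/-- `O_{p'}(X)` commutes elementwise with every normal `p`-subgroup -/
theorem commute_pPrimeCore {X : Type*} [Group X] [Finite X] {p : ℕ} [hp : Fact p.Prime]
    {Pst : Subgroup X} (hn : Pst.Normal) (hP : IsPGroup p Pst) {o s : X}
    (ho : o ∈ Cfsg.pPrimeCore p X) (hs : s ∈ Pst) : Commute o s := by
  have hO : (Cfsg.pPrimeCore p X).Normal := Cfsg.Agent.Lib.Helper22.pPrimeCore_normal' p X
  have hcop : (Nat.card (Cfsg.pPrimeCore p X)).Coprime (Nat.card Pst) := by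
    obtain ⟨n, hn'⟩ := hP.exists_card_eq
    rw [hn']
    exact Nat.Coprime.pow_right n (Cfsg.Agent.Lib.Helper55.pPrimeCore_card_coprime p)
  have hdis : Disjoint (Cfsg.pPrimeCore p X) Pst :=
    Subgroup.disjoint_of_coprime_natCard hcop
  exact Subgroup.commute_of_normal_of_disjoint _ _ hO hn hdis o s ho hs


open Cfsg.Agent.Lib.Helper10.BG144T (mem_centralizer_singleton)

/-- reduction to an element of prime order -/
theorem exists_prime_order (hG : IsMinSimpleOddOrder G) {M N : Subgroup G} (hM : IsCoatom M)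
    (hN : IsCoatom N) {x : G} (hx : x ∈ sigmaCore M) (hx1 : x ≠ 1)
    (hxM : ¬ centralizer ({x} : Set G) ≤ M) (hxN : centralizer ({x} : Set G) ≤ N) :
    ∃ (q : ℕ) (x0 : G), q.Prime ∧ q ∈ sigma M ∧ x0 ∈ sigmaCore M ∧ orderOf x0 = q ∧
      normalizer ((zpowers x0 : Subgroup G) : Set G) ≤ N := by
  classical
  have hxMem : x ∈ M := (Cfsg.Agent.Lib.Helper47.BG11.sigmaHallIn_of_coatom hG hM).1 hx
  have ho1 : orderOf x ≠ 1 := fun h => hx1 (orderOf_eq_one_iff.mp h)
  have ho0 : orderOf x ≠ 0 := (orderOf_pos x).ne'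
  set q := (orderOf x).minFac with hq_def
  have hqp : q.Prime := Nat.minFac_prime ho1
  have hqx : q ∣ orderOf x := Nat.minFac_dvd _
  have hqσ : q ∈ sigma M :=
    Cfsg.Agent.Lib.Helper10.BG144T.sigma_of_mem_sigmaCore hG hM hx hqp hqx
  set x0 := x ^ (orderOf x / q) with hx0
  have hox0 : orderOf x0 = q := orderOf_pow_orderOf_div ho0 hqx
  set X0 : Subgroup G := zpowers x0 with hX0
  have hX0c : Nat.card X0 = q := by rw [hX0, Nat.card_zpowers, hox0]
  have hX01 : X0 ≠ ⊥ := by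
    intro h
    rw [h, Subgroup.card_bot] at hX0c
    exact hqp.one_lt.ne hX0c
  have hX0M : X0 ≤ M := by
    rw [hX0, zpowers_le]
    exact M.pow_mem hxMem _
  have hX0top : X0 ≠ ⊤ := fun h => hM.1 (top_le_iff.mp (h ▸ hX0M))
  have hCX : centralizer ({x} : Set G) ≤ centralizer (X0 : Set G) := by
    intro c hc
    have hcx : x * c = c * x := mem_centralizer_singleton.mp hc
    rw [mem_centralizer_iff]
    intro y hy
    obtain ⟨k, rfl⟩ := mem_zpowers_iff.mp hy
    have h1 : Commute x c := hcx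
    have h2 : Commute (x ^ (orderOf x / q)) c := h1.pow_left _
    exact (h2.zpow_left k).eq
  have hNtop : normalizer (X0 : Set G) ≠ ⊤ :=
    Cfsg.Agent.Lib.Helper63.BG10.normalizer_ne_top hG hX01 hX0top
  obtain ⟨L, hL, hNL⟩ := (eq_top_or_exists_le_coatom _).resolve_left hNtop
  have hCL : centralizer ({x} : Set G) ≤ L :=
    hCX.trans ((Subgroup.centralizer_le_normalizer (X0 : Set G)).trans hNL)
  obtain ⟨N₀, -, huniq, -⟩ := Cfsg.Agent.S1375.result hG M hM x hx hx1 hxM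
  have h1 : L = N₀ := huniq L hL hCL
  have h2 : N = N₀ := huniq N hN hxN
  refine ⟨q, x0, hqp, hqσ, (sigmaCore M).pow_mem hx _, hox0, ?_⟩
  rw [h2, ← h1]
  exact hNL


/-- the `p`-part of a nilpotent subgroup `W` normalized by `N ≥ W` is normal in `N` -/
theorem pPart_normal {p : ℕ} {W N Pst : Subgroup G} (hN : N ≤ normalizer (W : Set G))
    (hPW : Pst ≤ W) (hP : IsPGroup p Pst)
    (hall : ∀ y ∈ W, (∃ k : ℕ, y ^ p ^ k = 1) → y ∈ Pst) : (Pst.subgroupOf N).Normal := by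
  refine ⟨fun y hy n => ?_⟩
  rw [Subgroup.mem_subgroupOf] at hy ⊢
  have hyW : (y : G) ∈ W := hPW hy
  obtain ⟨k, hk⟩ := hP ⟨(y : G), hy⟩
  have hk' : (y : G) ^ p ^ k = 1 := by
    have := congrArg Subtype.val hk
    simpa using this
  have hconj : (n : G) * (y : G) * (n : G)⁻¹ ∈ W :=
    ((mem_normalizer_iff.mp (hN n.2)) (y : G)).mp hyW
  have : ((n * y * n⁻¹ : N) : G) = (n : G) * (y : G) * (n : G)⁻¹ := by simp
  rw [this]
  apply hall _ hconj
  refine ⟨k, ?_⟩
  rw [conj_pow, hk', mul_one, mul_inv_cancel]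

/-- `p ∣ |M_σ|` for `p ∈ σ(M)` -/
theorem dvd_card_sigmaCore {M : Subgroup G} (hσ : IsPiHallOf (sigma M) (sigmaCore M) M) {p : ℕ}
    (hp : p ∈ sigma M) : p ∣ Nat.card (sigmaCore M) := by
  have h1 := Cfsg.Agent.Lib.Helper76.BGSigU.card_mul_relIndex hσ.1
  have h2 : p ∣ Nat.card (sigmaCore M) * (sigmaCore M).relIndex M := h1 ▸ hp.2.1
  rcases (Nat.Prime.dvd_mul hp.1).mp h2 with h | h
  · exact h
  · exact absurd h (hσ.2.2 p hp.1 hp)


/-- **LEMMA D** (B&G 14.4(d)): in a 14.4-configuration `(M, x, N)`, every prime of `σ(N)` dividing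
`|M|` lies in `β(N)`. -/
theorem lemmaD (hG : IsMinSimpleOddOrder G) {M N : Subgroup G} (hM : IsCoatom M) (hN : IsCoatom N)
    {x : G} (hx : x ∈ sigmaCore M) (hx1 : x ≠ 1) (hxM : ¬ centralizer ({x} : Set G) ≤ M)
    (hxN : centralizer ({x} : Set G) ≤ N) {p : ℕ} (hp : p ∈ sigma N) (hpM : p ∣ Nat.card M) :
    p ∈ beta N := by
  classical
  by_contra hβ
  have c : Cfsg.Agent.Lib.Helper22.BG144d.Cfg M x N := ⟨hG, hM, hx, hx1, hxM, hN, hxN⟩
  have hpp : p.Prime := hp.1
  haveI : Fact p.Prime := ⟨hpp⟩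
  have hpN : p ∣ Nat.card N := hp.2.1
  have hκM : kappa M = ∅ := c.s1436a_kappa ⟨p, hp, hpM⟩
  have hpσM : p ∉ sigma M := fun h => c.sigma_disj p h hp
  have hNM : N ≠ M := c.hNM
  have hσM : IsPiHallOf (sigma M) (sigmaCore M) M := c.hσM
  have hσN : IsPiHallOf (sigma N) (sigmaCore N) N := c.hσN
  obtain ⟨q, x0, hqp, hqσ, hx0, hox0, hNX⟩ := exists_prime_order hG hM hN hx hx1 hxM hxN
  haveI : Fact q.Prime := ⟨hqp⟩
  set X0 : Subgroup G := zpowers x0 with hX0
  have hX0c : Nat.card X0 = q := by rw [hX0, Nat.card_zpowers, hox0]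
  have hX0p : IsPGroup q X0 := IsPGroup.of_card (n := 1) (by rw [hX0c, pow_one])
  have hX01 : X0 ≠ ⊥ := by
    intro h
    rw [h, Subgroup.card_bot] at hX0c
    exact hqp.one_lt.ne hX0c
  have hx0M : x0 ∈ M := hσM.1 hx0
  have hX0M : X0 ≤ M := by rw [hX0, zpowers_le]; exact hx0M
  obtain ⟨hτ, hcompl, hinf, A, hAMN, hAe, hAc, hNA⟩ :=
    Cfsg.Agent.Lib.Helper70.BG14.tau2_of_sigma_normalizer_final hG hM hN hNM hqσ hX0p hX01 hX0M hNX
  have hqN : q ∉ sigma N := hτ.2.1
  have hnotideal : ¬ IsIdealPrime q G :=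
    (Cfsg.Agent.S1408.result hG N hN q hqN hτ.2.2.1 hτ.2.2.2).1
  have hqβM : q ∉ beta M := fun h => hnotideal h.2
  have hAN : A ≤ N := hAMN.trans inf_le_right
  have h17 := Cfsg.Agent.S1417.result hG N hN q hτ A ⟨hAN, hAe, hAc⟩
  have hnilN : Group.IsNilpotent (sigmaCore N) := h17.1
  have hCA : sigmaCore N ⊓ centralizer (A : Set G) = ⊥ := h17.2.2.2.1
  have hNnorm : N ≤ normalizer ((sigmaCore N : Subgroup G) : Set G) :=
    Cfsg.Agent.Lib.Helper76.BGSigU.le_normalizer_sigmaCore' N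
  have hMnorm : M ≤ normalizer ((sigmaCore M : Subgroup G) : Set G) :=
    Cfsg.Agent.Lib.Helper76.BGSigU.le_normalizer_sigmaCore' M
  -- (2) q ≤ p
  have hqp_le : q ≤ p := by
    have h14 := (Cfsg.Agent.S1414.result hG N hN).2.2.2.2 p hpp hpN hβ
    apply h14.2.2 q hqp
    by_contra hnd
    obtain ⟨Pst, hPW, hPp, hPall, hPne⟩ := exists_pPart hnilN p
    have hPn : (Pst.subgroupOf N).Normal := pPart_normal hNnorm hPW hPp hPall
    have hPp' : IsPGroup p (Pst.subgroupOf N) := hPp.comap_subtype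
    haveI := Cfsg.Agent.Lib.Helper22.pPrimeCore_normal' p ↥N
    apply hPne (dvd_card_sigmaCore hσN hp)
    rw [eq_bot_iff, ← hCA]
    intro s hs
    refine ⟨hPW hs, ?_⟩
    show s ∈ centralizer (A : Set G)
    rw [mem_centralizer_iff]
    intro a ha
    have haN : a ∈ N := hAN ha
    have hsN : s ∈ N := hσN.1 (hPW hs)
    have haO : (⟨a, haN⟩ : N) ∈ Cfsg.pPrimeCore p ↥N := by
      apply mem_of_not_dvd_index _ hqp hnd
      apply Subtype.ext
      simpa using hAe.2 a ha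
    have hsP : (⟨s, hsN⟩ : N) ∈ Pst.subgroupOf N := by
      rw [Subgroup.mem_subgroupOf]; exact hs
    have hcomm := commute_pPrimeCore hPn hPp' haO hsP
    exact congrArg Subtype.val hcomm.eq
  -- (3) p ≤ q
  have hpq_le : p ≤ q := by
    have hqM : q ∣ Nat.card M := by
      rw [← hox0]
      have := Subgroup.orderOf_dvd_natCard M hx0M
      exact this
    have h14 := (Cfsg.Agent.S1414.result hG M hM).2.2.2.2 q hqp hqM hqβM
    apply h14.2.2 p hpp
    by_contra hnd
    have hP1 : ¬ (∀ r : ℕ, r.Prime → r ∣ Nat.card M → r ∉ sigma M → r ∈ kappa M) := by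
      intro h
      have := h p hpp hpM hpσM
      rw [hκM] at this
      exact this
    have hp' : p ∉ sigma M ∪ kappa M := by
      rintro (h | h)
      · exact hpσM h
      · rw [hκM] at h; exact h
    have hnilM : Group.IsNilpotent (sigmaCore M) :=
      (Cfsg.Agent.S1429.result hG M hM hP1 p hpM hp' default).2.2
    obtain ⟨Qst, hQW, hQq, hQall, -⟩ := exists_pPart hnilM q
    have hQn : (Qst.subgroupOf M).Normal := pPart_normal hMnorm hQW hQq hQall
    have hQq' : IsPGroup q (Qst.subgroupOf M) := hQq.comap_subtype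
    haveI := Cfsg.Agent.Lib.Helper22.pPrimeCore_normal' q ↥M
    obtain ⟨y, hy⟩ := exists_prime_orderOf_dvd_card' p hpM
    have hyO : y ∈ Cfsg.pPrimeCore q ↥M := by
      apply mem_of_not_dvd_index _ hpp hnd
      rw [← hy]; exact pow_orderOf_eq_one y
    have hx0Q : (⟨x0, hx0M⟩ : M) ∈ Qst.subgroupOf M := by
      rw [Subgroup.mem_subgroupOf]
      apply hQall x0 hx0
      refine ⟨1, ?_⟩
      rw [pow_one, ← hox0]; exact pow_orderOf_eq_one x0
    have hcomm := commute_pPrimeCore hQn hQq' hyO hx0Q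
    have hcomm' : (y : G) * x0 = x0 * (y : G) := congrArg Subtype.val hcomm.eq
    have hyC : (y : G) ∈ centralizer (X0 : Set G) := by
      rw [mem_centralizer_iff]
      intro z hz
      obtain ⟨k, rfl⟩ := mem_zpowers_iff.mp hz
      have h1 : Commute x0 (y : G) := hcomm'.symm
      exact (h1.zpow_left k).eq
    have hyN : (y : G) ∈ N := hNX (Subgroup.centralizer_le_normalizer _ hyC)
    have hyp : IsPGroup p (zpowers (y : G)) := by
      apply IsPGroup.of_card (n := 1)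
      rw [Nat.card_zpowers, pow_one, Subgroup.orderOf_coe, hy]
    have hyσ : zpowers (y : G) ≤ sigmaCore N :=
      Cfsg.Agent.Lib.Helper76.BGSigU.le_sigmaCore_of_isPGroup hσN hp hyp
        (by rw [zpowers_le]; exact hyN)
    have hy1 : (y : G) ∈ sigmaCore N ⊓ M := ⟨hyσ (mem_zpowers _), y.2⟩
    rw [hinf, Subgroup.mem_bot] at hy1
    have : y = 1 := Subtype.ext hy1
    rw [this, orderOf_one] at hy
    exact hpp.one_lt.ne hy
  have hpq : p = q := le_antisymm hpq_le hqp_le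
  exact hqN (hpq ▸ hp)


/-- **(*)** of helper70's CLAIM G: in a 14.4-configuration `(M, x, N)`, for a prime `p ∈ σ(N)` dividing
`|M|` and any subgroup `X` of order `p`, a conjugate of `N` is the only maximal subgroup
over `C_G(X)`. -/
theorem cent_unique (hG : IsMinSimpleOddOrder G) {M N : Subgroup G} (hM : IsCoatom M)
    (hN : IsCoatom N) {x : G} (hx : x ∈ sigmaCore M) (hx1 : x ≠ 1)
    (hxM : ¬ centralizer ({x} : Set G) ≤ M) (hxN : centralizer ({x} : Set G) ≤ N) {p : ℕ}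
    (hp : p ∈ sigma N) (hpM : p ∣ Nat.card M) {X : Subgroup G} (hX : Nat.card X = p) :
    ∃ g : G, X ≤ sigmaCore (cj g N) ∧ centralizer (X : Set G) ≤ cj g N ∧
      ∀ L : Subgroup G, IsCoatom L → centralizer (X : Set G) ≤ L → L = cj g N := by
  classical
  have hβ : p ∈ beta N := lemmaD hG hM hN hx hx1 hxM hxN hp hpM
  have hpp : p.Prime := hp.1
  haveI : Fact p.Prime := ⟨hpp⟩
  have hX1 : X ≠ ⊥ := by
    intro h
    rw [h, Subgroup.card_bot] at hX
    exact hpp.one_lt.ne hX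
  have hXσ : ∀ r : ℕ, r.Prime → r ∣ Nat.card X → r ∈ sigma N := by
    intro r hr hrX
    rw [hX] at hrX
    rw [(Nat.prime_dvd_prime_iff_eq hr hpp).mp hrX]
    exact hp
  obtain ⟨g, hg⟩ := Cfsg.Agent.S1425.result hG N hN X hX1 hXσ
  have hN1 : IsCoatom (cj g⁻¹ N) := Cfsg.Agent.Lib.Helper63.BG13.isCoatom_cj hN g⁻¹
  have hσ1 : p ∈ sigma (cj g⁻¹ N) := by
    rw [Cfsg.Agent.Lib.Helper56.BG147.sigma_cj_eq]; exact hp
  have hβ1 : p ∈ beta (cj g⁻¹ N) := ⟨Cfsg.Agent.Lib.Helper63.BG13.alpha_cj g⁻¹ hβ.1, hβ.2⟩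
  have hXcore : X ≤ sigmaCore (cj g⁻¹ N) := by
    rw [Cfsg.Agent.Lib.Helper56.BG147.sigmaCore_cj]
    intro y hy
    rw [mem_cj, inv_inv]
    exact hg ⟨y, hy, rfl⟩
  have hXN1 : X ≤ cj g⁻¹ N :=
    hXcore.trans (Cfsg.Agent.Lib.Helper47.BG11.sigmaHallIn_of_coatom hG hN1).1
  have h23 := Cfsg.Agent.S1423.result hG (cj g⁻¹ N) hN1 p hσ1 X hXN1 hX default (Or.inl hβ1)
  exact ⟨g⁻¹, hXcore, h23.1.1, h23.1.2⟩

end Cfsg.Agent.Lib.Helper56.BG144D
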