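import Cfsg.Agent.Lib.Helper10.FittingCent
import Cfsg.Agent.Lib.Helper22.Fitting

set_option autoImplicit false
set_option linter.style.haveILetI false
set_option linter.unusedSectionVars false

/-!
# The group-theoretic core of the linking lemma for Bender–Glauberman 9.5

Let `R` be a finite solvable `{t, s}`-group, `t ≠ s` primes.  If a `t`-element `z` centralizes
`O_t(R)` but does not lie in it, and `O_s(R)` is cyclic, then `t < s` (indeed `t ∣ s - 1`).
Consequently a configuration with both `z₁` (for `t`) and `z₂` (for `s`) is impossible.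
-/

namespace Cfsg.Agent.Lib.Helper56.BG95

open Subgroup Cfsg

universe u

variable {R : Type u} [Group R] [Finite R]

/-- `O_r(R) = 1` when `r` does not divide `|R|`. -/
theorem pCore_eq_bot_of_not_dvd {r : ℕ} [Fact r.Prime] (h : ¬ r ∣ Nat.card R) :
    pCore r R = ⊥ := by
  obtain ⟨k, hk⟩ := IsPGroup.iff_card.mp (Cfsg.Agent.Lib.Helper22.pCore_isPGroup' r R)
  have hdvd : Nat.card (pCore r R) ∣ Nat.card R := Subgroup.card_subgroup_dvd_card _
  rcases Nat.eq_zero_or_pos k with rfl | hk0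
  · rw [pow_zero] at hk
    exact Subgroup.card_eq_one.mp hk
  · exfalso
    apply h
    rw [hk] at hdvd
    exact (dvd_pow_self r hk0.ne').trans hdvd

/-- In a `{t, s}`-group, `F(R) ≤ O_t(R) O_s(R)`. -/
theorem fittingSubgroup_le_sup {t s : ℕ} [Fact t.Prime] [Fact s.Prime]
    (hcard : ∀ r : ℕ, r.Prime → r ∣ Nat.card R → r = t ∨ r = s) :
    fittingSubgroup R ≤ pCore t R ⊔ pCore s R := by
  rw [Cfsg.Agent.Lib.Helper22.fittingSubgroup_eq_iSup_pCore]
  apply iSup_le
  intro r
  haveI : Fact (r : ℕ).Prime := ⟨r.2⟩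
  by_cases hr : (r : ℕ) ∣ Nat.card R
  · rcases hcard r r.2 hr with h | h
    · rw [h]; exact le_sup_left
    · rw [h]; exact le_sup_right
  · rw [pCore_eq_bot_of_not_dvd hr]; exact bot_le

/-- **Half of the core.** -/
theorem prime_lt_of_core [Group.IsSolvable R] {t s : ℕ} [Fact t.Prime] [Fact s.Prime] (hts : t ≠ s)
    (hcard : ∀ r : ℕ, r.Prime → r ∣ Nat.card R → r = t ∨ r = s)
    (hO' : IsCyclic ↥(pCore s R)) {z : R} (hz : ∃ k : ℕ, z ^ (t ^ k) = 1)
    (hc : z ∈ centralizer (pCore t R : Set R)) (hn : z ∉ pCore t R) : t < s := by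
  have htp : t.Prime := Fact.out
  have hsp : s.Prime := Fact.out
  haveI hN : (pCore s R).Normal := Cfsg.Agent.Lib.Helper22.pCore_normal' s R
  obtain ⟨k, hk⟩ := hz
  -- `z` does not centralize `O_s(R)`
  have hnc : z ∉ centralizer (pCore s R : Set R) := by
    intro hcs
    apply hn
    have h1 : pCore t R ⊔ pCore s R ≤ centralizer (zpowers z : Set R) := by
      apply sup_le
      · rw [← Subgroup.le_centralizer_iff, zpowers_le]; exact hc
      · rw [← Subgroup.le_centralizer_iff, zpowers_le]; exact hcs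
    have h2 : z ∈ centralizer (fittingSubgroup R : Set R) := by
      have h3 : zpowers z ≤ centralizer ((pCore t R ⊔ pCore s R : Subgroup R) : Set R) :=
        Subgroup.le_centralizer_iff.mp h1
      exact centralizer_le (fittingSubgroup_le_sup hcard) (h3 (mem_zpowers z))
    have h4 : z ∈ fittingSubgroup R := Cfsg.Agent.Lib.Helper10.centralizer_fitting_le h2
    have h5 : z ∈ pCore t R ⊔ pPrimeCore t R := by
      have h6 : pCore s R ≤ pPrimeCore t R :=
        Cfsg.Agent.Lib.Helper22.pCore_le_pPrimeCore (Ne.symm hts)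
      exact (sup_le_sup_left h6 _) (fittingSubgroup_le_sup hcard h4)
    exact Cfsg.Agent.Lib.Helper22.mem_pCore_of_mem_sup h5 hk
  -- the automorphism induced by `z` on `O_s(R)`
  obtain ⟨φ, hφ⟩ : ∃ φ : MulAut ↥(pCore s R), φ = MulAut.conjNormal (H := pCore s R) z := ⟨_, rfl⟩
  have hφ1 : φ ≠ 1 := by
    intro h1
    apply hnc
    rw [mem_centralizer_iff]
    intro y hy
    have h2 : φ ⟨y, hy⟩ = ⟨y, hy⟩ := by rw [h1]; rfl
    rw [hφ] at h2
    have h3 : z * y * z⁻¹ = y := by
      have := congrArg Subtype.val h2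
      simpa [MulAut.conjNormal_apply] using this
    calc y * z = (z * y * z⁻¹) * z := by rw [h3]
      _ = z * y := by group
  have hφk : φ ^ (t ^ k) = 1 := by
    rw [hφ, ← map_pow, hk, map_one]
  obtain ⟨j, hj, hoj⟩ := (Nat.dvd_prime_pow htp).mp (orderOf_dvd_of_pow_eq_one hφk)
  have hj0 : j ≠ 0 := by
    rintro rfl
    rw [pow_zero] at hoj
    exact hφ1 (orderOf_eq_one_iff.mp hoj)
  have hdvd : orderOf φ ∣ Nat.card (MulAut ↥(pCore s R)) := orderOf_dvd_natCard φ
  rw [IsCyclic.card_mulAut] at hdvd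
  obtain ⟨m, hm⟩ := IsPGroup.iff_card.mp (Cfsg.Agent.Lib.Helper22.pCore_isPGroup' s R)
  have htd : t ∣ Nat.totient (s ^ m) := by
    rw [← hm]
    exact (dvd_pow_self t hj0).trans (hoj ▸ hdvd)
  rcases Nat.eq_zero_or_pos m with rfl | hm0
  · rw [pow_zero, Nat.totient_one] at htd
    exact absurd (Nat.le_of_dvd one_pos htd) (not_le.mpr htp.one_lt)
  · rw [Nat.totient_prime_pow hsp hm0] at htd
    rcases (Nat.Prime.dvd_mul htp).mp htd with h | h
    · exfalso
      exact hts ((Nat.prime_dvd_prime_iff_eq htp hsp).mp (htp.dvd_of_dvd_pow h))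
    · have hs1 : 0 < s - 1 := Nat.sub_pos_of_lt hsp.one_lt
      have := Nat.le_of_dvd hs1 h
      omega

/-- **The core of the linking lemma.** -/
theorem core_false [Group.IsSolvable R] {t s : ℕ} [Fact t.Prime] [Fact s.Prime] (hts : t ≠ s)
    (hcard : ∀ r : ℕ, r.Prime → r ∣ Nat.card R → r = t ∨ r = s)
    (hO : IsCyclic ↥(pCore t R)) (hO' : IsCyclic ↥(pCore s R)) {z₁ z₂ : R}
    (hz₁ : ∃ k : ℕ, z₁ ^ (t ^ k) = 1) (hz₂ : ∃ k : ℕ, z₂ ^ (s ^ k) = 1)
    (hc₁ : z₁ ∈ centralizer (pCore t R : Set R)) (hc₂ : z₂ ∈ centralizer (pCore s R : Set R))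
    (hn₁ : z₁ ∉ pCore t R) (hn₂ : z₂ ∉ pCore s R) : False := by
  have h1 : t < s := prime_lt_of_core hts hcard hO' hz₁ hc₁ hn₁
  have h2 : s < t := prime_lt_of_core (Ne.symm hts)
    (fun r hr hd => (hcard r hr hd).symm) hO hz₂ hc₂ hn₂
  omega

end Cfsg.Agent.Lib.Helper56.BG95
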