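import Cfsg.Agent.S1400
import Cfsg.Agent.S1401
import Cfsg.Agent.Lib.Helper56.BG95Core
import Cfsg.Agent.Lib.Helper64.BG95Glue
import Cfsg.Agent.Lib.Helper63.BG10
import Cfsg.Agent.Lib.Helper17.PGroupNorm
import Cfsg.Agent.Lib.Helper24.InvCompl
import Cfsg.Agent.Lib.Helper49.RankOneCyclic
import Cfsg.Agent.Lib.Helper10.Thompson
import Cfsg.Agent.Lib.Helper84.PCore
import Cfsg.Agent.Lib.Helper23.FitUniqueB
import Cfsg.Agent.Lib.Helper23.FitLocal

set_option autoImplicit false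
set_option linter.style.haveILetI false
set_option linter.unusedSectionVars false

/-!
# BG 9.5: the back half of the linking argument (helper60's Claims 1-4)
-/

namespace Cfsg.Agent.Lib.Helper56.BG95

open Subgroup Cfsg

universe u

variable {G : Type u} [Group G] [Finite G]

/-- Normalizer growth: if the `t`-group `O` normalizes the `t`-group `E` and `E ≰ O`, some element
of `E` outside `O` normalizes `O`. -/
theorem exists_mem_normalizer_not_mem {t : ℕ} [Fact t.Prime] {O E : Subgroup G}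
    (hO : IsPGroup t O) (hE : IsPGroup t E) (hOE : O ≤ normalizer (E : Set G))
    (hne : ¬ E ≤ O) : ∃ e ∈ E, e ∉ O ∧ e ∈ normalizer (O : Set G) := by
  have hT : IsPGroup t (O ⊔ E : Subgroup G) := IsPGroup.to_sup_of_normal_right' hO hE hOE
  have hlt : O < O ⊔ E := by
    refine lt_of_le_of_ne le_sup_left ?_
    intro h
    apply hne
    rw [h]
    exact le_sup_right
  have h1 := Cfsg.Agent.Lib.Helper17.lt_inf_normalizer_of_lt (O ⊔ E) O hT hlt
  obtain ⟨x, hx, hxO⟩ := SetLike.exists_of_lt h1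
  obtain ⟨o, ho, e, he, rfl⟩ :=
    Cfsg.Agent.Lib.Helper24.exists_mul_of_mem_sup_of_le_normalizer O E hOE x hx.1
  refine ⟨e, he, ?_, ?_⟩
  · intro heO
    exact hxO (O.mul_mem ho heO)
  · have h2 : o⁻¹ ∈ normalizer (O : Set G) := le_normalizer (O.inv_mem ho)
    have h3 := (normalizer (O : Set G)).mul_mem h2 hx.2
    simpa using h3

/-- Claim 1 of the linking argument. -/
theorem claim_one (hG : Cfsg.IsMinSimpleOddOrder G) {t : ℕ} [Fact t.Prime] {H E X O : Subgroup G}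
    (hEn : H ≤ normalizer (E : Set G)) (hEt : IsPGroup t E) (hEe : ∀ x ∈ E, x ^ t = 1)
    (hEnc : ¬ IsCyclic E)
    (hU : ∀ U : Subgroup G, U ≤ E → ¬ IsCyclic U → ∀ M, IsCoatom M → U ≤ M → M = H)
    {z : G} (hc : E ⊓ X = zpowers z) (hOt : IsPGroup t O) (hOH : O ≤ H) (hOX : O ≤ X)
    (hz1 : z ≠ 1) {z' : G} (hz'N : z' ∈ normalizer (O : Set G)) (hz' : z' ∉ H) : z ∉ O := by
  intro hzO
  have ht : t.Prime := Fact.out
  have hzE : z ∈ E := (hc ▸ mem_zpowers z : z ∈ E ⊓ X).1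
  have hO0 : O ≠ ⊥ := by
    intro h
    rw [h, mem_bot] at hzO
    exact hz1 hzO
  have hOtop : O ≠ ⊤ := Cfsg.Agent.Lib.Helper64.ne_top_of_isPGroup hG hOt
  have hNtop : normalizer (O : Set G) ≠ ⊤ :=
    Cfsg.Agent.Lib.Helper63.BG10.normalizer_ne_top hG hO0 hOtop
  have hEO : ¬ E ≤ O := by
    intro h
    apply hEnc
    have h1 : E = zpowers z := by
      rw [← hc]
      exact (inf_of_le_left (h.trans hOX)).symm
    rw [h1]
    infer_instance
  obtain ⟨e, heE, heO, heN⟩ := exists_mem_normalizer_not_mem hOt hEt (hOH.trans hEn) hEO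
  have hUnc : ¬ IsCyclic ↥(E ⊓ normalizer (O : Set G) : Subgroup G) := by
    intro hcyc
    have hd : Nat.card ↥(E ⊓ normalizer (O : Set G) : Subgroup G) ∣ t :=
      Cfsg.Agent.Lib.Helper64.card_dvd_of_isCyclic_of_exp hcyc (fun x hx => hEe x hx.1)
    have hzU : zpowers z ≤ E ⊓ normalizer (O : Set G) := by
      rw [zpowers_le]
      exact ⟨hzE, le_normalizer hzO⟩
    have hcz : Nat.card (zpowers z) = t := by
      rw [Nat.card_zpowers]
      exact orderOf_eq_prime (hEe z hzE) hz1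
    have hle : Nat.card ↥(E ⊓ normalizer (O : Set G) : Subgroup G) ≤ Nat.card (zpowers z) := by
      rw [hcz]
      exact Nat.le_of_dvd ht.pos hd
    have heq : zpowers z = E ⊓ normalizer (O : Set G) :=
      Subgroup.eq_of_le_of_card_ge hzU hle
    have : e ∈ zpowers z := by
      rw [heq]
      exact ⟨heE, heN⟩
    exact heO ((zpowers_le.mpr hzO) this)
  obtain ⟨M, hM, hNM⟩ := Cfsg.Agent.Lib.Helper64.BG9.exists_coatom_ge hNtop
  have hMH : M = H := hU _ inf_le_left hUnc M hM (inf_le_right.trans hNM)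
  exact hz' (hMH ▸ hNM hz'N)

/-- An elementary abelian `s`-group of order greater than `s` is not cyclic. -/
theorem not_isCyclic_of_elemAb {s : ℕ} [Fact s.Prime] {U : Subgroup G}
    (hU : Cfsg.IsElementaryAbelian s U) (hcard : s < Nat.card U) : ¬ IsCyclic U := by
  intro hc
  have hs : s.Prime := Fact.out
  have hd : Nat.card U ∣ s := Cfsg.Agent.Lib.Helper64.card_dvd_of_isCyclic_of_exp hc hU.2
  exact absurd (Nat.le_of_dvd hs.pos hd) (not_le.mpr hcard)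

/-- Claim 3 of the linking argument. -/
theorem claim_three (hG : Cfsg.IsMinSimpleOddOrder G) {s : ℕ} [Fact s.Prime] {H : Subgroup G}
    (hH : IsCoatom H) (hHs : ¬ Cfsg.PRankLE s 2 ↥(Cfsg.fittingOf H)) {O : Subgroup G}
    (hOs : IsPGroup s O) (hOH : O ≤ H) {z : G} (hzs : z ^ s = 1)
    (hzc : ∀ x ∈ O, x * z = z * x) (hzO : z ∉ O) {z' : G}
    (hz'N : z' ∈ normalizer (O : Set G)) (hz' : z' ∉ H) : IsCyclic O := by
  by_contra hnc
  have hs : s.Prime := Fact.out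
  have hO0 : O ≠ ⊥ := by
    intro h
    apply hnc
    rw [h]
    infer_instance
  have hOtop : O ≠ ⊤ := Cfsg.Agent.Lib.Helper64.ne_top_of_isPGroup hG hOs
  have hNtop : normalizer (O : Set G) ≠ ⊤ :=
    Cfsg.Agent.Lib.Helper63.BG10.normalizer_ne_top hG hO0 hOtop
  -- `s` is odd
  have hs2 : s ≠ 2 := by
    obtain ⟨k, hk⟩ := IsPGroup.iff_card.mp hOs
    apply Cfsg.Agent.Lib.Helper23.ne_two_of_dvd_card_subgroup hG (S := O)
    rw [hk]
    apply dvd_pow_self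
    rintro rfl
    rw [pow_zero] at hk
    exact hO0 (Subgroup.card_eq_one.mp hk)
  -- an elementary abelian subgroup `U` of `O` of order `> s`
  have hr1 : ¬ Cfsg.Agent.Lib.Helper49.RankLEOne s ↥O := fun h =>
    hnc (Cfsg.Agent.Lib.Helper49.isCyclic_of_isPGroup_rankLEOne hs2 hOs h)
  unfold Cfsg.Agent.Lib.Helper49.RankLEOne at hr1
  push Not at hr1
  obtain ⟨A', hA'c, hA'e, hA'card⟩ := hr1
  set U : Subgroup G := A'.map O.subtype with hUdef
  have hUO : U ≤ O := Subgroup.map_subtype_le A'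
  have hUe : Cfsg.IsElementaryAbelian s U := by
    refine ⟨inferInstance, ?_⟩
    rintro _ ⟨a, ha, rfl⟩
    have := hA'e a ha
    simpa using congrArg Subtype.val this
  have hUcard : s < Nat.card U := by
    have : Nat.card U = Nat.card A' :=
      Subgroup.card_map_of_injective (Subgroup.subtype_injective O)
    rw [this]
    exact hA'card
  have hUnc : ¬ IsCyclic U := not_isCyclic_of_elemAb hUe hUcard
  have hUp : IsPGroup s U := hOs.to_le hUO
  -- `V = U × ⟨z⟩`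
  have hVe : Cfsg.IsElementaryAbelian s (U ⊔ zpowers z) :=
    Cfsg.Agent.Lib.Helper10.elemAb_sup_zpowers hUe (fun a ha => hzc a (hUO ha)) hzs
  have hUV : U < U ⊔ zpowers z := by
    refine lt_of_le_of_ne le_sup_left ?_
    intro h
    apply hzO
    apply hUO
    rw [h]
    exact (le_sup_right : zpowers z ≤ U ⊔ zpowers z) (mem_zpowers z)
  have hVp : IsPGroup s ↥(U ⊔ zpowers z : Subgroup G) := by
    intro x
    refine ⟨1, ?_⟩
    rw [pow_one]
    exact Subtype.ext (by simpa using hVe.2 x.1 x.2)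
  have hVcard : s ^ 2 < Nat.card ↥(U ⊔ zpowers z : Subgroup G) := by
    obtain ⟨a, ha⟩ := IsPGroup.iff_card.mp hUp
    obtain ⟨b, hb⟩ := IsPGroup.iff_card.mp hVp
    have h1 : Nat.card U < Nat.card ↥(U ⊔ zpowers z : Subgroup G) := by
      refine lt_of_le_of_ne (Nat.le_of_dvd Nat.card_pos (Subgroup.card_dvd_of_le hUV.le)) ?_
      intro heq
      exact hUV.ne (Subgroup.eq_of_le_of_card_ge hUV.le (le_of_eq heq.symm))
    rw [ha] at hUcard h1
    rw [hb] at h1 ⊢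
    have ha1 : 1 < a := by
      have : s ^ 1 < s ^ a := by rwa [pow_one]
      exact (Nat.pow_lt_pow_iff_right hs.one_lt).mp this
    have hab : a < b := (Nat.pow_lt_pow_iff_right hs.one_lt).mp h1
    exact (Nat.pow_lt_pow_iff_right hs.one_lt).mpr (by omega)
  have hVC : U ⊔ zpowers z ≤ centralizer (U : Set G) := by
    intro v hv
    rw [mem_centralizer_iff]
    intro u hu
    have h1 : (⟨u, (le_sup_left : U ≤ U ⊔ zpowers z) hu⟩ : ↥(U ⊔ zpowers z : Subgroup G)) *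
        ⟨v, hv⟩ = ⟨v, hv⟩ * ⟨u, (le_sup_left : U ≤ U ⊔ zpowers z) hu⟩ :=
      hVe.1.is_comm.comm _ _
    exact congrArg Subtype.val h1
  have hU3 : ¬ Cfsg.PRankLE s 2 ↥(centralizer (U : Set G)) := by
    intro h
    haveI := hVe.1
    have h1 := h ((U ⊔ zpowers z).subgroupOf (centralizer (U : Set G))) inferInstance (by
      intro a ha
      rw [mem_subgroupOf] at ha
      exact Subtype.ext (by simpa using hVe.2 a.1 ha))
    rw [Cfsg.Agent.Lib.Helper17.card_subgroupOf_of_le hVC] at h1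
    exact absurd h1 (not_le.mpr hVcard)
  -- the uniqueness subgroup `E₀` of `F(H)`
  have hF' := hHs
  unfold Cfsg.PRankLE at hF'
  push Not at hF'
  obtain ⟨E', hE'c, hE'e, hE'card⟩ := hF'
  set E₀ : Subgroup G := E'.map (Cfsg.fittingOf H).subtype with hE₀
  have hE₀c : IsMulCommutative E₀ := inferInstance
  have hE₀e : ∀ a ∈ E₀, a ^ s = 1 := by
    rintro _ ⟨a, ha, rfl⟩
    have := hE'e a ha
    simpa using congrArg Subtype.val this
  have hE₀card : s ^ 2 < Nat.card E₀ := by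
    have : Nat.card E₀ = Nat.card E' :=
      Subgroup.card_map_of_injective (Subgroup.subtype_injective _)
    rw [this]
    exact hE'card
  have hE₀p : IsPGroup s E₀ := by
    intro x
    refine ⟨1, ?_⟩
    rw [pow_one]
    exact Subtype.ext (by simpa using hE₀e x.1 x.2)
  have hE₀3 : ¬ Cfsg.PRankLE s 2 ↥E₀ := by
    intro h
    have h1 := h ⊤ inferInstance (by
      intro a _
      exact Subtype.ext (by simpa using hE₀e a.1 a.2))
    rw [Subgroup.card_top] at h1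
    exact absurd h1 (not_le.mpr hE₀card)
  have hE₀U : Cfsg.InUniqueMaximal E₀ :=
    Cfsg.Agent.S1401.result hG H hH s hHs E₀ hE₀p hE₀c hE₀3
  have hUU : Cfsg.InUniqueMaximal U :=
    Cfsg.Agent.S1400.result hG s E₀ U hE₀p hE₀c hE₀3 hE₀U hUp hUnc hU3
  obtain ⟨M, hM, hNM⟩ := Cfsg.Agent.Lib.Helper64.BG9.exists_coatom_ge hNtop
  have hMH : M = H :=
    hUU.unique ⟨hM, (hUO.trans le_normalizer).trans hNM⟩ ⟨hH, hUO.trans hOH⟩
  exact hz' (hMH ▸ hNM hz'N)

/-- `O_t(R) ≤ R₁` for a Sylow `t`-subgroup `R₁` of `R`. -/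
theorem pCoreOf_le_of_sylow {t : ℕ} [Fact t.Prime] {R R1 : Subgroup G} (hR1t : IsPGroup t R1)
    (hR1i : ¬ t ∣ R1.relIndex R) : Cfsg.Agent.Lib.Helper23.pCoreOf t R ≤ R1 := by
  have hp : IsPGroup t ↥(R1.subgroupOf R) := hR1t.comap_subtype
  let S1 : Sylow t ↥R := hp.toSylow hR1i
  have h1 : Cfsg.pCore t ↥R ≤ (S1 : Subgroup ↥R) := Cfsg.Agent.Lib.Helper84.pCore_le_sylow S1
  rintro _ ⟨y, hy, rfl⟩
  have h2 : y ∈ (S1 : Subgroup ↥R) := h1 hy
  have h3 : y ∈ R1.subgroupOf R := (IsPGroup.mem_toSylow hp hR1i).mp h2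
  exact mem_subgroupOf.mp h3

/-- The back half of the linking argument: the configuration produced by the front half is
impossible. -/
theorem link_false (hG : Cfsg.IsMinSimpleOddOrder G) {t s : ℕ} [Fact t.Prime] [Fact s.Prime]
    (hts : t ≠ s) {H1 H2 E1 E2 : Subgroup G} (hH1 : IsCoatom H1) (hH2 : IsCoatom H2)
    (hHt : ¬ Cfsg.PRankLE t 2 ↥(Cfsg.fittingOf H1))
    (hLs : ¬ Cfsg.PRankLE s 2 ↥(Cfsg.fittingOf H2))
    (hE1n : H1 ≤ normalizer (E1 : Set G)) (hE1t : IsPGroup t E1) (hE1e : ∀ x ∈ E1, x ^ t = 1)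
    (hE1nc : ¬ IsCyclic E1)
    (hU1 : ∀ U : Subgroup G, U ≤ E1 → ¬ IsCyclic U → ∀ M, IsCoatom M → U ≤ M → M = H1)
    (hE2n : H2 ≤ normalizer (E2 : Set G)) (hE2t : IsPGroup s E2) (hE2e : ∀ x ∈ E2, x ^ s = 1)
    (hE2nc : ¬ IsCyclic E2)
    (hU2 : ∀ U : Subgroup G, U ≤ E2 → ¬ IsCyclic U → ∀ M, IsCoatom M → U ≤ M → M = H2)
    {c z1 z2 : G} {R R1 R2 : Subgroup G} (hz1 : z1 ∉ H2) (hz2 : z2 ∉ H1)
    (hc1 : E1 ⊓ centralizer ({c} : Set G) = zpowers z1)
    (hc2 : E2 ⊓ centralizer ({c} : Set G) = zpowers z2)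
    (hRc : R ≤ centralizer ({c} : Set G))
    (hRts : ∀ q : ℕ, q.Prime → q ∣ Nat.card R → q = t ∨ q = s)
    (hR1t : IsPGroup t R1) (hR2s : IsPGroup s R2)
    (hR1i : ¬ t ∣ R1.relIndex R) (hR2i : ¬ s ∣ R2.relIndex R)
    (hz1R : z1 ∈ R) (hz2R : z2 ∈ R) (hR1H : R1 ≤ H1) (hR2H : R2 ≤ H2)
    (hz1c : ∀ x ∈ R1, x * z1 = z1 * x) (hz2c : ∀ x ∈ R2, x * z2 = z2 * x) : False := by
  have hz1E : z1 ∈ E1 := (hc1 ▸ mem_zpowers z1 : z1 ∈ E1 ⊓ centralizer ({c} : Set G)).1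
  have hz2E : z2 ∈ E2 := (hc2 ▸ mem_zpowers z2 : z2 ∈ E2 ⊓ centralizer ({c} : Set G)).1
  have hz1ne : z1 ≠ 1 := by rintro rfl; exact hz1 H2.one_mem
  have hz2ne : z2 ≠ 1 := by rintro rfl; exact hz2 H1.one_mem
  have hRtop : R ≠ ⊤ := by
    intro h
    apply hE1nc
    have hX : centralizer ({c} : Set G) = ⊤ := top_le_iff.mp (h ▸ hRc)
    have h1 : E1 = zpowers z1 := by rw [← hc1, hX, inf_top_eq]
    rw [h1]
    infer_instance
  haveI : Group.IsSolvable ↥R := Cfsg.Agent.Lib.Helper23.isSolvable_of_ne_top hG hRtop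
  -- the cores
  have hOR1 : Cfsg.Agent.Lib.Helper23.pCoreOf t R ≤ R1 := pCoreOf_le_of_sylow hR1t hR1i
  have hOR2 : Cfsg.Agent.Lib.Helper23.pCoreOf s R ≤ R2 := pCoreOf_le_of_sylow hR2s hR2i
  have hOt := Cfsg.Agent.Lib.Helper23.isPGroup_pCoreOf t R
  have hOs := Cfsg.Agent.Lib.Helper23.isPGroup_pCoreOf s R
  have hNt := Cfsg.Agent.Lib.Helper23.le_normalizer_pCoreOf t R
  have hNs := Cfsg.Agent.Lib.Helper23.le_normalizer_pCoreOf s R
  have hORt := Cfsg.Agent.Lib.Helper23.pCoreOf_le t R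
  have hORs := Cfsg.Agent.Lib.Helper23.pCoreOf_le s R
  -- Claim 1
  have hn1 : z1 ∉ Cfsg.Agent.Lib.Helper23.pCoreOf t R :=
    claim_one hG hE1n hE1t hE1e hE1nc hU1 hc1 hOt (hOR1.trans hR1H) (hORt.trans hRc) hz1ne
      (hNt hz2R) hz2
  have hn2 : z2 ∉ Cfsg.Agent.Lib.Helper23.pCoreOf s R :=
    claim_one hG hE2n hE2t hE2e hE2nc hU2 hc2 hOs (hOR2.trans hR2H) (hORs.trans hRc) hz2ne
      (hNs hz1R) hz1
  -- Claim 3
  have hcyc2 : IsCyclic ↥(Cfsg.Agent.Lib.Helper23.pCoreOf s R) :=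
    claim_three hG hH2 hLs hOs (hOR2.trans hR2H) (hE2e z2 hz2E)
      (fun x hx => hz2c x (hOR2 hx)) hn2 (hNs hz1R) hz1
  have hcyc1 : IsCyclic ↥(Cfsg.Agent.Lib.Helper23.pCoreOf t R) :=
    claim_three hG hH1 hHt hOt (hOR1.trans hR1H) (hE1e z1 hz1E)
      (fun x hx => hz1c x (hOR1 hx)) hn1 (hNt hz2R) hz2
  -- transfer to the type `↥R`
  have hcyc1' : IsCyclic ↥(Cfsg.pCore t ↥R) :=
    haveI : IsCyclic ↥(map R.subtype (Cfsg.pCore t ↥R)) := hcyc1
    isCyclic_of_surjective (Subgroup.equivMapOfInjective (Cfsg.pCore t ↥R) R.subtype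
      R.subtype_injective).symm (MulEquiv.surjective _)
  have hcyc2' : IsCyclic ↥(Cfsg.pCore s ↥R) :=
    haveI : IsCyclic ↥(map R.subtype (Cfsg.pCore s ↥R)) := hcyc2
    isCyclic_of_surjective (Subgroup.equivMapOfInjective (Cfsg.pCore s ↥R) R.subtype
      R.subtype_injective).symm (MulEquiv.surjective _)
  refine core_false (R := ↥R) hts hRts hcyc1' hcyc2' (z₁ := ⟨z1, hz1R⟩) (z₂ := ⟨z2, hz2R⟩)
    ⟨1, ?_⟩ ⟨1, ?_⟩ ?_ ?_ ?_ ?_
  · rw [pow_one]; exact Subtype.ext (by simpa using hE1e z1 hz1E)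
  · rw [pow_one]; exact Subtype.ext (by simpa using hE2e z2 hz2E)
  · rw [mem_centralizer_iff]
    intro y hy
    have hy1 : (y : G) ∈ R1 := hOR1 ⟨y, hy, rfl⟩
    exact Subtype.ext (by simpa using hz1c y hy1)
  · rw [mem_centralizer_iff]
    intro y hy
    have hy1 : (y : G) ∈ R2 := hOR2 ⟨y, hy, rfl⟩
    exact Subtype.ext (by simpa using hz2c y hy1)
  · intro h
    exact hn1 ⟨⟨z1, hz1R⟩, h, rfl⟩
  · intro h
    exact hn2 ⟨⟨z2, hz2R⟩, h, rfl⟩

end Cfsg.Agent.Lib.Helper56.BG95
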