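import Mathlib

/-!
# Norm operators `nm x e = ∑_{j<p} x^j • e` for a group acting on an additive group (helper56)
-/

set_option autoImplicit false

namespace Cfsg.Agent.Lib.Helper56

open Finset

variable {P E : Type*} [Group P] [AddCommGroup E] [DistribMulAction P E]

/-- `nm p x e = ∑_{j<p} x^j • e`. -/
def nm (p : ℕ) (x : P) (e : E) : E := ∑ j ∈ range p, x ^ j • e

theorem nm_add (p : ℕ) (x : P) (e e' : E) : nm p x (e + e') = nm p x e + nm p x e' := by
  simp only [nm, smul_add, sum_add_distrib]

theorem nm_zero (p : ℕ) (x : P) : nm p x (0 : E) = 0 := by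
  simp [nm]

theorem nm_nsmul (p : ℕ) (x : P) (n : ℕ) (e : E) : nm p x (n • e) = n • nm p x e := by
  simp only [nm, smul_sum]
  apply sum_congr rfl
  intro j _
  rw [smul_comm]

theorem nm_sub (p : ℕ) (x : P) (e e' : E) : nm p x (e - e') = nm p x e - nm p x e' := by
  simp only [nm, smul_sub, sum_sub_distrib]

/-- `x • nm x e = nm x e` when `x ^ p = 1`. -/
theorem smul_nm_self {p : ℕ} {x : P} (hx : x ^ p = 1) (e : E) : x • nm p x e = nm p x e := by
  simp only [nm, smul_sum]
  have h1 : ∀ j, x • x ^ j • e = x ^ (j + 1) • e := by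
    intro j; rw [← mul_smul, ← pow_succ']
  simp only [h1]
  have h2 := sum_range_succ' (fun j => x ^ j • e) p
  have h3 := sum_range_succ (fun j => x ^ j • e) p
  rw [h3] at h2
  simp only [hx, pow_zero, one_smul] at h2
  exact (add_right_cancel h2).symm

/-- If `x` fixes `e` then `nm p x e = p • e`. -/
theorem nm_of_fixed (p : ℕ) {x : P} {e : E} (h : x • e = e) : nm p x e = p • e := by
  have h1 : ∀ j : ℕ, x ^ j • e = e := by
    intro j
    induction j with
    | zero => simp
    | succ j ih => rw [pow_succ, mul_smul, h, ih]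
  simp only [nm, h1, sum_const, card_range]

/-- Conjugation: `g • nm x e = nm (g x g⁻¹) (g • e)`. -/
theorem smul_nm (p : ℕ) (g x : P) (e : E) : g • nm p x e = nm p (g * x * g⁻¹) (g • e) := by
  simp only [nm, smul_sum]
  apply sum_congr rfl
  intro j _
  rw [conj_pow, ← mul_smul, ← mul_smul]
  congr 1
  group

/-- If `y` commutes with `x` then `y • nm x e = nm x (y • e)`. -/
theorem smul_nm_of_commute (p : ℕ) {y x : P} (h : Commute y x) (e : E) :
    y • nm p x e = nm p x (y • e) := by
  rw [smul_nm]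
  congr 1
  rw [h.eq]; group

/-- If `y` commutes with `x` and fixes `e`, then `y` fixes `nm x e`. -/
theorem smul_nm_of_commute_of_fixed (p : ℕ) {y x : P} (h : Commute y x) {e : E} (he : y • e = e) :
    y • nm p x e = nm p x e := by
  rw [smul_nm_of_commute p h, he]

theorem nm_one (p : ℕ) (e : E) : nm p (1 : P) e = p • e :=
  nm_of_fixed p (one_smul _ _)

/-- Generation identity: for commuting `b, z` with `z ^ p = 1` (`p` prime, `z ≠ 1`) and `z` acting
without nonzero fixed points, `∑_{i<p} nm (b z^i) e = p • e`. -/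
theorem sum_nm_mul_pow {p : ℕ} (hp : p.Prime) {b z : P} (hbz : Commute b z) (hz : z ^ p = 1)
    (hz1 : z ≠ 1) (hfz : ∀ e : E, z • e = e → e = 0) (e : E) :
    ∑ i ∈ range p, nm p (b * z ^ i) e = p • e := by
  haveI : Fact p.Prime := ⟨hp⟩
  have hord : orderOf z = p := orderOf_eq_prime hz hz1
  have h1 : ∀ i j : ℕ, (b * z ^ i) ^ j • e = b ^ j • (z ^ j) ^ i • e := by
    intro i j
    rw [(hbz.pow_right i).mul_pow, mul_smul, ← pow_mul, ← pow_mul, mul_comm]
  simp only [nm, h1]
  rw [sum_comm]
  simp only [← smul_sum]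
  rw [sum_eq_single 0]
  · simp
  · intro j hj hj0
    have h2 : ∑ i ∈ range p, (z ^ j) ^ i • e = nm p (z ^ j) e := rfl
    rw [h2]
    have h3 : (z ^ j) • nm p (z ^ j) e = nm p (z ^ j) e :=
      smul_nm_self (by rw [← pow_mul, mul_comm, pow_mul, hz, one_pow]) e
    have hcop : Nat.Coprime j (orderOf z) := by
      rw [hord]
      apply Nat.Coprime.symm
      rw [Nat.Prime.coprime_iff_not_dvd hp]
      intro hdvd
      have := Nat.le_of_dvd (Nat.pos_of_ne_zero hj0) hdvd
      exact absurd (mem_range.mp hj) (not_lt.mpr this)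
    obtain ⟨m, hm⟩ := exists_pow_eq_self_of_coprime hcop
    have h4 : z • nm p (z ^ j) e = nm p (z ^ j) e := by
      have h5 : ∀ k : ℕ, (z ^ j) ^ k • nm p (z ^ j) e = nm p (z ^ j) e := by
        intro k
        induction k with
        | zero => simp
        | succ k ih => rw [pow_succ, mul_smul, h3, ih]
      have := h5 m
      rwa [hm] at this
    rw [hfz _ h4, smul_zero]
  · intro h
    exact absurd (mem_range.mpr hp.pos) h

end Cfsg.Agent.Lib.Helper56
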