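import Cfsg.Agent.Lib.Helper56.P3Defs
import Cfsg.Agent.Lib.Helper77.PimVanish
import Cfsg.Agent.Lib.Helper61.P3_L4a
import Cfsg.Agent.Lib.Helper25.P3_L4b
import Cfsg.Agent.Lib.Helper25.P3_L2a
import Cfsg.Agent.Lib.Helper27.P3_L2b
import Cfsg.Agent.Lib.Helper5.P3_L2c
import Cfsg.Agent.Lib.Helper46.P3_L2dCore
import Cfsg.Agent.Lib.Helper97.P3_L4c
import Cfsg.Agent.Lib.Helper97.P3_L4d
import Cfsg.Agent.Lib.Helper53.P3_L5
import Cfsg.Agent.Lib.Helper53.P3_L6
import Cfsg.Agent.Lib.Helper75.P3_L7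
import Cfsg.Agent.Lib.Helper74.Osima5
import Cfsg.Agent.Lib.Helper81.LocalRing

set_option autoImplicit false

namespace Cfsg.Agent.Lib.P3

open Cfsg Cfsg.Agent.Lib.Helper77 Cfsg.Agent.Lib.Helper16 Cfsg.Agent.Lib.Helper81
open scoped ComplexConjugate

universe u

variable {G : Type u} [Group G] [Fintype G]

/-- P3-L2d assembled from the landed leaves L2a, L2b, L2c and helper46's translation core. -/
theorem p3_main_L2d {p : ℕ} {M : Ideal AlgInt} (hpM : IsPModular p M)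
    (t : G → ℂ) (ht : ∀ g, MemLocalRing M (t g)) (haug : ∑ g, t g = 1) :
    ∃ ε w : G → ℂ, (∀ g, MemLocalRing M (ε g)) ∧ conv ε ε = ε ∧ ε = conv t w ∧ ∑ g, ε g = 1 := by
  have hM : M.IsPrime := isPrime_of_isPModular hpM
  haveI : IsLocalRing (localSubring M hM) := isLocalRing_localSubring hM
  exact p3_L2d_core hM (fun m => p3_L2a_split m)
    (fun T g h a b h1 h2 h3 h4 => p3_L2b_idem T g h a b h1 h2 h3 h4)
    (fun T => p3_L2c_annih hM T) t ht haug

theorem p3_main_sum_conj (ε : G → ℂ) (h : G) :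
    ∑ g : G, ε (h * g⁻¹ * h⁻¹) = ∑ z : G, ε z := by
  refine Fintype.sum_equiv ((Equiv.inv G).trans (MulAut.conj h).toEquiv) _ _ ?_
  intro g
  simp [MulAut.conj_apply]

theorem p3_main [Fintype (IrrCharacter G)] (p a n : ℕ) (hp : p.Prime) (M : Ideal AlgInt)
    (hpM : IsPModular p M) (Q R : Subgroup G) (hQ : ¬ p ∣ Nat.card Q) (hR : ¬ p ∣ Nat.card R)
    (hcop : (Nat.card Q).Coprime (Nat.card R)) (hG : Nat.card G = p ^ a * n)
    (hQR : Nat.card Q * Nat.card R = n) (hn : ¬ p ∣ n)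
    (hcount : Nat.card {g : G // ¬ p ∣ orderOf g} = n) :
    ∃ N : Subgroup G, N.Normal ∧ Nat.card N = n := by
  classical
  have hM : M.IsPrime := isPrime_of_isPModular hpM
  set eQ : G → ℂ := avgCoeff Q with heQ
  set eR : G → ℂ := avgCoeff R with heR
  set t : G → ℂ := conv eQ (conv eR eQ) with ht_def
  have hQmem := p3_L4c_avg_mem hpM Q hQ
  have hRmem := p3_L4c_avg_mem hpM R hR
  have ht : ∀ g, MemLocalRing M (t g) :=
    p3_L4d_conv_mem hM _ _ hQmem (p3_L4d_conv_mem hM _ _ hRmem hQmem)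
  have haug : ∑ g, t g = 1 := by
    rw [ht_def, p3_L4d_conv_aug, p3_L4d_conv_aug, (p3_L4c_avg Q).2, (p3_L4c_avg R).2]
    norm_num
  obtain ⟨ε, w, hεmem, hεidem, hεtw, hεaug⟩ := p3_main_L2d hpM t ht haug
  -- representations
  choose nχ ρχ hρirr hρchar using fun χ : IrrCharacter G => χ.2
  let E : ∀ χ : IrrCharacter G, (G → ℂ) → Module.End ℂ (Fin (nχ χ) → ℂ) :=
    fun χ f => ∑ g, f g • ρχ χ g
  have hEconv : ∀ χ (f₁ f₂ : G → ℂ), E χ (conv f₁ f₂) = E χ f₁ * E χ f₂ :=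
    fun χ f₁ f₂ => sum_conv_smul (ρχ χ) f₁ f₂
  let d : IrrCharacter G → ℕ := fun χ => Module.finrank ℂ (LinearMap.range (E χ ε))
  let A : IrrCharacter G → ℕ := fun χ => Module.finrank ℂ (LinearMap.range (E χ eQ))
  let B : IrrCharacter G → ℕ := fun χ => Module.finrank ℂ (LinearMap.range (E χ eR))
  have hd : ∀ χ : IrrCharacter G, ∑ z, ε z * (χ : G → ℂ) z = (d χ : ℂ) := by
    intro χ
    have := p3_L4a_trace_idem (ρχ χ) ε hεidem
    rw [hρchar χ] at this
    exact this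
  have hA : ∀ χ : IrrCharacter G, ∑ z, eQ z * (χ : G → ℂ) z = (A χ : ℂ) := by
    intro χ
    have := p3_L4a_trace_idem (ρχ χ) eQ (p3_L4c_avg Q).1
    rw [hρchar χ] at this
    exact this
  have hB : ∀ χ : IrrCharacter G, ∑ z, eR z * (χ : G → ℂ) z = (B χ : ℂ) := by
    intro χ
    have := p3_L4a_trace_idem (ρχ χ) eR (p3_L4c_avg R).1
    rw [hρchar χ] at this
    exact this
  have hdA : ∀ χ, d χ ≤ A χ := by
    intro χ
    have h1 : E χ ε = 1 * E χ eQ * (E χ (conv eR eQ) * E χ w) := by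
      rw [hεtw, hEconv, ht_def, hEconv, one_mul, mul_assoc]
    show Module.finrank ℂ (LinearMap.range (E χ ε)) ≤ _
    rw [h1]
    exact p3_L4b_rank_le _ _ _
  have hdB : ∀ χ, d χ ≤ B χ := by
    intro χ
    have h1 : E χ ε = E χ eQ * E χ eR * (E χ eQ * E χ w) := by
      rw [hεtw, hEconv, ht_def, hEconv, hEconv]
      simp only [mul_assoc]
    show Module.finrank ℂ (LinearMap.range (E χ ε)) ≤ _
    rw [h1]
    exact p3_L4b_rank_le _ _ _
  have hphi : ∀ g : G, ∑ χ : IrrCharacter G, (d χ : ℂ) * (χ : G → ℂ) g =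
      ∑ h : G, ε (h * g⁻¹ * h⁻¹) := by
    intro g
    rw [← p3_L5_phi_eq ε g]
    exact Finset.sum_congr rfl fun χ _ => by rw [hd χ]
  have hvan : ∀ g : G, p ∣ orderOf g →
      ∑ χ : IrrCharacter G, (d χ : ℂ) * (χ : G → ℂ) g = 0 := by
    intro g hg
    rw [hphi g]
    let eps : G → localSubring M hM := fun z => ⟨ε z, hεmem z⟩
    have hidem : ∀ z, ∑ h, eps h * eps (h⁻¹ * z) = eps z := by
      intro z
      apply Subtype.ext
      have := congrFun hεidem z
      unfold conv at this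
      simpa [eps] using this
    have hy : p ∣ orderOf g⁻¹ := by rwa [orderOf_inv]
    haveI : Fact p.Prime := ⟨hp⟩
    exact Cfsg.Agent.Lib.Helper77.Pim.pim_vanish hpM hM eps hidem hy
  have hmean : ∑ g : G, ∑ χ : IrrCharacter G, (d χ : ℂ) * (χ : G → ℂ) g = (Nat.card G : ℂ) := by
    simp_rw [hphi]
    rw [Finset.sum_comm]
    simp_rw [p3_main_sum_conj, hεaug]
    simp [Nat.card_eq_fintype_card]
  have hnorm : ∑ χ : IrrCharacter G, (d χ) ^ 2 ≤ p ^ a := by
    have h1 : ∑ χ : IrrCharacter G, (d χ) ^ 2 ≤ ∑ χ : IrrCharacter G, A χ * B χ :=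
      Finset.sum_le_sum fun χ _ => by
        have := hdA χ
        have := hdB χ
        nlinarith
    have hQ0 : (Nat.card Q : ℂ) ≠ 0 := by exact_mod_cast Nat.card_pos.ne'
    have hR0 : (Nat.card R : ℂ) ≠ 0 := by exact_mod_cast Nat.card_pos.ne'
    have h2 : ((∑ χ : IrrCharacter G, A χ * B χ : ℕ) : ℂ) = ((p ^ a : ℕ) : ℂ) := by
      push_cast
      have := p3_L6_sum_AB Q R hcop
      simp_rw [← heQ, ← heR, hA, hB] at this
      rw [this, hG, ← hQR]
      push_cast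
      field_simp
    have h3 : ∑ χ : IrrCharacter G, A χ * B χ = p ^ a := by exact_mod_cast h2
    omega
  exact p3_L7_endgame p a n hp hG hn hcount d hvan hmean hnorm

end Cfsg.Agent.Lib.P3
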